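import Mathlib.Analysis.Matrix.PosDef
import Mathlib.LinearAlgebra.Matrix.SchurComplement
import Mathlib.LinearAlgebra.Dimension.Finite

/-! A lower bound for Gram determinants of integral matrices. -/

set_option autoImplicit false

namespace Cfsg

open scoped Matrix

variable {ι κ : Type*} [Fintype κ] [DecidableEq κ] [DecidableEq ι]

/-- the Gram matrix of the rows, restricted to the columns in `T` -/
def gramOn (T : Finset ι) (a : κ → ι → ℤ) : Matrix κ κ ℝ :=
  fun i j => ∑ x ∈ T, (a i x : ℝ) * a j x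

omit [DecidableEq κ] [DecidableEq ι] in
theorem dotProduct_gramOn (T : Finset ι) (a : κ → ι → ℤ) (y : κ → ℝ) :
    y ⬝ᵥ (gramOn T a *ᵥ y) = ∑ x ∈ T, (∑ i, y i * a i x) ^ 2 := by
  simp only [dotProduct, Matrix.mulVec, gramOn, sq, Finset.sum_mul, Finset.mul_sum]
  rw [Finset.sum_comm (s := T)]
  refine Finset.sum_congr rfl fun i _ => ?_
  rw [Finset.sum_comm (s := T)]
  exact Finset.sum_congr rfl fun j _ => Finset.sum_congr rfl fun x _ => by ring

omit [DecidableEq κ] [DecidableEq ι] in
theorem posDef_gramOn {T : Finset ι} {a : κ → ι → ℤ}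
    (h : ∀ y : κ → ℝ, (∀ x ∈ T, ∑ i, y i * a i x = 0) → y = 0) : (gramOn T a).PosDef := by
  refine Matrix.PosDef.of_dotProduct_mulVec_pos (Matrix.ext fun i j => ?_) fun y hy => ?_
  · simp [gramOn, mul_comm]
  · rw [star_trivial, dotProduct_gramOn]
    refine (Finset.sum_nonneg fun _ _ => sq_nonneg _).lt_of_ne' fun h0 => hy (h y fun x hx => ?_)
    exact pow_eq_zero_iff two_ne_zero |>.1
      ((Finset.sum_eq_zero_iff_of_nonneg fun _ _ => sq_nonneg _).1 h0 x hx)

omit [DecidableEq ι] in
theorem exists_int_det_gramOn (T : Finset ι) (a : κ → ι → ℤ) : ∃ n : ℤ, (gramOn T a).det = n := by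
  refine ⟨Matrix.det (Matrix.of fun i j => ∑ x ∈ T, a i x * a j x), ?_⟩
  rw [← eq_intCast (Int.castRingHom ℝ), RingHom.map_det]
  congr 1
  ext i j
  simp [gramOn]

theorem card_le_det_gramOn_aux (a : κ → ι → ℤ) (n : ℕ) : ∀ T : Finset ι, T.card = n →
    (∀ y : κ → ℝ, (∀ x ∈ T, ∑ i, y i * a i x = 0) → y = 0) → (∀ x ∈ T, ∃ i, a i x ≠ 0) →
    (n : ℝ) + 1 ≤ (gramOn T a).det + Fintype.card κ := by
  have key : ∀ T : Finset ι, (∀ y : κ → ℝ, (∀ x ∈ T, ∑ i, y i * a i x = 0) → y = 0) →
      1 ≤ (gramOn T a).det := fun T h => by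
    have h1 := (posDef_gramOn h).det_pos
    obtain ⟨m, hm⟩ := exists_int_det_gramOn T a
    rw [hm] at h1 ⊢
    exact_mod_cast h1
  induction n with
  | zero => exact fun T _ h _ => by have := key T h; simp only [Nat.cast_zero]; linarith [(Nat.cast_nonneg (Fintype.card κ) : (0 : ℝ) ≤ _)]
  | succ n ih =>
    intro T hT h hne
    by_cases hn : n + 1 ≤ Fintype.card κ
    · have := key T h
      have : ((n + 1 : ℕ) : ℝ) ≤ Fintype.card κ := by exact_mod_cast hn
      linarith
    have h1 : ¬ LinearIndependent ℝ fun x : T => fun i => (a i x : ℝ) := fun h1 => hn (by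
      simpa [hT] using h1.fintype_card_le_finrank)
    obtain ⟨g, hg, x, hx⟩ := Fintype.not_linearIndependent_iff.1 h1
    have h2 : ∀ y : κ → ℝ, (∀ z ∈ T.erase x, ∑ i, y i * a i z = 0) → y = 0 := by
      intro y hy
      have h3 : ∑ z : T, g z * ∑ i, y i * a i z = 0 := by
        simp only [Finset.mul_sum]
        rw [Finset.sum_comm]
        refine Finset.sum_eq_zero fun i _ => ?_
        have := congrFun hg i
        simp only [Finset.sum_apply, Pi.smul_apply, smul_eq_mul, Pi.zero_apply] at this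
        rw [← mul_zero (y i), ← this, Finset.mul_sum]
        exact Finset.sum_congr rfl fun z _ => by ring
      rw [Finset.sum_eq_single x (fun z _ hz => by
        rw [hy z (Finset.mem_erase.2 ⟨fun h => hz (Subtype.ext h), z.2⟩), mul_zero]) (by simp),
        mul_eq_zero, or_iff_right hx] at h3
      refine h y fun z hz => ?_
      by_cases hzx : z = x
      · rw [hzx, h3]
      · exact hy z (Finset.mem_erase.2 ⟨hzx, hz⟩)
    have h3 := ih _ (by rw [Finset.card_erase_of_mem x.2, hT]; rfl) h2
      fun z hz => hne z (Finset.mem_of_mem_erase hz)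
    have h4 := posDef_gramOn h2
    have h5 : gramOn T a = gramOn (T.erase x) a + Matrix.replicateCol Unit (fun i => (a i x : ℝ)) *
        Matrix.replicateRow Unit (fun i => (a i x : ℝ)) := by
      ext i j
      simp only [gramOn, Matrix.add_apply, Matrix.mul_apply, Finset.univ_unique,
        Finset.sum_singleton, Matrix.replicateCol_apply, Matrix.replicateRow_apply]
      rw [Finset.sum_erase_add _ _ x.2]
    have h6 : (gramOn (T.erase x) a).det < (gramOn T a).det := by
      have h7 := h4.inv.dotProduct_mulVec_pos (x := fun i => (a i x : ℝ)) fun h => by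
        obtain ⟨i, hi⟩ := hne x x.2
        exact hi (by simpa using congrFun h i)
      rw [h5, Matrix.det_add_replicateCol_mul_replicateRow h4.det_pos.ne'.isUnit,
        lt_mul_iff_one_lt_right h4.det_pos, Matrix.det_unique, Matrix.add_apply,
        Matrix.one_apply_eq, lt_add_iff_pos_right, Matrix.mul_assoc]
      exact h7
    obtain ⟨m, hm⟩ := exists_int_det_gramOn T a
    obtain ⟨m', hm'⟩ := exists_int_det_gramOn (T.erase x) a
    rw [hm, hm'] at h6
    rw [hm'] at h3
    have : (m' : ℝ) + 1 ≤ m := by exact_mod_cast h6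
    rw [hm]; push_cast; linarith

/-- an integral `r × k` matrix of rank `r` without zero column has Gram determinant
at least `k - r + 1` -/
theorem card_le_det_gramOn {T : Finset ι} {a : κ → ι → ℤ} (h : (gramOn T a).det ≠ 0)
    (hne : ∀ x ∈ T, ∃ i, a i x ≠ 0) : (T.card : ℝ) + 1 ≤ (gramOn T a).det + Fintype.card κ := by
  refine card_le_det_gramOn_aux a _ T rfl (fun y hy => ?_) hne
  refine Matrix.eq_zero_of_vecMul_eq_zero h (funext fun j => ?_)
  simp only [Matrix.vecMul, dotProduct, gramOn, Finset.mul_sum, Pi.zero_apply]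
  rw [Finset.sum_comm]
  refine Finset.sum_eq_zero fun x hx => ?_
  rw [← zero_mul (a j x : ℝ), ← hy x hx, Finset.sum_mul]
  exact Finset.sum_congr rfl fun i _ => by ring

/-- the minimum of the form on the complement of vectors with Gram matrix `I + e J` -/
theorem card_le_form_of_gram {B : Finset ι} {c : κ → ι → ℤ} {e : ℕ}
    (hcc : ∀ i j, ∑ x ∈ B, c i x * c j x = e + if i = j then 1 else 0)
    (hne : ∀ x ∈ B, ∃ i, c i x ≠ 0) (η : ι → ℤ) {q : ℤ}
    (hq : q = (1 + e * Fintype.card κ) * (∑ x ∈ B, η x * η x - ∑ i, (∑ x ∈ B, η x * c i x) ^ 2) +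
      e * (∑ i, ∑ x ∈ B, η x * c i x) ^ 2) (h0 : q ≠ 0) :
    (B.card : ℤ) ≤ q + Fintype.card κ := by
  set N : ℝ := 1 + e * Fintype.card κ with hN
  have hN0 : N ≠ 0 := by positivity
  set a : κ → ℝ := fun i => ∑ x ∈ B, (η x : ℝ) * c i x with ha
  set Gm : Matrix κ κ ℝ := (1 : Matrix κ κ ℝ) + Matrix.replicateCol Unit (fun _ : κ => (e : ℝ)) *
    Matrix.replicateRow Unit (fun _ : κ => (1 : ℝ)) with hG
  have hG' : ∀ i j, Gm i j = e + if i = j then 1 else 0 := fun i j => by
    rw [hG, Matrix.add_apply]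
    simp [Matrix.mul_apply, Matrix.one_apply, add_comm]
  have h1 : gramOn B (Sum.elim c fun _ : Unit => η) = Matrix.fromBlocks Gm
      (Matrix.replicateCol Unit a) (Matrix.replicateRow Unit a)
      (Matrix.of fun _ _ => ∑ x ∈ B, (η x : ℝ) * η x) := by
    ext (i | i) (j | j)
    · rw [Matrix.fromBlocks_apply₁₁, hG']
      simp only [gramOn, Sum.elim_inl]
      exact_mod_cast hcc i j
    · simp [gramOn, ha, mul_comm]
    · simp [gramOn, ha]
    · simp [gramOn]
  have h2 : Gm * Matrix.of (fun i j => (if i = j then 1 else 0) - e / N) = 1 := by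
    ext i j
    simp only [Matrix.mul_apply, hG', Matrix.of_apply, add_mul, mul_sub, Finset.sum_add_distrib,
      Finset.sum_sub_distrib, Matrix.one_apply, mul_ite, ite_mul, mul_one, mul_zero, one_mul,
      zero_mul, Finset.sum_ite_eq, Finset.sum_ite_eq', Finset.mem_univ, if_true, Finset.sum_const,
      Finset.card_univ, nsmul_eq_mul]
    field_simp
    rw [hN]
    split_ifs <;> ring
  letI := invertibleOfRightInverse _ _ h2
  have h3 : (gramOn B (Sum.elim c fun _ : Unit => η)).det = q := by
    have h5 : Gm.det = N := by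
      rw [hG, Matrix.det_one_add_replicateCol_mul_replicateRow, hN]
      simp [dotProduct, mul_comm]
    rw [h1, Matrix.det_fromBlocks₁₁, Matrix.det_unique (_ - _), h5, hq]
    change _ * (_ - (_ * Matrix.of (fun i j => (if i = j then 1 else 0) - e / N) * _ :
      Matrix Unit Unit ℝ) _ _) = _
    simp only [Matrix.mul_apply, Matrix.of_apply, Matrix.replicateCol_apply,
      Matrix.replicateRow_apply, mul_sub, Finset.sum_sub_distrib, mul_ite, mul_one, mul_zero,
      Finset.sum_ite_eq', Finset.mem_univ, if_true, sub_mul, ← Finset.sum_mul, ← Finset.mul_sum]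
    push_cast
    simp only [sq]
    change _ = N * _ - N * ∑ i, a i * a i + e * ((∑ i, a i) * ∑ i, a i)
    field_simp
    ring
  have h4 := card_le_det_gramOn (T := B) (a := Sum.elim c fun _ : Unit => η)
    (by rw [h3]; exact_mod_cast h0) fun x hx => (hne x hx).elim fun i hi => ⟨Sum.inl i, hi⟩
  rw [h3, Fintype.card_sum, Fintype.card_unit] at h4
  have : (B.card : ℝ) ≤ q + Fintype.card κ := by push_cast at h4; linarith
  exact_mod_cast this

end Cfsg
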