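import Cfsg.Agent.Lin.Small
import Cfsg.Agent.CT.Indicator

/-! Families of exceptional characters when `C_G(P) = P × Z(G)`. -/

set_option autoImplicit false
set_option linter.unusedSectionVars false

namespace Cfsg

open scoped ComplexConjugate commutatorElement

universe u v

variable {G : Type u} [Group G]

/-- `χ` lies over the character `φ` of the centre -/
def OverCen (φ : Subgroup.center G →* ℂˣ) (χ : G → ℂ) : Prop :=
  ∀ (z : Subgroup.center G) (g : G), χ (z * g) = φ z * χ g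

theorem IrrCharacter.exists_overCen [Finite G] (χ : IrrCharacter G) : ∃ φ, OverCen φ χ.1 := by
  obtain ⟨l, hl, -⟩ := χ.isCharacter.exists_hom_of_le_charCenter
    (fun h => χ.one_ne_zero (by rw [h]; rfl)) χ.center_le_charCenter
  exact ⟨l, hl⟩

theorem OverCen.mul {φ φ' : Subgroup.center G →* ℂˣ} {χ χ' : G → ℂ} (h : OverCen φ χ)
    (h' : OverCen φ' χ') : OverCen (φ * φ') (χ * χ') := fun z g => by
  simp only [Pi.mul_apply, h z g, h' z g, MonoidHom.mul_apply, Units.val_mul]; ring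

theorem OverCen.cconj [Finite G] {φ : Subgroup.center G →* ℂˣ} {χ : G → ℂ} (h : OverCen φ χ) :
    OverCen φ⁻¹ fun g => conj (χ g) := fun z g => by
  simp only [h z g, map_mul, conj_unitsHom, map_inv, MonoidHom.inv_apply]

theorem OverCen.sq {φ : Subgroup.center G →* ℂˣ} {χ : G → ℂ} (h : OverCen φ χ) (ε : ℂ) :
    OverCen (φ * φ) fun g => (χ g ^ 2 + ε * χ (g * g)) / 2 := fun z g => by
  have h1 : (z : G) * g * (z * g) = z * (z * (g * g)) := by
    rw [mul_assoc, ← mul_assoc g, Subgroup.mem_center_iff.1 z.2 g, mul_assoc]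
  simp only [h1, h z, MonoidHom.mul_apply, Units.val_mul]; ring

theorem OverCen.of_constituent [Fintype G] {φ : Subgroup.center G →* ℂˣ} {χ : G → ℂ}
    (h : OverCen φ χ) {η : IrrCharacter G} (h0 : classInner χ η.1 ≠ 0) : OverCen φ η.1 := by
  obtain ⟨φ', h'⟩ := η.exists_overCen
  intro z g
  have h1 : classInner χ η.1 = φ z * conj (φ' z : ℂ) * classInner χ η.1 := by
    rw [classInner_def, mul_left_comm]
    congr 1
    rw [Finset.mul_sum, ← Equiv.sum_comp (Equiv.mulLeft (z : G))]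
    exact Finset.sum_congr rfl fun g _ => by
      rw [Equiv.coe_mulLeft, h z, h' z, map_mul]; ring
  have h2 := (mul_eq_right₀ h0).1 h1.symm
  rw [conj_unitsHom, ← Units.val_mul, Units.val_eq_one, map_inv, mul_inv_eq_one] at h2
  rw [h2, h' z]

/-- the character of the normalizer on the fixed points -/
theorem IsCharacter.isCharacter_fix [Finite G] {χ : G → ℂ} (hχ : IsCharacter G χ)
    (P : Subgroup G) [Fintype P] : IsCharacter (Subgroup.normalizer (P : Set G))
      fun n => (Nat.card P : ℂ)⁻¹ * ∑ v : P, χ (n * v) := by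
  obtain ⟨m, ρ, rfl⟩ := hχ
  have h0 : (Nat.card P : ℂ) ≠ 0 := by exact_mod_cast Nat.card_pos.ne'
  have h1 : ∀ u : P, ρ u * ∑ v : P, ρ v = ∑ v : P, ρ v := fun u => by
    rw [Finset.mul_sum]
    exact Fintype.sum_equiv (Equiv.mulLeft u) _ _ fun v => by simp
  have := isCharacter_trace_mul_proj (ρ.comp (Subgroup.normalizer (P : Set G)).subtype)
    ((Nat.card P : ℂ)⁻¹ • ∑ v : P, ρ v) (by
      rw [smul_mul_smul_comm, Finset.sum_mul, Finset.sum_congr rfl fun u _ => h1 u,
        Finset.sum_const, Finset.card_univ, ← Nat.cast_smul_eq_nsmul ℂ, smul_smul,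
        ← Nat.card_eq_fintype_card, inv_mul_cancel_right₀ h0]) fun n => by
      rw [mul_smul_comm, smul_mul_assoc, Finset.mul_sum, Finset.sum_mul]
      congr 1
      refine Fintype.sum_equiv (P.normalizerMonoidHom n).toEquiv _ _ fun v => ?_
      change ρ n * _ = ρ (n * v * (n : G)⁻¹) * ρ n
      rw [← map_mul, ← map_mul, inv_mul_cancel_right]
  convert this using 2 with n
  simp [Finset.mul_sum, Representation.character]

/-- a frame in a group with `C_G(P) = P × Z(G)` -/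
structure CenFrame (p : ℕ) (P : Sylow p G) extends AutFrame p (P : Subgroup G) where
  nn : ¬ (P : Subgroup G).Normal
  two_le : 2 ≤ e
  cen : ∀ s ∈ Subgroup.centralizer ((P : Subgroup G) : Set G), ¬ p ∣ orderOf s →
    s ∈ Subgroup.center G

namespace CenFrame

variable [Finite G] {p : ℕ} [hp : Fact p.Prime] {P : Sylow p G} (F : CenFrame p P)

include F in
theorem center_reg {z : G} (hz : z ∈ Subgroup.center G) : ¬ p ∣ orderOf z := fun hd => by
  obtain ⟨x, u, s, hu, hu1, hs, hsr, h⟩ := exists_conj_eq_sec P F.card hd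
  have h1 : u ∈ Subgroup.center G := by
    rw [Subgroup.mem_center_iff.1 hz x, mul_inv_cancel_right] at h
    simpa [h] using mul_mem hz (inv_mem (F.cen s hs hsr))
  refine F.nn ?_
  rw [eq_zpowers_of_card_prime F.card hu hu1]
  exact ⟨fun a ha g => by
    rwa [Subgroup.mem_center_iff.1 (Subgroup.zpowers_le.2 h1 ha) g, mul_inv_cancel_right]⟩

include F in
theorem not_dvd_card_center : ¬ p ∣ Nat.card (Subgroup.center G) := fun h => by
  obtain ⟨z, hz⟩ := exists_prime_orderOf_dvd_card' p h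
  exact F.center_reg z.2 (by rw [Subgroup.orderOf_coe, hz])

include F in
theorem exists_decomp {c : G} (hc : c ∈ Subgroup.centralizer ((P : Subgroup G) : Set G)) :
    ∃ z ∈ Subgroup.center G, ∃ v ∈ (P : Subgroup G), c = z * v := by
  obtain ⟨u, hu, hu1⟩ := exists_ne_one_of_card_prime F.card
  obtain ⟨k, hk⟩ := exists_orderOf_pPart (p := p) c
  exact ⟨_, F.cen _ (pRegPart_mem p hc) (not_dvd_orderOf_pRegPart c), _,
    mem_sylow_of_commute_of_card_prime P F.card hu hu1
      (IsPGroup.of_card (by rw [Nat.card_zpowers, hk])) (pPart_mem p hc u hu),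
    (pRegPart_mul_pPart p c).symm⟩

theorem h_notMem : F.h ∉ Subgroup.centralizer ((P : Subgroup G) : Set G) := fun h => by
  have h1 := F.pow_mem_centralizer_iff.1 ((pow_one F.h).symm ▸ h)
  have := Nat.le_of_dvd one_pos h1
  have := F.two_le
  omega

theorem h_reg (i : ℕ) : ¬ p ∣ orderOf (F.h ^ i) := fun h =>
  not_dvd_orderOf_of_mem_normalizer P F.card F.h_mem F.h_notMem (h.trans (orderOf_pow_dvd i))

theorem h_pow_mem : F.h ^ F.e ∈ Subgroup.center G :=
  F.cen _ (F.pow_mem_centralizer_iff.2 dvd_rfl) (F.h_reg _)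

include F in
theorem bijective_cen : Function.Bijective fun q : Subgroup.center G × (P : Subgroup G) =>
    (⟨q.1 * q.2, mul_mem (Subgroup.center_le_centralizer _ q.1.2)
      (le_centralizer_of_card_prime F.card q.2.2)⟩ :
        Subgroup.centralizer ((P : Subgroup G) : Set G)) := by
  refine ⟨fun ⟨z, v⟩ ⟨z', v'⟩ h => ?_, fun c => ?_⟩
  · have h1 : (z : G) * v = z' * v' := congrArg Subtype.val h
    have h2 : (z' : G)⁻¹ * z = v' * (v : G)⁻¹ := by
      rw [inv_mul_eq_iff_eq_mul, ← mul_assoc, ← h1, mul_inv_cancel_right]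
    have h3 : (v' : G) * (v : G)⁻¹ = 1 := by
      by_contra h0
      refine F.center_reg (mul_mem (inv_mem z'.2) z.2) ?_
      rw [h2, orderOf_eq_of_card_prime F.card (mul_mem v'.2 (inv_mem v.2)) h0]
    rw [h3, inv_mul_eq_one] at h2
    exact Prod.ext (Subtype.ext h2.symm) (Subtype.ext (mul_inv_eq_one.1 h3).symm)
  · obtain ⟨z, hz, v, hv, h⟩ := F.exists_decomp c.2
    exact ⟨(⟨z, hz⟩, ⟨v, hv⟩), Subtype.ext h.symm⟩

include F in
theorem card_centralizer : Nat.card (Subgroup.centralizer ((P : Subgroup G) : Set G)) =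
    Nat.card (Subgroup.center G) * p := by
  rw [← Nat.card_eq_of_bijective _ F.bijective_cen, Nat.card_prod, F.card]

include F in
theorem sum_centralizer [Fintype (Subgroup.centralizer ((P : Subgroup G) : Set G))]
    [Fintype (P : Subgroup G)] {f : Subgroup.centralizer ((P : Subgroup G) : Set G) → ℂ}
    {f' : ↥(P : Subgroup G) → ℂ}
    (h : ∀ (z : Subgroup.center G) (v : (P : Subgroup G))
      (c : Subgroup.centralizer ((P : Subgroup G) : Set G)), (c : G) = z * v → f c = f' v) :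
    ∑ c, f c = Nat.card (Subgroup.center G) * ∑ v, f' v := by
  have := Fintype.ofFinite (Subgroup.center G)
  rw [← F.bijective_cen.sum_comp, Fintype.sum_prod_type, Nat.card_eq_fintype_card,
    ← nsmul_eq_mul, ← Finset.card_univ, ← Finset.sum_const]
  exact Finset.sum_congr rfl fun z _ => Finset.sum_congr rfl fun v _ => h z v _ rfl

theorem sum_coset [Fintype (P : Subgroup G)] {χ : G → ℂ} (hχ : IsClassFunction G χ) {i : ℕ}
    (hi : ¬ F.e ∣ i) : ∑ v : (P : Subgroup G), χ (F.h ^ i * v) = p * χ (F.h ^ i) := by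
  rw [Finset.sum_congr rfl (g := fun _ => χ (F.h ^ i)), Finset.sum_const, Finset.card_univ,
    ← Nat.card_eq_fintype_card, F.card, nsmul_eq_mul]
  intro v _
  obtain ⟨w, -, hw⟩ := exists_conj_eq_mul_of_card_prime F.card (pow_mem F.h_mem i)
    (mt F.pow_mem_centralizer_iff.1 hi) v.2
  rw [← hw, hχ]

theorem sum_sum_coset [Fintype (P : Subgroup G)] {χ : G → ℂ} (hχ : IsClassFunction G χ) (a : ℂ) :
    ∑ i ∈ Finset.range F.e, a ^ i * ∑ v : (P : Subgroup G), χ (F.h ^ i * v) =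
      ∑ v : (P : Subgroup G), χ v - p * χ 1 +
        p * ∑ i ∈ Finset.range F.e, a ^ i * χ (F.h ^ i) := by
  obtain ⟨e, he⟩ := Nat.exists_eq_add_one_of_ne_zero F.e_pos.ne'
  rw [he, Finset.sum_range_succ', Finset.sum_range_succ', mul_add, Finset.mul_sum,
    Finset.sum_congr rfl fun i hi => by
      rw [F.sum_coset hχ (Nat.not_dvd_of_pos_of_lt (by omega)
        (by have := Finset.mem_range.1 hi; omega)), mul_left_comm]]
  simp only [pow_zero, one_mul, ← Finset.mul_sum]
  ring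

/-- the dimension of the space of `N`-invariants -/
theorem card_mul_fixDim_normalizer [Fintype (P : Subgroup G)] {χ : G → ℂ} (hχ : IsCharacter G χ)
    (h1 : OverCen 1 χ) {N : Subgroup G} (hN : N = Subgroup.normalizer ((P : Subgroup G) : Set G)) :
    (F.e * p : ℂ) * fixDim N χ = ∑ v : (P : Subgroup G), χ v - p * χ 1 +
        p * ∑ i ∈ Finset.range F.e, χ (F.h ^ i) := by
  subst hN
  have := Fintype.ofFinite (Subgroup.normalizer ((P : Subgroup G) : Set G))
  have := Fintype.ofFinite (Subgroup.centralizer ((P : Subgroup G) : Set G))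
  have h0 : (Nat.card (Subgroup.center G) : ℂ) ≠ 0 := by exact_mod_cast Nat.card_pos.ne'
  have h2 := hχ.card_mul_fixDim (Subgroup.normalizer ((P : Subgroup G) : Set G))
  have h3 := F.sum_sum_coset hχ.isClassFunction 1
  simp only [one_pow, one_mul] at h3
  rw [F.sum_normalizer, F.card_normalizer, F.card_centralizer, Finset.sum_congr rfl fun i _ =>
    F.sum_centralizer (f' := fun v => χ (F.h ^ i * v)) fun z v c hc => by
      rw [hc, ← mul_assoc, Subgroup.mem_center_iff.1 z.2, mul_assoc, h1 z]; simp,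
    ← Finset.mul_sum, h3] at h2
  refine mul_left_cancel₀ h0 ?_
  rw [← h2]
  push_cast
  ring

/-- multiplicities of the linear characters of `N/P` -/
theorem exists_nat_nu {χ : G → ℂ} (hχ : IsCharacter G χ) {φ : Subgroup.center G →* ℂˣ}
    (h1 : OverCen φ χ) {ε : ℂ} (hε : ε ^ F.e = φ ⟨_, F.h_pow_mem⟩) :
    ∃ n : ℕ, fixDim P χ - χ 1 + ∑ i ∈ Finset.range F.e, ε⁻¹ ^ i * χ (F.h ^ i) = F.e * n := by
  have := Fintype.ofFinite (P : Subgroup G)
  have hp0 : (p : ℂ) ≠ 0 := by exact_mod_cast hp.out.ne_zero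
  obtain ⟨n, hn⟩ := hχ.exists_nat_sum_fix F.h_mem F.e_pos.ne' (ε := ε) (fun h => by
    rw [h, zero_pow F.e_pos.ne'] at hε; exact Units.ne_zero _ hε.symm)
    fun g => by rw [hε]; exact h1 ⟨_, F.h_pow_mem⟩ g
  rw [F.sum_sum_coset hχ.isClassFunction, ← hχ.card_mul_fixDim, F.card] at hn
  exact ⟨n, mul_left_cancel₀ hp0 (by linear_combination hn)⟩

/-- values on the powers of `h` when the fixed space is a line -/
theorem exists_val_h {χ : G → ℂ} (hχ : IsCharacter G χ) {φ : Subgroup.center G →* ℂˣ}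
    (h1 : OverCen φ χ) (h : fixDim P χ = 1) :
    ∃ β : ℂ, β ^ F.e = φ ⟨_, F.h_pow_mem⟩ ∧ ∀ i, ¬ F.e ∣ i → χ (F.h ^ i) = β ^ i := by
  have := Fintype.ofFinite (P : Subgroup G)
  have hp0 : (p : ℂ) ≠ 0 := by exact_mod_cast hp.out.ne_zero
  have h2 := hχ.card_mul_fixDim (P : Subgroup G)
  rw [h, F.card, Nat.cast_one, mul_one] at h2
  obtain ⟨f, hf⟩ := (hχ.isCharacter_fix P).exists_hom_of_charDegree_eq_one
    (charDegree_eq_of_one_eq (by simp [← h2, -Nat.card_eq_fintype_card, F.card, hp0]))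
  refine ⟨f ⟨_, F.h_mem⟩, ?_, fun i hi => ?_⟩
  · rw [← Units.val_pow_eq_pow_val, ← map_pow, ← hf]
    simp only [SubmonoidClass.mk_pow, h1 ⟨_, F.h_pow_mem⟩, ← Finset.mul_sum, ← h2, F.card]
    field_simp
  · rw [← Units.val_pow_eq_pow_val, ← map_pow, ← hf]
    simp only [SubmonoidClass.mk_pow, F.sum_coset hχ.isClassFunction hi, F.card]
    field_simp

end CenFrame

/-- the exceptional characters of a block with central character `φ` -/
structure ExcFam [Fintype G] {p : ℕ} {P : Sylow p G} (F : CenFrame p P)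
    (φ : Subgroup.center G →* ℂˣ) where
  ψ : ((P : Subgroup G) →* ℂˣ) → IrrCharacter G
  δ : ℤ
  sign : δ = 1 ∨ δ = -1
  cen : ∀ l, l ≠ 1 → OverCen φ (ψ l).1
  val : ∀ l, l ≠ 1 → ∀ v : (P : Subgroup G), v ≠ 1 → (ψ l).1 v = ((-δ : ℤ) : ℂ) * F.osum l v
  reg : ∀ l m, l ≠ 1 → m ≠ 1 → ∀ g, ¬ p ∣ orderOf g → (ψ l).1 g = (ψ m).1 g
  inner : ∀ χ, IsCharacter G χ → OverCen φ χ → ∀ l m, l ≠ 1 → m ≠ 1 →
    (cmult χ (ψ l).1 : ℤ) + δ * rmul P χ l = cmult χ (ψ m).1 + δ * rmul P χ m

theorem CenFrame.exists_excFam [Fintype G] {p : ℕ} [hp : Fact p.Prime] {P : Sylow p G}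
    (F : CenFrame p P) (χ : IrrCharacter G) (hd : ¬ p ∣ charDegree χ.1)
    {φ : Subgroup.center G →* ℂˣ} (hφ : OverCen φ χ.1) :
    ∃ E : ExcFam F φ, (∃ l, l ≠ 1 ∧ E.ψ l = χ) ∨
      ∃ c : ℂ, ∀ v ∈ (P : Subgroup G), v ≠ 1 → χ.1 v = c := by
  classical
  obtain ⟨B, T, b, hχ, ⟨O⟩⟩ := χ.exists_defOne P F.card hd
  have hZ := Subgroup.center_le_centralizer ((P : Subgroup G) : Set G)
  have hPC := le_centralizer_of_card_prime F.card
  have : IsMulCommutative (Subgroup.centralizer ((P : Subgroup G) : Set G)) := ⟨⟨fun a b => by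
    obtain ⟨z, hz, v, hv, h⟩ := F.exists_decomp a.2
    refine Subtype.ext ?_
    change (a : G) * b = b * a
    rw [h, mul_assoc, b.2 v hv, ← mul_assoc, ← Subgroup.mem_center_iff.1 hz, mul_assoc]⟩⟩
  obtain ⟨f, hf⟩ := (O.θ 1).isCharacter.exists_hom_of_charDegree_eq_one
    (O.θ 1).charDegree_eq_one_of_comm
  have hind : ∀ l (u : (P : Subgroup G)), u ≠ 1 → ∀ z : Subgroup.center G,
      indFun _ (O.θ l).1 (u * z) = f ⟨z, hZ z.2⟩ * F.osum l u := fun l u hu z => by
    rw [O.indFun_frame F.toAutFrame rfl l hu (hZ z.2) (F.center_reg z.2), AutFrame.osum,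
      Finset.mul_sum]
    refine Finset.sum_congr rfl fun i _ => ?_
    rw [Subgroup.mem_center_iff.1 z.2, mul_inv_cancel_right, extendByZero_of_mem _ _ (hZ z.2), hf,
      mul_comm]
  have hsing : ∀ (u : (P : Subgroup G)), u ≠ 1 → ∀ z : Subgroup.center G,
      p ∣ orderOf ((u : G) * z) := fun u hu z =>
    dvd_orderOf_sec F.card u.2 (fun h => hu (Subtype.ext h)) (hZ z.2) (F.center_reg z.2)
  have hf1 : f ⟨(1 : Subgroup.center G), hZ (1 : Subgroup.center G).2⟩ = 1 := map_one f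
  obtain ⟨u, hu, hu1⟩ := exists_ne_one_of_card_prime F.card
  have hu1' : (⟨u, hu⟩ : (P : Subgroup G)) ≠ 1 := fun h => hu1 (congrArg Subtype.val h)
  have key : ∀ (η : G → ℂ) (φ' : Subgroup.center G →* ℂˣ) (c c' : ℂ) (l), OverCen φ' η → c ≠ 0 →
      c' ≠ 0 → (∀ g, p ∣ orderOf g → c * η g = c' * indFun _ (O.θ l).1 g) →
      ∀ z, φ' z = f ⟨z, hZ z.2⟩ := fun η φ' c c' l hη hc hc' h z => by
    have h1 := h _ (hsing ⟨u, hu⟩ hu1' z)
    have h2 := h _ (hsing ⟨u, hu⟩ hu1' 1)
    rw [hind l ⟨u, hu⟩ hu1'] at h1 h2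
    rw [hf1, Units.val_one, one_mul, OneMemClass.coe_one, mul_one] at h2
    rw [Subgroup.mem_center_iff.1 z.2, hη z, mul_left_comm, h2, mul_left_comm c',
      mul_left_inj' (mul_ne_zero hc' (F.osum_ne_zero _ _))] at h1
    exact Units.ext h1
  have hδ : (-O.δ₀ : ℂ) ≠ 0 := by rcases O.δ₀_sign with h | h <;> simp [h]
  have keyψ : ∀ l, l ≠ 1 → ∀ φ', OverCen φ' (O.ψ l).1 → ∀ z, φ' z = f ⟨z, hZ z.2⟩ :=
    fun l hl φ' h => key _ φ' 1 _ l h one_ne_zero hδ fun g hg => by
      rw [one_mul, O.ψ_sing l hl g hg]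
  have hφf : ∀ z, φ z = f ⟨z, hZ z.2⟩ := by
    rcases (O.mem_iff χ).1 hχ with hX | ⟨l, hl, rfl⟩
    · exact key _ φ _ _ 1 hφ (by exact_mod_cast O.relIndex_pos.ne')
        (by rcases O.δ_sign χ hX with h | h <;> simp [h]) (O.X_sing χ hX)
    · exact keyψ l hl φ hφ
  refine ⟨⟨O.ψ, O.δ₀, O.δ₀_sign, fun l hl => ?_, fun l hl v hv => ?_,
    fun l m hl hm g hg => O.ψ_reg_eq hl hm hg, fun η hη hη' l m hl hm => ?_⟩, ?_⟩
  · obtain ⟨φ', h⟩ := (O.ψ l).exists_overCen
    intro z g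
    rw [h z, hφf, keyψ l hl φ' h]
  · have h1 := O.ψ_sing l hl _ (hsing v hv 1)
    rw [hind l v hv, hf1] at h1
    simpa using h1
  · have := Fintype.ofFinite (Subgroup.centralizer ((P : Subgroup G) : Set G))
    have := Fintype.ofFinite (P : Subgroup G)
    have h0 : (Nat.card (Subgroup.center G) : ℂ) ≠ 0 := by exact_mod_cast Nat.card_pos.ne'
    have hp0 : (p : ℂ) ≠ 0 := by exact_mod_cast hp.out.ne_zero
    have h1 : ∀ l, classInner η (indFun _ (O.θ l).1) = rmul P η l := fun l => by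
      rw [classInner_indFun_right _ _ hη.isClassFunction, classInner_def, F.card_centralizer,
        F.sum_centralizer (f' := fun v => η v * conj (l v : ℂ)), ← hη.card_mul_rmul, F.card]
      · push_cast; field_simp
      · intro z v c hc
        rw [O.θ_mul l v ⟨z, hZ z.2⟩ c (by
          rw [← Subgroup.orderOf_coe]; exact F.center_reg z.2)
          (by rw [hc]; exact (Subgroup.mem_center_iff.1 z.2 _).symm), hc, hη' z, hf, hφf, map_mul,
          conj_unitsHom f, map_inv, Units.val_inv_eq_inv_val]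
        field_simp
    have h2 := congrArg (classInner η) (O.ind_sub l hl)
    have h3 := congrArg (classInner η) (O.ind_sub m hm)
    rw [classInner_sub_right, classInner_add_right, classInner_smul_right, h1, h1,
      ← hη.cast_cmult (IrrCharacter.isCharacter _), map_intCast] at h2 h3
    have h4 : (O.δ₀ : ℂ) * O.δ₀ = 1 := by exact_mod_cast O.δ₀_mul_self
    have h5 : (cmult η (O.ψ l).1 : ℂ) + O.δ₀ * rmul P η l =
        cmult η (O.ψ m).1 + O.δ₀ * rmul P η m := by
      linear_combination O.δ₀ * (h3 - h2) + (cmult η (O.ψ m).1 - cmult η (O.ψ l).1) * h4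
    exact_mod_cast h5
  · rcases (O.mem_iff χ).1 hχ with hX | h
    · exact Or.inr ⟨_, fun v hv hv1 => O.X_apply_mem F.card rfl hX hv hv1⟩
    · exact Or.inl h

theorem AutFrame.exists_not_orb [Finite G] {p : ℕ} [hp : Fact p.Prime] {P : Subgroup G}
    (F : AutFrame p P) (he : 2 * F.e < p) {l : P →* ℂˣ} (hl : l ≠ 1) :
    ∃ m, m ≠ 1 ∧ ¬ F.Orb l m := by
  classical
  have hc := card_unitsHom_of_card_prime F.card
  have : Finite (P →* ℂˣ) := Nat.finite_of_card_ne_zero (hc.trans_ne hp.out.ne_zero)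
  have := Fintype.ofFinite (P →* ℂˣ)
  by_contra h
  push Not at h
  have h1 := Finset.card_le_card (show Finset.univ.erase 1 ⊆ Finset.univ.filter (F.Orb l) from
    fun m hm => by simpa using h m (Finset.ne_of_mem_erase hm))
  rw [F.card_orb hl, Finset.card_erase_of_mem (Finset.mem_univ _), Finset.card_univ,
    ← Nat.card_eq_fintype_card, hc] at h1
  have := F.e_pos
  omega

namespace ExcFam

variable [Fintype G] {p : ℕ} [hp : Fact p.Prime] {P : Sylow p G} {F : CenFrame p P}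
  {φ : Subgroup.center G →* ℂˣ} (E : ExcFam F φ)

theorem one_eq {l m : (P : Subgroup G) →* ℂˣ} (hl : l ≠ 1) (hm : m ≠ 1) :
    (E.ψ l).1 1 = (E.ψ m).1 1 :=
  E.reg l m hl hm 1 (by rw [orderOf_one]; exact hp.out.not_dvd_one)

theorem deg_eq {l m : (P : Subgroup G) →* ℂˣ} (hl : l ≠ 1) (hm : m ≠ 1) :
    charDegree (E.ψ l).1 = charDegree (E.ψ m).1 := charDegree_congr (E.one_eq hl hm)

theorem card_mul_rmul {l : (P : Subgroup G) →* ℂˣ} (hl : l ≠ 1) (m : (P : Subgroup G) →* ℂˣ)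
    [Decidable (F.Orb l m)] : (p : ℤ) * rmul P (E.ψ l).1 m =
      charDegree (E.ψ l).1 + E.δ * F.e - if F.Orb l m then E.δ * p else 0 := by
  rw [F.card_mul_rmul_of_val (E.ψ l).isCharacter hl (E.val l hl) m]
  split_ifs <;> ring

theorem card_mul_fixDim {l : (P : Subgroup G) →* ℂˣ} (hl : l ≠ 1) :
    (p : ℤ) * fixDim P (E.ψ l).1 = charDegree (E.ψ l).1 + E.δ * F.e := by
  classical
  rw [← (E.ψ l).isCharacter.rmul_one, E.card_mul_rmul hl, if_neg fun h => h.ne_one hl rfl, sub_zero]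

theorem rmul_eq {l : (P : Subgroup G) →* ℂˣ} (hl : l ≠ 1) (m : (P : Subgroup G) →* ℂˣ)
    [Decidable (F.Orb l m)] : (rmul P (E.ψ l).1 m : ℤ) =
      fixDim P (E.ψ l).1 - if F.Orb l m then E.δ else 0 := by
  have hp0 : (p : ℤ) ≠ 0 := by exact_mod_cast hp.out.ne_zero
  refine mul_left_cancel₀ hp0 ?_
  rw [E.card_mul_rmul hl, mul_sub, E.card_mul_fixDim hl]
  split_ifs <;> ring

theorem eq_iff {l m : (P : Subgroup G) →* ℂˣ} (hl : l ≠ 1) (hm : m ≠ 1) :
    E.ψ l = E.ψ m ↔ F.Orb l m := by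
  classical
  have h1 := E.inner _ (E.ψ l).isCharacter (E.cen l hl) l m hl hm
  rw [E.rmul_eq hl, E.rmul_eq hl, if_pos (F.orb_refl l), cmult_eq_of (n := 1)
    (by rw [(E.ψ l).classInner_self, Nat.cast_one])] at h1
  constructor
  · intro h
    rw [← h, cmult_eq_of (n := 1) (by rw [(E.ψ l).classInner_self, Nat.cast_one])] at h1
    by_contra h2
    rw [if_neg h2] at h1
    rcases E.sign with h | h <;> rw [h] at h1 <;> omega
  · intro h
    rw [if_pos h, add_left_inj] at h1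
    refine IrrCharacter.eq_of_classInner_ne_zero (((E.ψ l).isCharacter.cmult_ne_zero_iff
      (E.ψ m).isCharacter).1 ?_)
    omega

theorem sum_comp [Fintype ((P : Subgroup G) →* ℂˣ)] [DecidableEq ((P : Subgroup G) →* ℂˣ)]
    [DecidableEq (IrrCharacter G)] {M : Type v} [AddCommMonoid M] (g : IrrCharacter G → M) :
    ∑ l ∈ Finset.univ.erase 1, g (E.ψ l) =
      F.e • ∑ η ∈ (Finset.univ.erase 1).image E.ψ, g η := by
  classical
  rw [Finset.sum_comp g E.ψ, Finset.smul_sum]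
  refine Finset.sum_congr rfl fun η hη => ?_
  obtain ⟨l, hl, rfl⟩ := Finset.mem_image.1 hη
  replace hl := Finset.ne_of_mem_erase hl
  rw [← F.card_orb hl]
  congr 2
  ext m
  simp only [Finset.mem_filter, Finset.mem_erase, Finset.mem_univ, and_true, true_and]
  exact ⟨fun h => ((E.eq_iff h.1 hl).1 h.2).symm,
    fun h => ⟨h.ne_one hl, (E.eq_iff (h.ne_one hl) hl).2 h.symm⟩⟩

theorem sum_cmult_mul_le [Fintype ((P : Subgroup G) →* ℂˣ)] [DecidableEq ((P : Subgroup G) →* ℂˣ)]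
    (χ : G → ℂ) (ν : IrrCharacter G → ℕ) :
    ∑ l ∈ Finset.univ.erase 1, cmult χ (E.ψ l).1 * ν (E.ψ l) ≤
      F.e * ∑ η, cmult χ η.1 * ν η := by
  classical
  rw [E.sum_comp fun η => cmult χ η.1 * ν η, smul_eq_mul]
  exact Nat.mul_le_mul_left _ (Finset.sum_le_sum_of_subset (Finset.subset_univ _))

theorem not_le_charKer (he : 2 * F.e < p) {l : (P : Subgroup G) →* ℂˣ} (hl : l ≠ 1) :
    ¬ (P : Subgroup G) ≤ charKer (E.ψ l).1 := fun h => by
  classical
  have := Fintype.ofFinite (P : Subgroup G)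
  obtain ⟨m, hm, hlm⟩ := F.exists_not_orb he hl
  have h1 : ∀ m, m ≠ 1 → rmul P (E.ψ l).1 m = 0 := fun m hm => by
    have h2 := (E.ψ l).isCharacter.card_mul_rmul P m
    have h3 := sum_unitsHom_mul_conj 1 m
    simp only [MonoidHom.one_apply, Units.val_one, one_mul, if_neg hm.symm] at h3
    rw [Finset.sum_congr rfl fun v _ => by rw [apply_eq_one_of_mem_charKer (h v.2)],
      ← Finset.mul_sum, h3, mul_zero] at h2
    exact_mod_cast (mul_eq_zero.1 h2).resolve_left (Nat.cast_ne_zero.2 Nat.card_pos.ne')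
  have h2 := E.rmul_eq hl l
  have h3 := E.rmul_eq hl m
  rw [if_pos (F.orb_refl l), h1 l hl] at h2
  rw [if_neg hlm, h1 m hm] at h3
  rcases E.sign with h | h <;> omega

theorem fixDim_eq_one (hδ : E.δ = 1) {l : (P : Subgroup G) →* ℂˣ} (hl : l ≠ 1)
    (hd : charDegree (E.ψ l).1 + F.e = p) : fixDim P (E.ψ l).1 = 1 := by
  have h1 := E.card_mul_fixDim hl
  have hp0 : (p : ℤ) ≠ 0 := by exact_mod_cast hp.out.ne_zero
  rw [hδ, one_mul] at h1
  have h2 : (p : ℤ) * fixDim P (E.ψ l).1 = p * 1 := by rw [h1, mul_one]; exact_mod_cast hd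
  exact_mod_cast mul_left_cancel₀ hp0 h2

/-- `G = G' Z(G)` -/
theorem commutator_sup_center (he : 2 * F.e < p) (hδ : E.δ = 1) {l : (P : Subgroup G) →* ℂˣ}
    (hl : l ≠ 1) (hd : charDegree (E.ψ l).1 + F.e = p) :
    commutator G ⊔ Subgroup.center G = ⊤ := by
  classical
  have hP : (P : Subgroup G) ≤ commutator G := by
    obtain ⟨u, hu, hu1⟩ := exists_ne_one_of_card_prime F.card
    have h1 : ⁅F.h, u⁆ ≠ 1 := fun h => F.h_notMem (by
      rw [← centralizer_singleton_of_card_prime F.card hu hu1,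
        Subgroup.mem_centralizer_singleton_iff]
      exact commutatorElement_eq_one_iff_mul_comm.1 h)
    rw [eq_zpowers_of_card_prime F.card (u := ⁅F.h, u⁆)
      (mul_mem ((Subgroup.mem_normalizer_iff.1 F.h_mem u).1 hu) (inv_mem hu)) h1,
      Subgroup.zpowers_le]
    exact Subgroup.commutator_mem_commutator (Subgroup.mem_top _) (Subgroup.mem_top _)
  have hh : F.h ∈ commutator G ⊔ Subgroup.center G := by
    by_contra h
    obtain ⟨μ, hμ, hμ1⟩ := exists_unitsHom_le_ker_ne_one le_sup_left h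
    have hμP : ∀ v : (P : Subgroup G), μ v = 1 := fun v => hμ (Subgroup.mem_sup_left (hP v.2))
    have h1 : ∀ m, rmul P ((E.ψ l).twist μ).1 m = rmul P (E.ψ l).1 m := fun m => by
      simp only [rmul, IrrCharacter.twist_apply, hμP, Units.val_one, one_mul]
    obtain ⟨m, hm, hlm⟩ := F.exists_not_orb he hl
    have h2 := E.inner _ ((E.ψ l).twist μ).isCharacter (fun z g => by
      have : μ z = 1 := hμ (Subgroup.mem_sup_right z.2)
      simp only [IrrCharacter.twist_apply, map_mul, this, one_mul, E.cen l hl z g]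
      ring) l m hl hm
    rw [h1, h1, E.rmul_eq hl, E.rmul_eq hl, if_pos (F.orb_refl l), if_neg hlm, hδ] at h2
    have h3 := IrrCharacter.eq_of_classInner_ne_zero ((((E.ψ l).twist μ).isCharacter.cmult_ne_zero_iff
      (E.ψ l).isCharacter).1 (by omega))
    obtain ⟨β, hβ, hβ'⟩ := F.exists_val_h (E.ψ l).isCharacter (E.cen l hl) (E.fixDim_eq_one hδ hl hd)
    have h4 := hβ' 1 (Nat.not_dvd_of_pos_of_lt one_pos F.two_le)
    have h5 := congrFun (congrArg Subtype.val h3) F.h
    rw [pow_one, pow_one] at h4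
    rw [IrrCharacter.twist_apply, h4, mul_eq_right₀ (fun h => by
      rw [h, zero_pow F.e_pos.ne'] at hβ; exact Units.ne_zero _ hβ.symm)] at h5
    exact hμ1 (Units.ext h5)
  rw [eq_top_iff, ← P.normalizer_sup_eq_top' hP, sup_le_iff]
  refine ⟨fun n hn => ?_, le_sup_left⟩
  obtain ⟨i, -, c, hc, rfl⟩ := F.gen n hn
  obtain ⟨z, hz, v, hv, rfl⟩ := F.exists_decomp hc
  exact mul_mem (pow_mem hh i) (mul_mem (Subgroup.mem_sup_right hz) (Subgroup.mem_sup_left (hP hv)))

end ExcFam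

theorem CenFrame.exists_excFam_pos [Fintype G] {p : ℕ} [hp : Fact p.Prime] {P : Sylow p G}
    (F : CenFrame p P) (he : 2 * F.e < p) (χ : IrrCharacter G) (hd : charDegree χ.1 + F.e = p)
    (hk : ¬ (P : Subgroup G) ≤ charKer χ.1) {φ : Subgroup.center G →* ℂˣ} (hφ : OverCen φ χ.1) :
    ∃ E : ExcFam F φ, E.δ = 1 ∧ ∃ l, l ≠ 1 ∧ E.ψ l = χ := by
  have h2 := F.two_le
  obtain ⟨E, ⟨l, hl, rfl⟩ | ⟨c, hc⟩⟩ := F.exists_excFam χ (fun h => by
    have := Nat.le_of_dvd χ.charDegree_pos h; omega) hφ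
  · refine ⟨E, E.sign.resolve_right fun h => ?_, l, hl, rfl⟩
    have h1 := E.card_mul_fixDim hl
    rw [h] at h1
    rcases Nat.eq_zero_or_pos (fixDim P (E.ψ l).1) with h0 | h0
    · rw [h0] at h1; omega
    · have := Nat.mul_le_mul_left p h0
      have : p * fixDim P (E.ψ l).1 + F.e = charDegree (E.ψ l).1 := by
        zify; linarith
      omega
  · exact absurd (χ.isCharacter.le_charKer_of_const F.card (by omega) hc) hk

/-- the two types of faithful characters of degree at most `p - 2` -/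
theorem AutFrame.small_faithful [Finite G] {p : ℕ} [hp : Fact p.Prime] {P : Sylow p G}
    (F : AutFrame p (P : Subgroup G)) (hnn : ¬ (P : Subgroup G).Normal) (ζ : IrrCharacter G)
    (hf : ∀ g, ζ.1 g = ζ.1 1 → g = 1) (hd : charDegree ζ.1 + 2 ≤ p) :
    (2 * charDegree ζ.1 + 1 = p ∧ 2 * F.e + 1 = p) ∨
      (charDegree ζ.1 + F.e = p ∧ 2 * F.e < p ∧ ∃ F' : CenFrame p P, F'.toAutFrame = F) := by
  have hk := ζ.charKer_eq_bot_iff.2 hf
  obtain ⟨he, l, -, ⟨m, hm, h⟩ | ⟨h1, -, h2⟩⟩ := ζ.small_cases F hd fun h =>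
    hnn ((le_bot_iff.1 (hk ▸ h)).symm ▸ inferInstance)
  · have h1 := F.eq_of_orb hnn ζ.isCharacter hf (by omega) he h
    have h0 := ζ.charDegree_pos
    refine Or.inl ⟨?_, h1⟩
    match m with
    | 0 => omega
    | 1 => omega
    | m + 2 => rw [add_mul] at hm; omega
  · exact Or.inr ⟨h1, he, ⟨F, hnn, by omega, fun s hs hsr =>
      ζ.isCharacter.charCenter_le_center_of_faithful hk (h2 s hs hsr)⟩, rfl⟩

end Cfsg
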