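import Cfsg.Agent.Lin.BiRed
import Cfsg.Agent.Mod.SmallPsl
import Cfsg.Agent.Blk.PrinBrauer

/-! Characters of degree `(p + 1) / 2`. -/

set_option autoImplicit false
set_option linter.unusedSectionVars false

namespace Cfsg

open Module Polynomial

universe u v w

variable {G : Type u} [Group G]

theorem not_dvd_card_of_sylow_not_le [Finite G] {p : ℕ} [hp : Fact p.Prime] (P : Sylow p G)
    (hP : Nat.card P = p) {K : Subgroup G} [K.Normal] (h : ¬ (P : Subgroup G) ≤ K) :
    ¬ p ∣ Nat.card K := fun h1 => h (sylow_le_of_normal_of_not_dvd_index P fun h2 => by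
  have h3 := mul_dvd_mul h1 h2
  rw [K.card_mul_index, ← (P : Subgroup G).card_mul_index, hP] at h3
  exact P.not_dvd_index (Nat.dvd_of_mul_dvd_mul_left hp.out.pos h3))

theorem CenFrame.sylow_map [Finite G] {p : ℕ} [hp : Fact p.Prime] {P : Sylow p G}
    (F : CenFrame p P) {K : Type v} [Group K] {f : G →* K} (hf : Function.Surjective f)
    (hK : f.ker ≤ Subgroup.center G) : Nat.card (P.mapSurjective hf) = p ∧
      ¬ (P.mapSurjective hf : Subgroup K).Normal := by
  have key : ∀ z ∈ f.ker, z ^ p = 1 → z = 1 := fun z hz h => orderOf_eq_one_iff.1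
    (((Nat.dvd_prime hp.out).1 (orderOf_dvd_of_pow_eq_one h)).resolve_right fun h' =>
      F.center_reg (hK hz) h'.symm.dvd)
  constructor
  · obtain ⟨u, hu, hu1⟩ := exists_ne_one_of_card_prime F.card
    refine ((Nat.dvd_prime hp.out).1 ((Subgroup.card_map_dvd _ f).trans F.card.dvd)).resolve_left
      fun h => ?_
    exact hu1 (key u ((Subgroup.eq_bot_iff_forall _).1 (Subgroup.card_eq_one.1 h) _
      (Subgroup.mem_map_of_mem f hu)) (F.pow_p hu))
  · refine fun hn => F.nn ⟨fun u hu g => ?_⟩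
    obtain ⟨v, hv, h⟩ := hn.conj_mem _ (Subgroup.mem_map_of_mem f hu) (f g)
    have hz : v⁻¹ * (g * u * g⁻¹) ∈ f.ker := by simp [MonoidHom.mem_ker, ← h]
    have h1 : Commute v (v⁻¹ * (g * u * g⁻¹)) := Subgroup.mem_center_iff.1 (hK hz) v
    have h2 := h1.mul_pow p
    rw [mul_inv_cancel_left, conj_pow, F.pow_p hu, F.pow_p hv, mul_one, mul_inv_cancel,
      one_mul] at h2
    exact inv_mul_eq_one.1 (key _ hz h2.symm) ▸ hv

theorem CenFrame.psl2_of_module [Finite G] {p : ℕ} [hp : Fact p.Prime] {P : Sylow p G}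
    (F : CenFrame p P) (hG : commutator G ⊔ Subgroup.center G = ⊤)
    (hO : pPrimeCore p G = Subgroup.center G) {k : Type v} [Field k] [CharP k p] {V : Type w}
    [AddCommGroup V] [Module k V] (ρ : G →* Module.End k V) {u : G} (hu : u ∈ (P : Subgroup G))
    (h1 : ρ u ≠ 1) {m : ℕ} (hm : (ρ u - 1) ^ m = 0) (h2 : 2 * m < p) :
    Nonempty (G ⧸ Subgroup.center G ≃* Matrix.ProjectiveSpecialLinearGroup (Fin 2) (ZMod p)) := by
  have hK : ρ.toHomUnits.ker ≤ Subgroup.center G := hO ▸ le_pPrimeCore_of_not_dvd inferInstance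
    (not_dvd_card_of_sylow_not_le P F.card fun h => h1 (congrArg Units.val (h hu)))
  obtain ⟨h3, h4⟩ := F.sylow_map (QuotientGroup.mk'_surjective ρ.toHomUnits.ker)
    (by rwa [QuotientGroup.ker_mk'])
  obtain ⟨h5, h6⟩ := F.sylow_map (QuotientGroup.mk'_surjective (Subgroup.center G))
    (by rw [QuotientGroup.ker_mk'])
  have H₀ : SmallMod (QuotientGroup.lift ρ.toHomUnits.ker ρ fun x hx => congrArg Units.val hx)
      (P.mapSurjective (QuotientGroup.mk'_surjective _)) (QuotientGroup.mk' _ u) m :=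
    ⟨fun a b h => by
      obtain ⟨a, rfl⟩ := QuotientGroup.mk_surjective a
      obtain ⟨b, rfl⟩ := QuotientGroup.mk_surjective b
      exact QuotientGroup.kerLift_injective ρ.toHomUnits (Units.ext h),
    h3, Subgroup.mem_map_of_mem _ hu,
      fun h => h1 (congrArg Units.val ((QuotientGroup.eq_one_iff u).1 h)), hm, h2⟩
  obtain ⟨_, ρ', H⟩ := H₀.exists_zmod
  have h7 := card_sylow_dvd_of_surjective (p := p)
    (QuotientGroup.map ρ.toHomUnits.ker (Subgroup.center G) (MonoidHom.id G) hK) fun x => by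
      obtain ⟨x, rfl⟩ := QuotientGroup.mk_surjective x
      exact ⟨x, rfl⟩
  rw [(Sylow.card_eq_index_normalizer _).trans (H.index_eq h4)] at h7
  refine (psl2_of_card_sylow ?_ _ h5 ?_ ?_).2
  · have := Subgroup.map_commutator ⊤ ⊤ (QuotientGroup.mk' (Subgroup.center G))
    rw [← commutator_def, Subgroup.map_top_of_surjective _ (QuotientGroup.mk'_surjective _),
      ← commutator_def] at this
    rw [← this, ← Subgroup.map_top_of_surjective _ (QuotientGroup.mk'_surjective _), ← hG,
      Subgroup.map_sup, QuotientGroup.map_mk'_self, sup_bot_eq]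
  · rw [← map_comap_mk (Subgroup.center G) (pPrimeCore p _), comap_pPrimeCore_quotient
      ((Nat.Prime.coprime_iff_not_dvd hp.out).2 F.not_dvd_card_center).symm, hO,
      QuotientGroup.map_mk'_self]
  · have h8 := card_sylow_modEq_one p (G ⧸ Subgroup.center G)
    have h9 : Nat.card (Sylow p (G ⧸ Subgroup.center G)) ≠ 1 := fun h => h6 (by
      have := (Nat.card_eq_one_iff_unique.1 h).1
      exact Sylow.normal_of_subsingleton _)
    have h10 := Nat.le_of_dvd (by omega) h7
    have h11 : 0 < Nat.card (Sylow p (G ⧸ Subgroup.center G)) := Nat.card_pos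
    have := Nat.le_of_dvd (by omega) ((Nat.modEq_iff_dvd' h11).1 h8.symm)
    omega

theorem exists_short_submodule {k : Type v} [Field k] {A : Type w} [AddCommGroup A] [Module k A]
    [FiniteDimensional k A] (σ : G →* Module.End k A) (u : G) {E : Module.End k A}
    (hE : ∀ g, E * σ g = σ g * E) {x w : A} {c : k} (hc : c ≠ 0) (hx : E x = c • x) (hx0 : x ≠ 0)
    (hw : (σ u - 1) w = x) (hker : ∀ v, σ u v = v → E v ∈ Submodule.span k {x}) {n : ℕ}
    (hnil : (σ u - 1) ^ n = 0) {m : ℕ} (hm : x ∉ LinearMap.range ((σ u - 1) ^ m)) :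
    ∃ (V : Submodule k A) (ρ : G →* Module.End k V), ρ u ≠ 1 ∧ (ρ u - 1) ^ m = 0 := by
  obtain ⟨g, hg, hgc⟩ := exists_eq_pow_rootMultiplicity_mul_and_not_dvd E.charpoly
    E.charpoly_monic.ne_zero c
  set a := rootMultiplicity c E.charpoly
  set D := E - c • 1 with hD
  have hDσ : ∀ g, Commute (σ g) (D ^ a) := fun g =>
    ((show Commute (σ g) E from (hE g).symm).sub_right ((Commute.one_right _).smul_right c)).pow_right a
  have hinv : ∀ g, LinearMap.ker (D ^ a) ≤ (LinearMap.ker (D ^ a)).comap (σ g) := fun g v hv => by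
    rw [Submodule.mem_comap, LinearMap.mem_ker, ← Module.End.mul_apply, ← (hDσ g).eq,
      Module.End.mul_apply, LinearMap.mem_ker.1 hv, map_zero]
  let ρ : G →* Module.End k (LinearMap.ker (D ^ a)) := Representation.subrepresentation σ _ hinv
  have hρ : ∀ (i : ℕ) v, (((ρ u - 1) ^ i) v : A) = ((σ u - 1) ^ i) v := fun i v => by
    induction i with
    | zero => rfl
    | succ i ih => rw [pow_succ', pow_succ', Module.End.mul_apply, Module.End.mul_apply, ← ih]; rfl
  refine ⟨_, ρ, fun h => ?_, LinearMap.ext fun v => ?_⟩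
  · have h1 : aeval E g w ∈ LinearMap.ker (D ^ a) := by
      have := E.aeval_self_charpoly
      rw [hg, map_mul, map_pow, map_sub, aeval_X, aeval_C, Algebra.algebraMap_eq_smul_one] at this
      rw [LinearMap.mem_ker, ← Module.End.mul_apply, this, LinearMap.zero_apply]
    have h2 := hρ 1 ⟨_, h1⟩
    have h3 : Commute (σ u - 1) (aeval E g) :=
      Algebra.commute_of_mem_adjoin_singleton_of_commute (aeval_mem_adjoin_singleton k E)
        ((show Commute (σ u) E from (hE u).symm).sub_left (Commute.one_left E))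
    rw [h, sub_self, pow_one, pow_one, LinearMap.zero_apply, ← Module.End.mul_apply, h3.eq,
      Module.End.mul_apply, hw, Module.End.aeval_apply_of_hasEigenvector
        ⟨Module.End.mem_eigenspace_iff.2 hx, hx0⟩] at h2
    exact hgc (dvd_iff_isRoot.2 ((smul_eq_zero.1 h2.symm).resolve_right hx0))
  · have key : ∀ y, σ u y = y → ∀ i, ∃ b : k, (D ^ i) y = (-c) ^ i • y + b • x := fun y hy i => by
      induction i with
      | zero => exact ⟨0, by simp⟩
      | succ i ih =>
        obtain ⟨b, hb⟩ := ih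
        obtain ⟨b', hb'⟩ := Submodule.mem_span_singleton.1 (hker y hy)
        refine ⟨(-c) ^ i * b', ?_⟩
        rw [pow_succ' D, Module.End.mul_apply, hb]
        simp only [hD, LinearMap.sub_apply, map_add,
          map_smul, hx, ← hb', LinearMap.smul_apply, Module.End.one_apply, pow_succ]
        module
    have h1 : ∀ i, ((ρ u - 1) ^ (m + i)) v = 0 → ((ρ u - 1) ^ m) v = 0 := fun i => by
      induction i with
      | zero => exact id
      | succ i ih =>
        refine fun h => ih ?_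
        set y := ((ρ u - 1) ^ (m + i)) v with hy
        have h2 : σ u y = y := by
          rw [← add_assoc, pow_succ', Module.End.mul_apply] at h
          exact sub_eq_zero.1 (congrArg Subtype.val h)
        obtain ⟨b, hb⟩ := key y h2 a
        rw [LinearMap.mem_ker.1 y.2] at hb
        by_cases hb0 : b = 0
        · rw [hb0, zero_smul, add_zero, eq_comm, smul_eq_zero] at hb
          exact Subtype.ext (hb.resolve_left (pow_ne_zero _ (neg_ne_zero.2 hc)))
        · refine absurd ⟨(-(b⁻¹ * (-c) ^ a)) • ((σ u - 1) ^ i) v, ?_⟩ hm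
          rw [map_smul, ← Module.End.mul_apply, ← pow_add, ← hρ, ← hy, neg_smul, mul_smul,
            eq_neg_of_add_eq_zero_left hb.symm, smul_neg, neg_neg, inv_smul_smul₀ hb0]
    exact h1 n (Subtype.ext (by rw [hρ, pow_add, hnil, mul_zero]; rfl))

section trunc
variable {k : Type v} [Field k]

/-- the polynomial with prescribed coefficients -/
noncomputable def truncPoly (n : ℕ) (c : ℕ → k) : k[X] :=
  ∑ a ∈ Finset.range (n + 1), monomial a (c a)

theorem coeff_truncPoly (n : ℕ) (c : ℕ → k) (a : ℕ) :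
    (truncPoly n c).coeff a = if a ≤ n then c a else 0 := by
  simp [truncPoly, coeff_monomial]

theorem natDegree_truncPoly (n : ℕ) (c : ℕ → k) : (truncPoly n c).natDegree ≤ n :=
  natDegree_le_iff_coeff_eq_zero.2 fun a ha => by rw [coeff_truncPoly, if_neg (by omega)]

variable {W : Type w} [AddCommGroup W] [Module k W] {x₁ x₂ H : Module.End k W} {α w : k} {y : W}
  {d : ℕ} (B : IsBiString x₁ x₂ H α w y d)
include B

theorem IsBiString.isCompl_biSpan (A : Set ℕ) :
    IsCompl (biSpan x₁ x₂ y A) (biSpan x₁ x₂ y Aᶜ) := by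
  rw [B.biSpan_eq, B.biSpan_eq]
  exact B.basis.linearIndependent.isCompl_span_image B.basis.span_eq isCompl_compl

/-- an antisymmetric vector at the end of a short string -/
theorem IsBiString.exists_antisymm {p : ℕ} [CharP k p] (hp : p + 1 = 2 * d) (hd : 5 ≤ d)
    {τ : Module.End k W} (hτ : ∀ a c, τ (biMono x₁ x₂ y a c) = biMono x₁ x₂ y c a) :
    (∀ v ∈ LinearMap.range ((x₁ + x₂) ^ (p - 1)), τ v = v) ∧
    ∃ z, z ≠ 0 ∧ τ z = -z ∧ (x₁ + x₂) z = 0 ∧ (∃ c : k, H z = c • z) ∧
      z ∈ LinearMap.range (x₁ + x₂) ∧ z ∉ LinearMap.range ((x₁ + x₂) ^ 5) := by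
  have htop : biSpan x₁ x₂ y Set.univ = ⊤ := by
    rw [B.biSpan_eq, ← B.basis.span_eq, ← Set.image_univ]; rfl
  constructor
  · intro v hv
    rw [LinearMap.range_eq_map, ← htop] at hv
    refine LinearMap.eqOn_span (f := τ) (g := 1) ?_
      (B.map_pow_biSpan_le (p - 1) (A' := {n | p - 1 ≤ n}) (fun n _ => Nat.le_add_left _ n) hv)
    rintro _ ⟨a, c, h, rfl⟩
    rw [hτ, Module.End.one_apply]
    by_cases h1 : d ≤ a ∨ d ≤ c
    · rw [B.mono_eq_zero h1, B.mono_eq_zero h1.symm]
    · have h2 : p - 1 ≤ a + c := h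
      rw [show a = c by omega]
  obtain ⟨n, hn1, hn2, hn⟩ : ∃ n, d ≤ n + 1 ∧ n ≤ d ∧ Even n := by
    rcases Nat.even_or_odd' d with ⟨m, h | h⟩
    · exact ⟨d, by omega, le_rfl, m, by omega⟩
    · exact ⟨2 * m, by omega, by omega, m, by omega⟩
  set f : k[X] := truncPoly (n + 1) fun a => (-1) ^ a with hf
  have hz0 : biPoly x₁ x₂ y (n + 1) f ≠ 0 := fun h => by
    have := B.biPoly_eq_zero_iff.1 h (d - 1) (by omega) (by omega) (by omega)
    rw [coeff_truncPoly, if_pos (by omega)] at this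
    exact pow_ne_zero _ (neg_ne_zero.2 one_ne_zero) this
  have hz1 : (x₁ + x₂) (biPoly x₁ x₂ y (n + 1) f) = 0 := by
    rw [B.add_apply_biPoly (natDegree_truncPoly _ _), B.biPoly_eq_zero_iff]
    intro a h1 _ h2
    obtain ⟨a, rfl⟩ : ∃ b, a = b + 1 := ⟨a - 1, by omega⟩
    rw [add_mul, one_mul, coeff_add, coeff_X_mul, coeff_truncPoly, coeff_truncPoly,
      if_pos (by omega), if_pos (by omega), pow_succ]
    ring
  refine ⟨_, hz0, ?_, hz1, ⟨w * α ^ (n + 1), ?_⟩,
    ⟨biPoly x₁ x₂ y n (truncPoly n fun a => (-1) ^ a * a), ?_⟩, ?_⟩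
  · rw [IsBiString.biPoly_apply, map_sum, ← Finset.sum_neg_distrib, ← Finset.sum_range_reflect]
    refine Finset.sum_congr rfl fun a ha => ?_
    have := Finset.mem_range.1 ha
    rw [map_smul, hτ, coeff_truncPoly, coeff_truncPoly, if_pos (by omega), if_pos (by omega),
      show n + 1 + 1 - 1 - a = n + 1 - a by omega, show n + 1 - (n + 1 - a) = a by omega,
      ← neg_smul]
    congr 1
    refine mul_left_cancel₀ (pow_ne_zero a (neg_ne_zero.2 (one_ne_zero (α := k)))) ?_
    rw [← pow_add, show a + (n + 1 - a) = n + 1 by omega, pow_succ, hn.neg_one_pow, mul_neg,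
      mul_neg, ← mul_pow]
    simp
  · rw [IsBiString.biPoly_apply, map_sum, Finset.smul_sum]
    refine Finset.sum_congr rfl fun a ha => ?_
    have := Finset.mem_range.1 ha
    rw [map_smul, B.H_mono, smul_comm, show a + (n + 1 - a) = n + 1 by omega]
  · rw [B.add_apply_biPoly (natDegree_truncPoly _ _), ← sub_eq_zero, ← map_sub,
      B.biPoly_eq_zero_iff]
    intro a h1 _ h2
    obtain ⟨a, rfl⟩ : ∃ b, a = b + 1 := ⟨a - 1, by omega⟩
    rw [coeff_sub, add_mul, one_mul, coeff_add, coeff_X_mul, coeff_truncPoly, coeff_truncPoly,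
      coeff_truncPoly, if_pos (by omega), if_pos (by omega), if_pos (by omega), pow_succ]
    push_cast
    ring
  · rintro ⟨v, hv⟩
    obtain ⟨v₁, h1, v₂, h2, rfl⟩ := Submodule.mem_sup.1
      ((B.isCompl_biSpan {n - 4}).sup_eq_top ▸ Submodule.mem_top (x := v))
    have h3 : ((x₁ + x₂) ^ 5) v₂ = 0 := by
      refine (Submodule.disjoint_def.1 (B.isCompl_biSpan {n + 1}).disjoint) _ ?_
        (B.map_pow_biSpan_le 5 (A := {n - 4}ᶜ) (A' := {n + 1}ᶜ) (fun m hm h => hm ?_) ⟨v₂, h2, rfl⟩)
      · rw [map_add] at hv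
        rw [eq_sub_of_add_eq' hv]
        refine sub_mem ?_ (B.map_pow_biSpan_le 5 (fun m hm => ?_) ⟨v₁, h1, rfl⟩)
        · rw [IsBiString.biPoly_apply]
          refine Submodule.sum_mem _ fun a ha => Submodule.smul_mem _ _
            (Submodule.subset_span ⟨a, _, ?_, rfl⟩)
          have := Finset.mem_range.1 ha
          rw [Set.mem_singleton_iff]; omega
        · rw [Set.mem_singleton_iff] at hm ⊢; omega
      · rw [Set.mem_singleton_iff] at h ⊢; omega
    rw [map_add, h3, add_zero] at hv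
    obtain ⟨g, hg, rfl⟩ := IsBiString.exists_biPoly h1
    rw [← hv, ← Module.End.mul_apply, ← pow_succ', B.add_pow_apply_biPoly hg,
      B.biPoly_eq_zero_iff] at hz1
    rw [eq_zero_of_coeff_one_add_X_pow_mul (p := p) (d := d) hg (Nat.succ_pos 5) (by omega)
      (by omega) fun a h6 h7 => hz1 a h6 (by omega) h7, map_zero, map_zero] at hv
    exact hz0 hv.symm

end trunc

/-- characters of degree `(p + 1) / 2` -/
theorem CenFrame.psl2_of_two [Finite G] {p : ℕ} [hp : Fact p.Prime] {P : Sylow p G}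
    (F : CenFrame p P) (h7 : 10 < p) (he : 2 * F.e + 1 = p) {ζ : IrrCharacter G}
    (hf : ∀ g, ζ.1 g = ζ.1 1 → g = 1) (hd : charDegree ζ.1 + F.e = p) :
    Nonempty (G ⧸ Subgroup.center G ≃* Matrix.ProjectiveSpecialLinearGroup (Fin 2) (ZMod p)) := by
  have := Fintype.ofFinite G
  obtain ⟨M, hM⟩ := exists_isPModular hp.out
  have := hM.charP
  have h2 : p ≠ 2 := by omega
  obtain ⟨θ, hθ⟩ := ζ.exists_overCen
  obtain ⟨E, hδ, l, hl, hE⟩ := F.exists_excFam_pos (by omega) ζ hd (F.not_le_charKer hf) hθ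
  obtain ⟨β, hβ, hv⟩ := F.exists_val_h ζ.isCharacter hθ (hE ▸ E.fixDim_eq_one hδ hl (hE ▸ hd))
  obtain ⟨u, hu, hu1⟩ := exists_ne_one_of_card_prime F.card
  obtain ⟨X, hX, y, S⟩ := F.exists_oneStr h2 hM ζ hθ hd hu hu1 hβ hv
  have B := S.isBiString S (F.pow_p hu) F.not_dvd_j (F.hconj u hu)
  let τ : Module.End (resK M) (Fin (charDegree ζ.1) × Fin (charDegree ζ.1) → resK M) :=
    LinearMap.funLeft _ _ Prod.swap
  have hτ : ∀ a b, τ (kronVec _ _ _ a b) = kronVec _ _ _ b a := fun a b => by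
    ext q; simp [τ, kronVec, mul_comm]
  obtain ⟨hR, z, hz0, hz1, hz2, ⟨c, hc⟩, ⟨w, hw⟩, hz5⟩ := B.exists_antisymm (p := p) (by omega)
    (by omega) (τ := τ) fun a c => by simp only [biMono, kronR_pow_apply, kronL_pow_apply, hτ]
  obtain ⟨q, hq, hqc, hS⟩ := exists_kron_add_eq X X h2 (F.pow_p hu)
  set σ := redRep (kronRep X X) with hσ
  rw [range_pow_eq_of_eq_mul hq hqc hS] at hR hz5
  have hzu : σ u z = z := by
    have h1 := ker_pow_eq_of_eq_mul hq hqc hS 1
    rw [pow_one, pow_one] at h1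
    exact sub_eq_zero.1 (LinearMap.mem_ker.1 (h1 ▸ LinearMap.mem_ker.2 hz2))
  obtain ⟨E₀, c₀, hc₀, hE1, hE2, hE3⟩ := exists_green_end σ P F.card hu hu1 hzu (fun n hn => by
    obtain ⟨b, i, a, h⟩ := F.redRep_normalizer (X := kronRep X X) (χ := ζ.1 * ζ.1)
      (fun g => by rw [trace_kronRep, Subring.coe_mul, hX]; rfl) (hθ.mul hθ) hu hu1 hn
    refine ⟨b * c ^ i, ?_⟩
    rw [hσ, h, LinearMap.smul_apply, Module.End.mul_apply,
      pow_apply_of_apply_eq_smul (hzu.trans (one_smul _ z).symm), one_pow, one_smul,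
      pow_apply_of_apply_eq_smul hc, smul_smul]) fun ⟨v, h⟩ => hz5 ⟨((σ u - 1) ^ (p - 6)) v, by
        rw [← Module.End.mul_apply, ← pow_add, show 5 + (p - 6) = p - 1 by omega, h]⟩
  have key : ∀ (b : resK M) (v), v - b • z ∈ LinearMap.range ((σ u - 1) ^ (p - 1)) →
      (1 - τ) v = (2 * b) • z := fun b v h => by
    have h1 := hR _ h
    rw [map_sub, map_smul, hz1] at h1
    rw [LinearMap.sub_apply, Module.End.one_apply, eq_add_of_sub_eq h1, mul_smul, two_smul,
      smul_neg]
    abel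
  obtain ⟨V, ρ, h3, h4⟩ := exists_short_submodule σ u (E := (1 - τ) * E₀) (fun g => by
      have : τ * σ g = σ g * τ := kron_ext fun a b => by
        simp only [hσ, Module.End.mul_apply, redRep_kronRep_kronVec, hτ]
      rw [mul_assoc, hE1, ← mul_assoc, sub_mul, this, one_mul, ← mul_assoc, mul_sub, mul_one])
    (mul_ne_zero (fun h => h2 ((Nat.prime_dvd_prime_iff_eq hp.out Nat.prime_two).1
      ((CharP.cast_eq_zero_iff (resK M) p 2).1 (by exact_mod_cast h)))) hc₀)
    (key c₀ _ hE2) hz0 (w := q w) (by rw [← Module.End.mul_apply, ← hS, hw]) (fun v hv => by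
      obtain ⟨a, ha, r, hr, h⟩ := Submodule.mem_sup.1 (hE3 v hv)
      obtain ⟨b, rfl⟩ := Submodule.mem_span_singleton.1 ha
      exact Submodule.mem_span_singleton.2 ⟨_, (key b _ (by rwa [← h, add_sub_cancel_left])).symm⟩)
    (sub_one_pow_char_eq_zero (F := resK M) (by rw [← map_pow, F.pow_p hu, map_one])) hz5
  exact F.psl2_of_module (F.commutator_sup_center (by omega) hf hd)
    (F.pPrimeCore_eq ζ.isCharacter hf (by have := F.two_le; omega)) ρ hu h3 h4 h7

end Cfsg
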