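import Cfsg.Agent.Lin.ToolT
import Cfsg.Agent.Lin.TwoCls
import Cfsg.Agent.CT.Indicator
import Cfsg.Agent.CT.ItoPSolv

/-! Feit's bounds for the degree of a faithful character. -/

set_option autoImplicit false
set_option linter.unusedSectionVars false

namespace Cfsg

open scoped ComplexConjugate

universe u v w

variable {G : Type u} [Group G] [Fintype G] {p : ℕ} [hp : Fact p.Prime] {P : Sylow p G}
  {F : CenFrame p P} {θ : Subgroup.center G →* ℂˣ}

theorem ExcFam.fixDim_mul (E : ExcFam F θ) (hδ : E.δ = 1) {l m : (P : Subgroup G) →* ℂˣ}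
    (hl : l ≠ 1) (hm : m ≠ 1) (hd : charDegree (E.ψ l).1 + F.e = p) [Decidable (F.Orb l m⁻¹)] :
    fixDim P ((E.ψ l).1 * (E.ψ m).1) + 2 * F.e = p + if F.Orb l m⁻¹ then F.e else 0 := by
  have := Fintype.ofFinite (P : Subgroup G)
  have h1 := ((E.ψ l).isCharacter.mul (E.ψ m).isCharacter).card_mul_fixDim (P : Subgroup G)
  have h2 := F.sum_mul_conj_of_val (ξ := fun g => conj ((E.ψ m).1 g)) (c := -1) (l := m⁻¹)
    (E.ψ l).isCharacter fun v hv => by rw [E.val m hm v hv, hδ, map_mul, map_intCast, F.conj_osum]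
  have h3 := E.rmul_eq hl m⁻¹
  rw [E.fixDim_eq_one hδ hl hd, hδ] at h3
  simp only [Complex.conj_conj, IrrCharacter.one_eq_charDegree, E.deg_eq hm hl] at h2
  simp only [Pi.mul_apply, h2, F.card] at h1
  have hp0 : (p : ℂ) ≠ 0 := by exact_mod_cast hp.out.ne_zero
  have h4 : (charDegree (E.ψ l).1 + F.e : ℂ) = p := by exact_mod_cast hd
  have h5 : (fixDim P ((E.ψ l).1 * (E.ψ m).1) : ℂ) + F.e * rmul P (E.ψ l).1 m⁻¹ + F.e = p :=
    mul_left_cancel₀ hp0 (by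
      push_cast at h1
      linear_combination h1 + (charDegree (E.ψ l).1 + p) * h4)
  have h6 : fixDim P ((E.ψ l).1 * (E.ψ m).1) + F.e * rmul P (E.ψ l).1 m⁻¹ + F.e = p := by
    exact_mod_cast h5
  split_ifs at h3 ⊢
  · rw [show rmul P (E.ψ l).1 m⁻¹ = 0 by omega] at h6; omega
  · rw [show rmul P (E.ψ l).1 m⁻¹ = 1 by omega] at h6; omega

theorem CenFrame.nuC_sq (F : CenFrame p P) (h2 : p ≠ 2) {ζ : IrrCharacter G} (hθ : OverCen θ ζ.1)
    (h1 : fixDim P ζ.1 = 1) {β γ : ℂ} (hβ : β ^ F.e = θ ⟨_, F.h_pow_mem⟩)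
    (hv : ∀ i, ¬ F.e ∣ i → ζ.1 (F.h ^ i) = β ^ i) (hγ : γ ^ F.e = (θ * θ) ⟨_, F.h_pow_mem⟩) {ε : ℂ}
    (hε : ε * ε = 1) [Decidable (γ = β * β)] :
    2 * (fixDim P fun g => (ζ.1 g ^ 2 + ε * ζ.1 (g * g)) / 2 : ℂ) = fixDim P (ζ.1 * ζ.1) + ε ∧
    2 * F.nuC γ (fun g => (ζ.1 g ^ 2 + ε * ζ.1 (g * g)) / 2) = fixDim P (ζ.1 * ζ.1) - 1 +
      (1 + ε) * (if γ = β * β then (F.e : ℂ) else 0) + ε * (charDegree ζ.1 - 1) *
        (∑ i ∈ Finset.range F.e with F.e ∣ 2 * i, (γ⁻¹ * (β * β)) ^ i - 1) := by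
  have := Fintype.ofFinite (P : Subgroup G)
  have hp0 : (p : ℂ) ≠ 0 := by exact_mod_cast hp.out.ne_zero
  have h3 : 2 * (fixDim P fun g => (ζ.1 g ^ 2 + ε * ζ.1 (g * g)) / 2 : ℂ) =
      fixDim P (ζ.1 * ζ.1) + ε := by
    have h3 := (ζ.isCharacter.sq_add_smul_apply_sq hε).card_mul_fixDim (P : Subgroup G)
    have h4 := (ζ.isCharacter.mul ζ.isCharacter).card_mul_fixDim (P : Subgroup G)
    have h5 := ζ.isCharacter.card_mul_fixDim (P : Subgroup G)
    rw [← (powCoprime (G := (P : Subgroup G)) (n := 2) (by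
      rw [F.card]; exact (Nat.coprime_primes hp.out Nat.prime_two).2 h2)).sum_comp, h1] at h5
    simp only [powCoprime_apply, pow_two, Subgroup.coe_mul, F.card, Pi.mul_apply, ← Finset.sum_div,
      Finset.sum_add_distrib, ← Finset.mul_sum] at h3 h4 h5 ⊢
    exact mul_left_cancel₀ hp0 (by linear_combination 2 * h3 - h4 - ε * h5)
  refine ⟨h3, ?_⟩
  have hγ' : (β * β) ^ F.e = (θ * θ) ⟨_, F.h_pow_mem⟩ := by rw [mul_pow, hβ]; rfl
  have h4 := F.nuC_of_val (χ := ζ.1 * ζ.1) hγ' hγ fun i hi => by rw [Pi.mul_apply, hv i hi, mul_pow]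
  have h6 : ∑ i ∈ Finset.range F.e, γ⁻¹ ^ i * ζ.1 (F.h ^ i * F.h ^ i) =
      ∑ i ∈ Finset.range F.e, (γ⁻¹ * (β * β)) ^ i + (charDegree ζ.1 - 1) *
        ∑ i ∈ Finset.range F.e with F.e ∣ 2 * i, (γ⁻¹ * (β * β)) ^ i := by
    rw [Finset.sum_filter, Finset.mul_sum, ← Finset.sum_add_distrib]
    refine Finset.sum_congr rfl fun i _ => ?_
    rw [← pow_add, ← two_mul, mul_pow, ← pow_two, ← pow_mul]
    split_ifs with h
    · obtain ⟨c, hc⟩ := h
      have := hθ (⟨_, F.h_pow_mem⟩ ^ c) 1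
      rw [mul_one, map_pow, Units.val_pow_eq_pow_val, ← hβ, Subgroup.coe_pow, ← pow_mul,
        ← pow_mul, ← hc] at this
      rw [this, ζ.one_eq_charDegree]
      ring
    · rw [hv _ h]; ring
  have h7 : ∑ i ∈ Finset.range F.e, (γ⁻¹ * (β * β)) ^ i = if γ = β * β then (F.e : ℂ) else 0 := by
    have h0 : γ ≠ 0 := fun h => by
      rw [h, zero_pow F.e_pos.ne'] at hγ; exact Units.ne_zero _ hγ.symm
    split_ifs with h
    · simp [← h, h0]
    · rw [geom_sum_eq (fun h' => h ((inv_mul_eq_one₀ h0).1 h')), mul_pow, inv_pow, hγ, hγ',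
        inv_mul_cancel₀ (Units.ne_zero _), sub_self, zero_div]
  rw [h7] at h6
  have h8 : ∑ i ∈ Finset.range F.e, γ⁻¹ ^ i * ((ζ.1 (F.h ^ i) ^ 2 + ε * ζ.1 (F.h ^ i * F.h ^ i)) / 2)
      = (∑ i ∈ Finset.range F.e, γ⁻¹ ^ i * (ζ.1 * ζ.1) (F.h ^ i) +
        ε * ∑ i ∈ Finset.range F.e, γ⁻¹ ^ i * ζ.1 (F.h ^ i * F.h ^ i)) / 2 := by
    rw [Finset.mul_sum, ← Finset.sum_add_distrib, Finset.sum_div]
    exact Finset.sum_congr rfl fun i _ => by rw [Pi.mul_apply]; ring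
  simp only [CenFrame.nuC, mul_one, Pi.mul_apply, ζ.one_eq_charDegree] at h4 h8 ⊢
  linear_combination h3 + h4 + 2 * h8 + ε * h6

theorem CenFrame.charDegree_ne (F : CenFrame p P) (hO : pPrimeCore p G = Subgroup.center G)
    {ξ : IrrCharacter G} (hk : ¬ (P : Subgroup G) ≤ charKer ξ.1) (h : 2 * charDegree ξ.1 + 1 < p) :
    False := by
  obtain ⟨h1, h2⟩ := F.sylow_map (QuotientGroup.mk'_surjective (charKer ξ.1)) (by
    rw [QuotientGroup.ker_mk', ← hO]
    exact le_pPrimeCore_of_not_dvd inferInstance (not_dvd_card_of_sylow_not_le P F.card hk))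
  obtain ⟨F'⟩ := nonempty_autFrame h1
  have h3 := ξ.charDegree_pos
  have h4 := F'.small_faithful h2 (ξ.deflate _ le_rfl)
    ((IrrCharacter.charKer_eq_bot_iff _).1 ξ.charKer_deflate_self) (by simp only [IrrCharacter.charDegree_deflate]; omega)
  simp only [IrrCharacter.charDegree_deflate] at h4
  omega

theorem filter_dvd_two_mul_even {e k : ℕ} (hk : e = 2 * k) (h0 : 0 < k) :
    (Finset.range e).filter (e ∣ 2 * ·) = {0, k} := by
  ext i
  simp only [Finset.mem_filter, Finset.mem_range, Finset.mem_insert, Finset.mem_singleton, hk]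
  refine ⟨fun ⟨h, c, hc⟩ => ?_, ?_⟩
  · rcases c with _ | _ | c
    · omega
    · omega
    · nlinarith
  · rintro (rfl | rfl)
    · exact ⟨by omega, dvd_zero _⟩
    · exact ⟨by omega, dvd_rfl⟩

theorem ExcFam.main_ineq_aux (E : ExcFam F θ) (E' : ExcFam F (θ * θ)) (hδ : E.δ = 1)
    {l : (P : Subgroup G) →* ℂˣ} (hl : l ≠ 1) (hd : charDegree (E.ψ l).1 + F.e = p) {t : ℕ}
    (ht : p = t * F.e + 1) (h3 : 3 ≤ t) (hO : pPrimeCore p G = Subgroup.center G) :
    F.e = 2 ∨ (E'.δ = -1 ∧ F.e < t ∧ ∃ γ : ℂ, γ ^ F.e = (θ * θ) ⟨_, F.h_pow_mem⟩ ∧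
      F.nuC γ (E'.ψ l).1 ≠ 0) := by
  classical
  have he := F.two_le
  have h3e : 3 * F.e ≤ t * F.e := Nat.mul_le_mul_right _ h3
  have h2 : p ≠ 2 := by omega
  have hc := card_unitsHom_of_card_prime F.card
  have : Finite ((P : Subgroup G) →* ℂˣ) := Nat.finite_of_card_ne_zero (hc.trans_ne hp.out.ne_zero)
  have := Fintype.ofFinite ((P : Subgroup G) →* ℂˣ)
  obtain ⟨m, hm, hlm⟩ := F.exists_not_orb (by omega) hl
  have hm' : m⁻¹ ≠ 1 := fun h => hm (by rw [← inv_inv m, h]; rfl)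
  have hfix := E.fixDim_eq_one hδ hl hd
  obtain ⟨β, hβ, hv⟩ := F.exists_val_h (E.ψ l).isCharacter (E.cen l hl) hfix
  have hv' : ∀ i, ¬ F.e ∣ i → (E.ψ m⁻¹).1 (F.h ^ i) = β ^ i := fun i hi => by
    rw [E.reg _ l hm' hl _ (F.h_reg i), hv i hi]
  have hT := fun l' hl' => E'.toolT h2 (E.cen l hl) (E.cen _ hm') hd (E.deg_eq hl hm' ▸ hd) hβ hv hv'
    (l := l') hl' (by omega)
  have h4 := E.fixDim_mul hδ hl hm' hd
  rw [inv_inv m, if_neg hlm] at h4
  have hγ' : (β * β) ^ F.e = (θ * θ) ⟨_, F.h_pow_mem⟩ := by rw [mul_pow, hβ]; rfl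
  set χ := (E.ψ l).1 * (E.ψ m⁻¹).1 with hχ
  have hχc : IsCharacter G χ := (E.ψ l).isCharacter.mul (E.ψ _).isCharacter
  have hχφ : OverCen (θ * θ) χ := (E.cen l hl).mul (E.cen _ hm')
  obtain ⟨d, hdd⟩ : ∃ d, charDegree (E.ψ l).1 = d := ⟨_, rfl⟩
  have h5 := E'.sum_cmult_eq hχc hχφ hl
  rw [show charDegree χ = d * d from charDegree_eq_of_one_eq (by
    rw [hχ, Pi.mul_apply, IrrCharacter.one_eq_charDegree, IrrCharacter.one_eq_charDegree,
      E.deg_eq hm' hl, hdd, Nat.cast_mul])] at h5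
  have hsum : ∀ γ : ℂ, γ ^ F.e = (θ * θ) ⟨_, F.h_pow_mem⟩ → F.nuC γ (E'.ψ l).1 ≠ 0 →
      ∑ m ∈ Finset.univ.erase 1, cmult χ (E'.ψ m).1 + 1 ≤
        fixDim P χ + if γ = β * β then F.e else 0 := fun γ hγ h0 => by
    obtain ⟨n, h6, h7⟩ := E'.sum_cmult_le hχc hχφ hγ hl h0
    rw [F.nuC_of_val hγ' hγ fun i hi => by rw [hχ, Pi.mul_apply, hv i hi, hv' i hi, mul_pow]] at h6
    have h8 : ((fixDim P χ + if γ = β * β then F.e else 0 : ℕ) : ℂ) = (F.e * n + 1 : ℕ) := by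
      push_cast; linear_combination h6
    rw [Nat.cast_injective h8]
    omega
  rw [hdd] at hd
  have hpZ : (p : ℤ) = t * F.e + 1 := by exact_mod_cast ht
  have hdZ : (d : ℤ) = (t - 1) * F.e + 1 := by zify at hd; linear_combination hd + hpZ
  have heZ : (2 : ℤ) ≤ F.e := by exact_mod_cast he
  have htZ : (3 : ℤ) ≤ t := by exact_mod_cast h3
  rcases hT l hl with ⟨hδ', γ, hγ, h0, h6, h7⟩ | ⟨hδ', h6, h7⟩
  · have h8 := hsum γ hγ h0
    rw [hδ'] at h5
    refine Or.inl (le_antisymm ?_ he)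
    obtain ⟨K, hK⟩ : ∃ K, cmult χ (E'.ψ l).1 + rmul P χ l = K := ⟨_, rfl⟩
    rw [hK] at h6 h7
    zify at h8 hK h7 hd h4 ⊢
    rw [one_mul, one_mul, hK] at h5
    push_cast at h5
    split_ifs at h8 with h
    · have h9 : (d : ℤ) ≤ K := by have := h6 h; omega
      have h10 : (p - 1 : ℤ) * d ≤ (p - 1) * K := by gcongr; omega
      nlinarith
    · have h10 : (F.e : ℤ) * (t * K) ≤ F.e * ((t - 1) * (d + 1)) := by
        linear_combination h8 - h5 - K * hpZ + (d + 1) * hdZ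
      have h11 := le_of_mul_le_mul_left h10 (by omega)
      have h12 : (t : ℤ) * (2 * d - F.e) ≤ t * (2 * K) := by gcongr; omega
      nlinarith
  obtain ⟨γ, hγ, h0⟩ := h7.resolve_left fun h =>
    F.charDegree_ne hO (E'.not_le_charKer (by omega) hl) (by omega)
  refine Or.inr ⟨hδ', ?_, γ, hγ, h0⟩
  · have h8 := hsum γ hγ h0
    have h9 : (if γ = β * β then F.e else 0) ≤ F.e := by split_ifs <;> omega
    have h10 := h8.trans (Nat.add_le_add_left h9 _)
    rw [hδ'] at h5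
    zify at h10 h6 h4 hd ⊢
    push_cast at h5
    have h11 : (p - 1 : ℤ) * (2 * F.e - p) ≤ (p - 1) * (cmult χ (E'.ψ l).1 - rmul P χ l) := by
      exact mul_le_mul_of_nonneg_left (by linarith) (by linarith)
    have h12 : (F.e : ℤ) * F.e ≤ F.e * (t - 1) := by
      linear_combination h10 + h11 - h5 + h4 + hpZ - (d + p - F.e) * hd + h4
    have := le_of_mul_le_mul_left h12 (by omega)
    omega

theorem ExcFam.main_ineq (E : ExcFam F θ) (E' : ExcFam F (θ * θ)) (hδ : E.δ = 1)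
    {l : (P : Subgroup G) →* ℂˣ} (hl : l ≠ 1) (hd : charDegree (E.ψ l).1 + F.e = p) {t : ℕ}
    (ht : p = t * F.e + 1) (h3 : 3 ≤ t) (hO : pPrimeCore p G = Subgroup.center G) :
    F.e = 2 ∨ (E'.δ = -1 ∧ F.e + 3 ≤ t) := by
  classical
  refine (E.main_ineq_aux E' hδ hl hd ht h3 hO).elim Or.inl fun ⟨hδ', h8, γ, hγ, h0⟩ => ?_
  have he := F.two_le
  have h3e : 3 * F.e ≤ t * F.e := Nat.mul_le_mul_right _ h3
  have h2 : p ≠ 2 := by omega
  have hc := card_unitsHom_of_card_prime F.card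
  have : Finite ((P : Subgroup G) →* ℂˣ) := Nat.finite_of_card_ne_zero (hc.trans_ne hp.out.ne_zero)
  have := Fintype.ofFinite ((P : Subgroup G) →* ℂˣ)
  have hfix := E.fixDim_eq_one hδ hl hd
  obtain ⟨β, hβ, hv⟩ := F.exists_val_h (E.ψ l).isCharacter (E.cen l hl) hfix
  have hγ' : (β * β) ^ F.e = (θ * θ) ⟨_, F.h_pow_mem⟩ := by rw [mul_pow, hβ]; rfl
  obtain ⟨d, hdd⟩ : ∃ d, charDegree (E.ψ l).1 = d := ⟨_, rfl⟩
  rw [hdd] at hd
  have hpZ : (p : ℤ) = t * F.e + 1 := by exact_mod_cast ht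
  have hdZ : (d : ℤ) = (t - 1) * F.e + 1 := by zify at hd; linear_combination hd + hpZ
  have key : ∀ ε : ℤ, ε * ε = 1 → ∃ (n x : ℕ) (K : ℤ), x ≤ F.e * n ∧
      2 * (x : ℤ) = 2 * (p - 1) * K + d * d + ε * d - fixDim P ((E.ψ l).1 * (E.ψ l).1) - ε ∧
      2 * (F.e * n : ℂ) = fixDim P ((E.ψ l).1 * (E.ψ l).1) - 1 +
        (1 + ε) * (if γ = β * β then (F.e : ℂ) else 0) + ε * (d - 1) *
        (∑ i ∈ Finset.range F.e with F.e ∣ 2 * i, (γ⁻¹ * (β * β)) ^ i - 1) := fun ε hε => by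
    have hε' : (ε : ℂ) * ε = 1 := by exact_mod_cast hε
    have h9 := (E.ψ l).isCharacter.sq_add_smul_apply_sq hε'
    obtain ⟨h10, h11⟩ := F.nuC_sq h2 (E.cen l hl) hfix hβ hv hγ hε'
    obtain ⟨n, h12, h13⟩ := E'.sum_cmult_le h9 ((E.cen l hl).sq ε) hγ hl h0
    have h14 := E'.sum_cmult_eq h9 ((E.cen l hl).sq ε) hl
    have h15 := h9.one_eq_charDegree
    simp only [mul_one, IrrCharacter.one_eq_charDegree, hdd] at h15
    have h16 : 2 * (charDegree fun g => ((E.ψ l).1 g ^ 2 + ε * (E.ψ l).1 (g * g)) / 2 : ℂ) =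
        d * d + ε * d := by linear_combination -2 * h15
    rw [h12, hdd] at h11
    rw [hδ'] at h14
    refine ⟨n, _, (cmult (fun g => ((E.ψ l).1 g ^ 2 + ε * (E.ψ l).1 (g * g)) / 2) (E'.ψ l).1 : ℤ) -
      rmul P (fun g => ((E.ψ l).1 g ^ 2 + ε * (E.ψ l).1 (g * g)) / 2) l, h13, ?_, h11⟩
    have h17 : 2 * (charDegree fun g => ((E.ψ l).1 g ^ 2 + ε * (E.ψ l).1 (g * g)) / 2 : ℤ) =
        d * d + ε * d := by exact_mod_cast h16
    have h18 : 2 * (fixDim P fun g => ((E.ψ l).1 g ^ 2 + ε * (E.ψ l).1 (g * g)) / 2 : ℤ) =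
        fixDim P ((E.ψ l).1 * (E.ψ l).1) + ε := by exact_mod_cast h10
    linear_combination 2 * h14 + h17 - h18
  have h9 := E.fixDim_mul hδ hl hl (hdd ▸ hd)
  obtain ⟨b, hb, hb1⟩ : ∃ b : ℤ, (fixDim P ((E.ψ l).1 * (E.ψ l).1) : ℤ) = (t - 2 + b) * F.e + 1 ∧
      (b = 0 ∨ b = 1) := by
    zify at h9
    split_ifs at h9
    · exact ⟨1, by linear_combination h9 + hpZ, Or.inr rfl⟩
    · exact ⟨0, by linear_combination h9 + hpZ, Or.inl rfl⟩
  have heC : (F.e : ℂ) ≠ 0 := by exact_mod_cast F.e_pos.ne'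
  have hbC : (fixDim P ((E.ψ l).1 * (E.ψ l).1) : ℂ) = (t - 2 + b) * F.e + 1 := by
    exact_mod_cast hb
  have hdC : (d : ℂ) = (t - 1) * F.e + 1 := by exact_mod_cast hdZ
  rcases Nat.even_or_odd' F.e with ⟨k, hk | hk⟩
  · have h10 := filter_dvd_two_mul_even hk (by omega)
    have hγ0 : γ ≠ 0 := fun h => by
      rw [h, zero_pow F.e_pos.ne'] at hγ; exact Units.ne_zero _ hγ.symm
    obtain ⟨ε, hε, h11⟩ : ∃ ε : ℤ, (ε = 1 ∨ ε = -1) ∧ (γ⁻¹ * (β * β)) ^ k = -ε := by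
      have : (γ⁻¹ * (β * β)) ^ k * (γ⁻¹ * (β * β)) ^ k = 1 := by
        rw [← pow_add, ← two_mul, ← hk, mul_pow, inv_pow, hγ, hγ', inv_mul_cancel₀ (Units.ne_zero _)]
      rcases mul_self_eq_one_iff.1 this with h | h
      · exact ⟨-1, Or.inr rfl, by simp [h]⟩
      · exact ⟨1, Or.inl rfl, by simp [h]⟩
    have hε2 : ε * ε = 1 := by rcases hε with rfl | rfl <;> rfl
    obtain ⟨n, x, K, h12, h13, h14⟩ := key ε hε2
    have h15 : (1 + ε) * (if γ = β * β then (F.e : ℂ) else 0) = 0 := by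
      split_ifs with h
      · rw [← h, inv_mul_cancel₀ hγ0, one_pow] at h11
        rw [h11, neg_add_cancel, zero_mul]
      · rw [mul_zero]
    have hε' : (ε : ℂ) * ε = 1 := by exact_mod_cast hε2
    rw [h10, Finset.sum_pair (by omega), pow_zero, h11, h15] at h14
    have h16 : (2 * n : ℂ) = b - 1 := mul_left_cancel₀ heC (by
      linear_combination h14 + hbC - hdC - (d - 1) * hε')
    have h17 : (2 * n : ℤ) = b - 1 := by exact_mod_cast h16
    obtain rfl : n = 0 := by omega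
    obtain rfl : x = 0 := by omega
    obtain rfl : b = 1 := by omega
    have h18 : (F.e : ℤ) * (F.e - 1 - ε) = F.e * (t * (-2 * K - (t - 2) * F.e - 1 - ε)) := by
      push_cast at h13
      linear_combination -h13 - 2 * K * hpZ - (d + (t - 1) * F.e + 1 + ε) * hdZ + hb
    have h19 := Int.eq_zero_of_dvd_of_nonneg_of_lt (by omega) (by omega)
      (Dvd.intro _ (mul_left_cancel₀ (by omega) h18).symm)
    omega
  · have h10 : (Finset.range F.e).filter (F.e ∣ 2 * ·) = {0} := by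
      ext i
      simp only [Finset.mem_filter, Finset.mem_range, Finset.mem_singleton]
      refine ⟨fun ⟨h, hc⟩ => Nat.eq_zero_of_dvd_of_lt
        (Nat.Coprime.dvd_of_dvd_mul_left (by rw [hk]; simp) hc) h, ?_⟩
      rintro rfl
      exact ⟨by omega, dvd_zero _⟩
    obtain ⟨n, x, K, h12, h13, h14⟩ := key (-1) rfl
    rw [h10, Finset.sum_singleton] at h14
    have h16 : (2 * n : ℂ) = t - 2 + b := mul_left_cancel₀ heC (by
      push_cast at h14
      linear_combination h14 + hbC)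
    have h17 : (2 * n : ℤ) = t - 2 + b := by exact_mod_cast h16
    obtain ⟨s, hs⟩ : Even t := by
      by_contra h
      have := (Nat.not_even_iff_odd.1 h).mul (⟨k, hk⟩ : Odd F.e)
      exact h2 ((hp.out.even_iff).1 (ht ▸ this.add_one))
    obtain rfl : b = 0 := by omega
    have hsZ : (t : ℤ) = s + s := by exact_mod_cast hs
    have h18 : (2 * x : ℤ) = F.e * (2 * t * (K + (s - 1) * F.e) + F.e + 1) := by
      linear_combination h13 + 2 * K * hpZ + (d + (t - 1) * F.e) * hdZ - hb +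
        F.e * F.e * t * hsZ
    have h19 : 2 * t * (K + (s - 1) * F.e) + F.e + 1 ≤ (t - 2 : ℤ) := by
      refine le_of_mul_le_mul_left (a := (F.e : ℤ)) ?_ (by omega)
      zify at h12
      linear_combination 2 * h12 - h18 + F.e * h17
    have h20 : 0 ≤ 2 * t * (K + (s - 1) * F.e) + F.e + 1 :=
      nonneg_of_mul_nonneg_right (a := (F.e : ℤ)) (by rw [← h18]; positivity) (by omega)
    refine Or.inr ⟨hδ', ?_⟩
    generalize K + (s - 1) * F.e = L at h19 h20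
    rcases lt_or_ge L 0 with h | h <;> nlinarith

/-- **Feit**: faithful characters of degree at most `p - 2`. -/
theorem AutFrame.feit_small (F : AutFrame p (P : Subgroup G)) (h7 : 7 < p)
    (hnn : ¬ (P : Subgroup G).Normal) (ζ : IrrCharacter G) (hf : ∀ g, ζ.1 g = ζ.1 1 → g = 1)
    (hd : charDegree ζ.1 + 2 ≤ p) {t : ℕ} (ht : t * F.e = p - 1) :
    (Nonempty (G ⧸ Subgroup.center G ≃* Matrix.ProjectiveSpecialLinearGroup (Fin 2) (ZMod p)) ∧
      (2 * charDegree ζ.1 = p + 1 ∨ 2 * charDegree ζ.1 = p - 1) ∧ t = 2) ∨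
    (charDegree ζ.1 + F.e = p ∧ F.e + 3 ≤ t ∧ (Odd (Nat.card (Subgroup.center G)) → F.e = 2)) := by
  have h10 : 10 < p := by
    by_contra h
    have := hp.out
    interval_cases p <;> norm_num at this
  have he := F.e_pos
  rcases F.small_faithful hnn ζ hf hd with ⟨h1, h2⟩ | ⟨h1, h2, F, rfl⟩
  · exact Or.inl ⟨ζ.isCharacter.psl2_of_small hf (by omega) F.card hnn, Or.inr (by omega),
      Nat.eq_of_mul_eq_mul_right he (by omega)⟩
  have h3 : 2 ≤ t := by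
    by_contra h
    have := Nat.mul_le_mul_right F.e (show t ≤ 1 by omega)
    have := F.two_le
    omega
  rcases h3.eq_or_lt with rfl | h3
  · exact Or.inl ⟨F.psl2_of_two h10 (by omega) hf h1, Or.inl (by omega), rfl⟩
  obtain ⟨θ, hθ⟩ := ζ.exists_overCen
  obtain ⟨E, hδ, l, hl, rfl⟩ := F.exists_excFam_pos h2 ζ h1 (F.not_le_charKer hf) hθ
  have hO := F.pPrimeCore_eq (E.ψ l).isCharacter hf hd
  refine Or.inr ⟨h1, ?_, fun hZ => ?_⟩
  · have hχ := (E.ψ l).isCharacter.mul (E.ψ l).isCharacter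
    obtain ⟨η, hη, hηp⟩ := hχ.exists_constituent_not_dvd (p := p) (by
      rw [show charDegree ((E.ψ l).1 * (E.ψ l).1) = charDegree (E.ψ l).1 * charDegree (E.ψ l).1 from
        charDegree_eq_of_one_eq (by
          rw [Pi.mul_apply, IrrCharacter.one_eq_charDegree, Nat.cast_mul]), hp.out.dvd_mul, or_self]
      exact Nat.not_dvd_of_pos_of_lt (E.ψ l).charDegree_pos (by omega))
    obtain ⟨E', -⟩ := F.exists_excFam η hηp ((hθ.mul hθ).of_constituent hη)
    rcases E.main_ineq E' hδ hl h1 (by omega) h3 hO with h | h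
    · rw [h] at ht ⊢; omega
    · exact h.2
  · obtain ⟨k, hk, hk1, -⟩ := exists_coprime_pow_eq_sq (G := G)
    obtain ⟨E', hδ', -⟩ := F.exists_excFam_pos h2 ((E.ψ l).powConj k hk)
      (by rw [IrrCharacter.charDegree_powConj]; omega) (F.not_le_charKer fun g hg =>
        (powCoprime hk.symm).injective (by simpa using hf (g ^ k) (by simpa using hg)))
      (hθ.powConj fun z hz => hk1 z fun h => (Nat.not_even_iff_odd.2 hZ)
        (even_iff_two_dvd.2 (h.trans ((Subgroup.center G).orderOf_dvd_natCard hz))))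
    exact (E.main_ineq E' hδ hl h1 (by omega) h3 hO).resolve_right fun h => by omega

end Cfsg
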