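import Cfsg.Agent.Lin.Sixteen
import Cfsg.Agent.Grp.NormalComplement

/-! Scott's lemma on fixed spaces and some counting tools. -/

set_option autoImplicit false

namespace Cfsg

open scoped ComplexConjugate Pointwise
open Module

universe u v w

variable {G : Type u} [Group G]

section Scott

variable [Finite G] {V : Type v} [AddCommGroup V] [Module ℂ V] [FiniteDimensional ℂ V]
  (ρ : Representation ℂ G V)

theorem finrank_invariants_rep_eq_fixDim (H : Subgroup G) :
    finrank ℂ (Representation.invariants (ρ.comp H.subtype)) = fixDim H ρ.character := by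
  have := Fintype.ofFinite H
  have h0 : (Nat.card H : ℂ) ≠ 0 := by exact_mod_cast Nat.card_pos.ne'
  have := invertibleOfNonzero h0
  apply Nat.cast_injective (R := ℂ)
  rw [← Representation.card_inv_mul_sum_char_eq_finrank, inv_mul_eq_iff_eq_mul₀ h0,
    (isCharacter_of_rep ρ).card_mul_fixDim]
  rfl

omit [FiniteDimensional ℂ V] in
theorem invariants_zpowers_eq (a : G) :
    Representation.invariants (ρ.comp (Subgroup.zpowers a).subtype) = LinearMap.ker (ρ a - 1) := by
  ext v
  rw [Representation.mem_invariants, LinearMap.mem_ker, LinearMap.sub_apply, sub_eq_zero]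
  refine ⟨fun h => h ⟨a, Subgroup.mem_zpowers a⟩, fun h ⟨g, hg⟩ => ?_⟩
  obtain ⟨k, rfl⟩ := mem_powers_iff_mem_zpowers.2 hg
  change ρ (a ^ k) v = v
  induction k with
  | zero => simp
  | succ k ih => rw [pow_succ, map_mul, Module.End.mul_apply, h]; exact ih (pow_mem (by simp) k)

theorem scott_aux {a b : G} (h : LinearMap.ker (ρ a - 1) ⊓ LinearMap.ker (ρ b - 1) = ⊥) :
    finrank ℂ (LinearMap.ker (ρ a - 1)) + finrank ℂ (LinearMap.ker (ρ b - 1)) +
      finrank ℂ (LinearMap.ker (ρ (a * b) - 1)) ≤ finrank ℂ V := by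
  set U := LinearMap.range (ρ a⁻¹ - 1) ⊔ LinearMap.range (ρ b - 1) with hU
  have h1 : U = ⊤ := by
    rw [eq_top_iff]
    intro v _
    set H := Subgroup.closure ({a⁻¹, b} : Set G)
    have := Fintype.ofFinite H
    have h2 : ∀ g ∈ H, ∀ w, ρ g w - w ∈ U := fun g hg => by
      induction hg using Subgroup.closure_induction with
      | mem x hx =>
        rcases hx with rfl | rfl
        · exact fun w => Submodule.mem_sup_left ⟨w, rfl⟩
        · exact fun w => Submodule.mem_sup_right ⟨w, rfl⟩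
      | one => simp
      | mul x y _ _ hx hy =>
        intro w
        have := U.add_mem (hx (ρ y w)) (hy w)
        rwa [sub_add_sub_cancel, ← Module.End.mul_apply, ← map_mul] at this
      | inv x _ hx =>
        intro w
        have := U.neg_mem (hx (ρ x⁻¹ w))
        rwa [neg_sub, ← Module.End.mul_apply, ← map_mul, mul_inv_cancel, map_one,
          Module.End.one_apply] at this
    have h3 : ∀ g ∈ H, (ρ g - 1) (∑ x : H, ρ x v) = 0 := fun g hg => by
      rw [LinearMap.sub_apply, sub_eq_zero, map_sum, Module.End.one_apply,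
        ← Equiv.sum_comp (Equiv.mulLeft (⟨g, hg⟩ : H)) fun x : H => ρ x v]
      simp
    have h4 : ∑ x : H, ρ x v = 0 := (Submodule.eq_bot_iff _).1 h _
      ⟨h3 a (inv_inv a ▸ inv_mem (Subgroup.subset_closure (by simp))),
        h3 b (Subgroup.subset_closure (by simp))⟩
    have h5 := U.neg_mem (U.sum_mem (t := Finset.univ) fun (x : H) _ => h2 x x.2 v)
    rw [Finset.sum_sub_distrib, h4, zero_sub, neg_neg, Finset.sum_const, ← Nat.cast_smul_eq_nsmul ℂ,
      U.smul_mem_iff (by simp)] at h5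
    exact h5
  have h2 := Submodule.finrank_sup_add_finrank_inf_eq (LinearMap.range (ρ a⁻¹ - 1))
    (LinearMap.range (ρ b - 1))
  have h3 := (ρ a⁻¹ - 1).finrank_range_add_finrank_ker
  have h4 := (ρ b - 1).finrank_range_add_finrank_ker
  rw [← invariants_zpowers_eq, Subgroup.zpowers_inv, invariants_zpowers_eq] at h3
  rw [← hU, h1, finrank_top] at h2
  have key : ∀ v ∈ LinearMap.ker (ρ (a * b) - 1), ρ b v = ρ a⁻¹ v := fun v hv => by
    rw [LinearMap.mem_ker, LinearMap.sub_apply, sub_eq_zero, Module.End.one_apply] at hv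
    rw [← congrArg (ρ a⁻¹) hv, ← Module.End.mul_apply, ← map_mul, inv_mul_cancel_left]
  have h5 := LinearMap.finrank_le_finrank_of_injective
    (f := (ρ b - 1).restrict (p := LinearMap.ker (ρ (a * b) - 1))
      (q := LinearMap.range (ρ a⁻¹ - 1) ⊓ LinearMap.range (ρ b - 1)) fun v hv =>
        ⟨⟨v, by simp [key v hv]⟩, ⟨v, rfl⟩⟩) (by
      rw [injective_iff_map_eq_zero]
      intro v hv
      have h6 : (ρ b - 1) v = 0 := congrArg Subtype.val hv
      refine Subtype.ext ((Submodule.eq_bot_iff _).1 h _ ⟨?_, h6⟩)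
      rw [LinearMap.sub_apply, sub_eq_zero, Module.End.one_apply] at h6
      obtain ⟨v, h7⟩ := v
      rw [LinearMap.mem_ker, LinearMap.sub_apply, map_mul, Module.End.mul_apply, h6] at h7
      exact h7)
  omega

/-- Scott's lemma -/
theorem IsCharacter.fixDim_sup_ne_zero {χ : G → ℂ} (hχ : IsCharacter G χ) {A B : Subgroup G}
    {a b : G} (ha : a ∈ A) (hb : b ∈ B) (hA : fixDim (Subgroup.zpowers a) χ ≤ fixDim A χ)
    (hB : fixDim (Subgroup.zpowers b) χ ≤ fixDim B χ)
    (h : charDegree χ < fixDim (Subgroup.zpowers a) χ + fixDim (Subgroup.zpowers b) χ +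
      fixDim (Subgroup.zpowers (a * b)) χ) : fixDim (A ⊔ B) χ ≠ 0 := by
  obtain ⟨n, ρ, rfl⟩ := hχ
  intro h0
  simp only [← finrank_invariants_rep_eq_fixDim, charDegree_character] at *
  have key : ∀ {A : Subgroup G} {a : G}, a ∈ A →
      finrank ℂ (Representation.invariants (ρ.comp (Subgroup.zpowers a).subtype)) ≤
        finrank ℂ (Representation.invariants (ρ.comp A.subtype)) →
      Representation.invariants (ρ.comp A.subtype) = LinearMap.ker (ρ a - 1) := fun ha hA => by
    rw [← invariants_zpowers_eq]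
    exact Submodule.eq_of_le_of_finrank_le (fun v hv g => hv ⟨g, Subgroup.zpowers_le.2 ha g.2⟩) hA
  have h1 := scott_aux ρ (a := a) (b := b) (by
    rw [← key ha hA, ← key hb hB, eq_bot_iff, ← Submodule.finrank_eq_zero.1 h0]
    rintro v ⟨h1, h2⟩ ⟨g, hg⟩
    change ρ g v = v
    rw [Subgroup.sup_eq_closure] at hg
    induction hg using Subgroup.closure_induction with
    | mem x hx => exact hx.elim (fun hx => h1 ⟨x, hx⟩) fun hx => h2 ⟨x, hx⟩
    | one => simp
    | mul x y _ _ hx hy => rw [map_mul, Module.End.mul_apply, hy, hx]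
    | inv x _ hx =>
      rw [← congrArg (ρ x⁻¹) hx, ← Module.End.mul_apply, ← map_mul, inv_mul_cancel, map_one,
        Module.End.one_apply])
  rw [invariants_zpowers_eq, invariants_zpowers_eq, invariants_zpowers_eq] at h
  omega

end Scott

theorem IsCharacter.mul_fixDim_zpowers [Finite G] {χ : G → ℂ} (hχ : IsCharacter G χ) {g : G}
    {n : ℕ} (hg : orderOf g = n) :
    (n : ℂ) * fixDim (Subgroup.zpowers g) χ = ∑ i ∈ Finset.range n, χ (g ^ i) := by
  have := Fintype.ofFinite (Subgroup.zpowers g)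
  have h := hχ.card_mul_fixDim (Subgroup.zpowers g)
  rw [Nat.card_zpowers, ← (finEquivZPowers (isOfFinOrder_of_finite g)).sum_comp] at h
  rw [← hg, h, Finset.sum_range]
  rfl

/-- the order of a subgroup in which an element of order `p` is a product of two `p`-regular
elements -/
theorem exists_card_eq_of_mul [Finite G] {p : ℕ} [hp : Fact p.Prime] {P : Sylow p G}
    (hP : Nat.card P = p) {e : ℕ} (hN : Nat.card (sylN P) = p * e) {M : Subgroup G} {a b : G}
    (ha : a ∈ M) (hb : b ∈ M) (ha' : ¬ p ∣ orderOf a) (hb' : ¬ p ∣ orderOf b)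
    (hab : orderOf (a * b) = p) :
    ∃ e' n, 2 ≤ e' ∧ e' ∣ e ∧ n % p = 1 ∧ Nat.card M = p * e' * n := by
  obtain ⟨Q⟩ : Nonempty (Sylow p M) := inferInstance
  obtain ⟨R, hR⟩ := (Q.isPGroup'.map M.subtype).exists_le_sylow
  have hR1 : Nat.card R = p := by rw [R.card_eq_multiplicity, ← P.card_eq_multiplicity, hP]
  have h1 : p ∣ Nat.card Q := Q.dvd_card_of_dvd_card
    (hab ▸ Subgroup.orderOf_dvd_natCard M (mul_mem ha hb))
  have h2 : Nat.card ((Q : Subgroup M).map M.subtype) = Nat.card Q :=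
    Subgroup.card_map_of_injective M.subtype_injective
  have h3 : (Q : Subgroup M).map M.subtype = R := Subgroup.eq_of_le_of_card_ge hR (by
    rw [hR1, h2]; exact Nat.le_of_dvd Nat.card_pos h1)
  have hQ : Nat.card Q = p := by rw [← h2, h3, hR1]
  have h4 : Nat.card (sylN R) = p * e := by
    have e1 := (sylN R).card_mul_index
    rw [show (sylN R).index = (sylN P).index from
      R.card_eq_index_normalizer.symm.trans P.card_eq_index_normalizer,
      ← (sylN P).card_mul_index] at e1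
    exact (Nat.eq_of_mul_eq_mul_right (Nat.pos_of_ne_zero Subgroup.index_ne_zero_of_finite)
      e1).trans hN
  have h5 : Nat.card (sylN Q) ∣ p * e := by
    rw [← h4, ← Subgroup.card_map_of_injective (K := sylN Q) M.subtype_injective]
    exact Subgroup.card_dvd_of_le ((Subgroup.le_normalizer_map _).trans_eq (by rw [h3]))
  obtain ⟨e', he'⟩ : p ∣ Nat.card (sylN Q) :=
    hQ.symm.dvd.trans (Subgroup.card_dvd_of_le Subgroup.le_normalizer)
  refine ⟨e', (sylN Q).index, ?_, Nat.dvd_of_mul_dvd_mul_left hp.out.pos (he' ▸ h5), ?_, ?_⟩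
  · by_contra h
    have h6 : e' ≠ 0 := fun h0 => by
      rw [h0, mul_zero] at he'; exact Nat.card_pos.ne' he'
    have h7 : (Q : Subgroup M) = sylN Q := Subgroup.eq_of_le_of_card_ge Subgroup.le_normalizer (by
      rw [he', hQ, show e' = 1 by omega, mul_one])
    obtain ⟨Q', K, hK, hc⟩ := hasNormalPComplement_of_normalizer_le_centralizer Q
      (h7.ge.trans (le_centralizer_of_card_prime hQ))
    have h8 : K.index = p := by
      rw [hc.symm.index_eq_card, Q'.card_eq_multiplicity, ← Q.card_eq_multiplicity, hQ]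
    have h9 : ∀ x : M, ¬ p ∣ orderOf (x : G) → x ∈ K := fun x hx => by
      rw [← QuotientGroup.eq_one_iff, ← orderOf_eq_one_iff]
      have h10 := orderOf_dvd_natCard (x : M ⧸ K)
      rw [← Subgroup.index, h8] at h10
      refine ((Nat.dvd_prime hp.out).1 h10).resolve_right fun h11 => hx ?_
      rw [Subgroup.orderOf_coe, ← h11]
      exact orderOf_map_dvd (QuotientGroup.mk' K) x
    have h10 := Subgroup.orderOf_dvd_natCard K (mul_mem (h9 ⟨a, ha⟩ ha') (h9 ⟨b, hb⟩ hb'))
    rw [← Subgroup.orderOf_coe, Subgroup.coe_mul, hab, ← hc.index_eq_card] at h10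
    exact Q'.not_dvd_index h10
  · have := card_sylow_modEq_one p M
    rwa [Q.card_eq_index_normalizer, Nat.ModEq, Nat.mod_eq_of_lt hp.out.one_lt] at this
  · rw [← he', Subgroup.card_mul_index]

/-- a simple group of order `n! / 2` with a subgroup of index `n` is alternating -/
theorem nonempty_alt_of_index [Finite G] [IsSimpleGroup G] {n : ℕ} (hn : 2 ≤ n) {M : Subgroup G}
    (hM : M.index = n) (hG : 2 * Nat.card G = n.factorial) :
    Nonempty (G ≃* alternatingGroup (Fin n)) := by
  classical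
  have := Fintype.ofFinite (G ⧸ M)
  have e : G ⧸ M ≃ Fin n := Fintype.equivFinOfCardEq (by rw [← Nat.card_eq_fintype_card]; exact hM)
  set f : G →* Equiv.Perm (Fin n) :=
    (e.permCongrHom : _ →* _).comp (MulAction.toPermHom G (G ⧸ M)) with hf
  have h1 : Function.Injective f := by
    rw [hf, MonoidHom.coe_comp]
    refine e.permCongrHom.injective.comp ((MonoidHom.ker_eq_bot_iff _).1 ?_)
    rw [← Subgroup.normalCore_eq_ker]
    refine (IsSimpleGroup.eq_bot_or_eq_top_of_normal _ inferInstance).resolve_right fun h => ?_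
    rw [eq_top_iff.2 (h.ge.trans M.normalCore_le), Subgroup.index_top] at hM
    omega
  have h2 : f.range = alternatingGroup (Fin n) := by
    apply Equiv.Perm.eq_alternatingGroup_of_index_eq_two
    have h3 := f.range.card_mul_index
    rw [← Nat.card_congr (MonoidHom.ofInjective h1).toEquiv, Nat.card_perm,
      Nat.card_eq_fintype_card (α := Fin n), Fintype.card_fin, ← hG, mul_comm 2] at h3
    exact Nat.eq_of_mul_eq_mul_left Nat.card_pos h3
  exact ⟨(MonoidHom.ofInjective h1).trans (MulEquiv.subgroupCongr h2)⟩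

theorem eq_of_primes_le_seven {n : ℕ} (hn : n ≠ 0)
    (h : ∀ q, q.Prime → q ∣ n → q = 2 ∨ q = 3 ∨ q = 5 ∨ q = 7) :
    n = 2 ^ n.factorization 2 * 3 ^ n.factorization 3 * 5 ^ n.factorization 5 *
      7 ^ n.factorization 7 := by
  have h1 := Nat.prod_factorization_pow_eq_self hn
  rw [Finsupp.prod_of_support_subset _ (s := {2, 3, 5, 7}) (fun q hq => by
    simpa using h q (Nat.prime_of_mem_primeFactors hq) (Nat.dvd_of_mem_primeFactors hq)) _
    (by simp)] at h1
  refine h1.symm.trans ?_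
  simp [mul_assoc]

theorem exists_central_invol [Finite G] (h : 2 ∣ Nat.card G) :
    ∃ s : G, orderOf s = 2 ∧ ¬ 2 ∣ (Subgroup.centralizer ({s} : Set G)).index := by
  obtain ⟨T⟩ : Nonempty (Sylow 2 G) := inferInstance
  have : Nontrivial T := Finite.one_lt_card_iff_nontrivial.1
    (Nat.le_of_dvd Nat.card_pos (T.dvd_card_of_dvd_card h))
  have := T.isPGroup'.center_nontrivial
  obtain ⟨k, hk, hk'⟩ := (T.isPGroup'.to_subgroup (Subgroup.center T)).nontrivial_iff_card.1 this
  obtain ⟨s, hs⟩ := exists_prime_orderOf_dvd_card' (G := Subgroup.center T) 2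
    (hk' ▸ dvd_pow_self 2 hk.ne')
  refine ⟨s, by rw [Subgroup.orderOf_coe, Subgroup.orderOf_coe, hs], fun h1 => T.not_dvd_index
    (h1.trans (Subgroup.index_dvd_of_le fun x hx => ?_))⟩
  exact Subgroup.mem_centralizer_singleton_iff.2
    (congrArg Subtype.val (Subgroup.mem_center_iff.1 s.2 ⟨x, hx⟩))

namespace SCP

variable [Finite G] {p : ℕ} [hp : Fact p.Prime] {P : Sylow p G} (H : SCP p P)
include H

theorem mem_of_invol_mul (h2 : p ≠ 2) {a b u : G} (ha : a * a = 1) (hb : b * b = 1)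
    (hu : u ∈ (P : Subgroup G)) (hu1 : u ≠ 1) (h : a * b = u) :
    a ∈ sylN P ∧ a ∉ (P : Subgroup G) := by
  have h5 : a⁻¹ * u * a = u⁻¹ := by
    rw [← h, mul_inv_rev, inv_eq_of_mul_eq_one_right ha, inv_eq_of_mul_eq_one_right hb,
      ← mul_assoc, ha, one_mul]
  refine ⟨mem_normalizer_of_conj_mem_of_card_prime H.card hu hu1 (h5 ▸ inv_mem hu), fun h6 => ?_⟩
  rw [mul_assoc, le_centralizer_of_card_prime H.card h6 u hu, inv_mul_cancel_left,
    eq_inv_iff_mul_eq_one] at h5
  have := (H.dvd_of_mem hu hu1).trans (orderOf_dvd_of_pow_eq_one (n := 2) (by rw [sq, h5]))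
  exact h2 ((Nat.prime_dvd_prime_iff_eq hp.out Nat.prime_two).1 this)

theorem card_pairs (h2 : p ≠ 2) {y u : G} (hy : y ∈ sylN P) (hyP : y ∉ (P : Subgroup G))
    (hy2 : y * y = 1) (hu : u ∈ (P : Subgroup G)) (hu1 : u ≠ 1) :
    Nat.card {x : G × G // IsConj y x.1 ∧ IsConj y x.2 ∧ x.1 * x.2 = u} = p := by
  have hsq : ∀ v, IsConj y v → v * v = 1 := by
    intro v hv
    obtain ⟨c, rfl⟩ := isConj_iff.1 hv
    rw [conj_mul, hy2, mul_one, mul_inv_cancel]
  have hi : y⁻¹ = y := inv_eq_of_mul_eq_one_right hy2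
  rw [← H.card]
  symm
  refine Nat.card_congr (Equiv.ofBijective (fun a : (P : Subgroup G) =>
    ⟨(a * y, u⁻¹ * a * y), ?_, ?_, ?_⟩) ⟨?_, ?_⟩)
  · exact H.isConj_mul hy hyP a.2
  · exact H.isConj_mul hy hyP (mul_mem (inv_mem hu) a.2)
  · have := H.conj_eq_inv hy hyP hy2 (mul_mem (inv_mem hu) a.2)
    rw [hi] at this
    calc (a : G) * y * (u⁻¹ * a * y) = a * (y * (u⁻¹ * a) * y) := by group
      _ = u := by rw [this]; group
  · intro a b hab
    simpa using congrArg (fun x => x.1.1) hab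
  · rintro ⟨⟨v, w⟩, hv, hw, h⟩
    obtain ⟨h1, h3⟩ := H.mem_of_invol_mul h2 (hsq v hv) (hsq w hw) hu hu1 h
    refine ⟨⟨v * y⁻¹, H.mul_mem_of_invol hy hyP hy2 h1 h3 (hsq v hv)⟩, Subtype.ext ?_⟩
    simp only [mul_assoc, inv_mul_cancel, mul_one, Prod.mk.injEq, true_and]
    rw [← h, mul_inv_rev, inv_mul_cancel_right, inv_eq_of_mul_eq_one_right (hsq w hw)]

/-- the number of ways of writing `u` as a product of two conjugates of an involution -/
theorem card_pairs_cases (h2 : p ≠ 2) {s u : G} (hs : s * s = 1) (hu : u ∈ (P : Subgroup G))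
    (hu1 : u ≠ 1) :
    Nat.card {x : G × G // IsConj s x.1 ∧ IsConj s x.2 ∧ x.1 * x.2 = u} = 0 ∨
      Nat.card {x : G × G // IsConj s x.1 ∧ IsConj s x.2 ∧ x.1 * x.2 = u} = p := by
  rw [or_iff_not_imp_left]
  intro h
  obtain ⟨⟨⟨a, b⟩, h1, h3, h4⟩⟩ := (Nat.card_ne_zero.1 h).1
  have hsq : ∀ v, IsConj s v → v * v = 1 := by
    intro v hv
    obtain ⟨c, rfl⟩ := isConj_iff.1 hv
    rw [conj_mul, hs, mul_one, mul_inv_cancel]
  obtain ⟨h5, h6⟩ := H.mem_of_invol_mul h2 (hsq a h1) (hsq b h3) hu hu1 h4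
  rw [← H.card_pairs h2 h5 h6 (hsq a h1) hu hu1]
  exact Nat.card_congr (Equiv.subtypeEquivRight fun x => and_congr
    ⟨h1.symm.trans, h1.trans⟩ (and_congr_left' ⟨h1.symm.trans, h1.trans⟩))

theorem not_dvd_card_centralizer {g : G} (hg : ¬ p ∣ orderOf g) (hg1 : g ≠ 1) :
    ¬ p ∣ Nat.card (Subgroup.centralizer ({g} : Set G)) := fun h => by
  obtain ⟨x, hx⟩ := exists_prime_orderOf_dvd_card' p h
  have h1 := H.pow_eq_one_of_commute (z := x) (by rw [Subgroup.orderOf_coe, hx])
    (Subgroup.mem_centralizer_singleton_iff.1 x.2)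
  exact hg (orderOf_eq_prime h1 hg1).symm.dvd

end SCP

theorem index_sylN_mod [Finite G] {p : ℕ} [hp : Fact p.Prime] (P : Sylow p G) :
    (sylN P).index % p = 1 := by
  have := card_sylow_modEq_one p G
  rwa [P.card_eq_index_normalizer, Nat.ModEq, Nat.mod_eq_of_lt hp.out.one_lt] at this

end Cfsg
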