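import Cfsg.Agent.Lin.Strings

/-! The tensor product of two Jordan strings. -/

set_option autoImplicit false

namespace Cfsg

open Module Polynomial

universe u v w

variable {k : Type v} [Field k]

/-- a three term `abc` estimate -/
theorem eq_zero_of_coeff_one_add_X_pow_mul {p : ℕ} [CharP k p] {f : k[X]} {n j d : ℕ}
    (hf : f.natDegree ≤ n) (hj : 0 < j) (hp : n + j < p) (hd : 2 * n + j + 2 ≤ 2 * d)
    (h : ∀ a < d, n + j < a + d → ((1 + X) ^ j * f).coeff a = 0) : f = 0 := by
  by_contra hf0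
  set C := (1 + X) ^ j * f with hC
  have h1X : (1 + X : k[X]) ≠ 0 := by rw [add_comm, ← C_1]; exact X_add_C_ne_zero 1
  have hd1 : (1 + X : k[X]).natDegree = 1 := by rw [add_comm, ← C_1]; exact natDegree_X_add_C 1
  have hCd : C.natDegree = j + f.natDegree := by
    rw [hC, natDegree_mul (pow_ne_zero _ h1X) hf0, natDegree_pow, hd1, mul_one]
  have hC0 : C ≠ 0 := mul_ne_zero (pow_ne_zero _ h1X) hf0
  have hcop : IsCoprime (X : k[X]) (1 + X) := ⟨-1, 1, by ring⟩
  set B := C %ₘ X ^ d with hB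
  set g := C /ₘ X ^ d with hg
  have hBg : B + X ^ d * g = C := modByMonic_add_div C _
  have hBd : B.degree < d := by
    simpa using degree_modByMonic_lt C (monic_X_pow d)
  have hBc : ∀ a, n + j < a + d → B.coeff a = 0 := fun a ha => by
    by_cases h1 : a < d
    · have := h a h1 ha
      rwa [← hBg, coeff_add, coeff_X_pow_mul', if_neg (by omega), add_zero] at this
    · exact coeff_eq_zero_of_degree_lt (hBd.trans_le (by exact_mod_cast not_lt.1 h1))
  have hB0 : B ≠ 0 := fun h0 => by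
    have h2 : X ^ d ∣ (1 + X) ^ j * f := ⟨g, by rw [← hC, ← hBg, h0, zero_add]⟩
    have := natDegree_le_of_dvd (hcop.pow.dvd_of_dvd_mul_left h2) hf0
    rw [natDegree_X_pow] at this
    omega
  have hBn : B.natDegree + d ≤ n + j := by
    by_contra h2
    exact hB0 (leadingCoeff_eq_zero.1 (hBc _ (by omega)))
  by_cases hW : wronskian B C = 0
  · have h2 : B * (X * derivative C) = (X * derivative B) * C := by
      rw [wronskian, sub_eq_zero] at hW
      linear_combination X * hW
    have h3 : ∀ q : k[X], (X * derivative q).natDegree ≤ q.natDegree ∧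
        (X * derivative q).coeff q.natDegree = q.natDegree * q.leadingCoeff := fun q => by
      have h4 : ∀ m, (X * derivative q).coeff m = m * q.coeff m := fun m => by
        rcases m with _ | m
        · simp
        · rw [coeff_X_mul, coeff_derivative]; push_cast; ring
      exact ⟨natDegree_le_iff_coeff_eq_zero.2 fun m hm => by
        rw [h4, coeff_eq_zero_of_natDegree_lt hm, mul_zero], h4 _⟩
    have h5 := congrArg (fun q : k[X] => q.coeff (B.natDegree + C.natDegree)) h2
    rw [coeff_mul_add_eq_of_natDegree_le le_rfl (h3 C).1, coeff_mul_add_eq_of_natDegree_le (h3 B).1 le_rfl,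
      (h3 C).2, (h3 B).2, coeff_natDegree, coeff_natDegree] at h5
    have h6 : (C.natDegree : k) = B.natDegree := by
      refine mul_right_cancel₀ (mul_ne_zero (leadingCoeff_ne_zero.2 hB0)
        (leadingCoeff_ne_zero.2 hC0)) ?_
      linear_combination h5
    have := Nat.ModEq.eq_of_lt_of_lt ((CharP.natCast_eq_natCast k p).1 h6) (by omega) (by omega)
    omega
  · have h2 : X ^ (d - 1) ∣ wronskian B C := by
      obtain ⟨d', rfl⟩ : ∃ d', d = d' + 1 := ⟨d - 1, by omega⟩
      rw [← hBg, wronskian_add_right, wronskian_self_eq_zero, zero_add, wronskian, derivative_mul,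
        derivative_X_pow_succ, Nat.add_sub_cancel]
      exact ⟨B * (Polynomial.C (d' + 1 : k) * g + X * derivative g) - derivative B * (X * g),
        by ring⟩
    have h3 : (1 + X) ^ (j - 1) ∣ wronskian B C := by
      obtain ⟨j', rfl⟩ : ∃ j', j = j' + 1 := ⟨j - 1, by omega⟩
      rw [hC, wronskian, derivative_mul, derivative_pow_succ, Nat.add_sub_cancel]
      exact ⟨B * (Polynomial.C (j' + 1 : k) * derivative (1 + X) * f + (1 + X) * derivative f) -
        derivative B * ((1 + X) * f), by ring⟩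
    have h4 := natDegree_le_of_dvd (hcop.pow.mul_dvd h2 h3) hW
    rw [natDegree_mul (pow_ne_zero _ X_ne_zero) (pow_ne_zero _ h1X), natDegree_X_pow, natDegree_pow,
      hd1] at h4
    have h5 := natDegree_wronskian_lt_add hW
    omega

variable {W : Type w} [AddCommGroup W] [Module k W]

theorem finrank_le_sum_ker_inf [FiniteDimensional k W] (S : Module.End k W) (U : ℕ → Submodule k W)
    (hU : ∀ i, (U i).map S ≤ U (i + 1)) {e : ℕ} {V : Submodule k W} {n : ℕ} (hV : V ≤ U n)
    (h0 : ∀ v ∈ V, (S ^ e) v = 0) :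
    finrank k V ≤ ∑ i ∈ Finset.range e, finrank k ↥(LinearMap.ker S ⊓ U (n + i)) := by
  induction e generalizing V n with
  | zero =>
    have : V = ⊥ := (Submodule.eq_bot_iff _).2 fun v hv => by simpa using h0 v hv
    simp [this]
  | succ e ih =>
    have h1 := ih (V := V.map S) (n := n + 1) ((Submodule.map_mono hV).trans (hU n)) (by
      rintro _ ⟨v, hv, rfl⟩
      rw [← Module.End.mul_apply, ← pow_succ, h0 v hv])
    have h2 := LinearMap.finrank_range_add_finrank_ker (S.domRestrict V)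
    rw [LinearMap.range_domRestrict, LinearMap.ker_domRestrict,
      ← Submodule.finrank_map_subtype_eq, Submodule.map_comap_subtype] at h2
    have h3 := Submodule.finrank_mono (show V ⊓ LinearMap.ker S ≤ LinearMap.ker S ⊓ U (n + 0) from
      le_inf inf_le_right (inf_le_left.trans hV))
    rw [Finset.sum_range_succ']
    rw [Finset.sum_congr rfl (g := fun i => finrank k ↥(LinearMap.ker S ⊓ U (n + (i + 1))))
      fun i _ => by rw [show n + 1 + i = n + (i + 1) by omega]] at h1
    omega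

theorem finrank_finset_sup_le [FiniteDimensional k W] {ι : Type*} (s : Finset ι)
    (U : ι → Submodule k W) : finrank k ↥(s.sup U) ≤ ∑ i ∈ s, finrank k (U i) := by
  classical
  induction s using Finset.induction_on with
  | empty => simp
  | insert a s ha ih =>
    rw [Finset.sup_insert, Finset.sum_insert ha]
    exact (Submodule.finrank_add_le_finrank_add_finrank _ _).trans (Nat.add_le_add_left ih _)

/-- the tensor product of two strings of length `d` -/
structure IsBiString (x₁ x₂ H : Module.End k W) (α w : k) (y : W) (d : ℕ) : Prop where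
  comm : Commute x₁ x₂
  nil₁ : (x₁ ^ d) y = 0
  nil₂ : (x₂ ^ d) y = 0
  semi₁ : H * x₁ = α • (x₁ * H)
  semi₂ : H * x₂ = α • (x₂ * H)
  eig : H y = w • y
  span : ⊤ ≤ Submodule.span k
    (Set.range fun q : Fin d × Fin d => (x₁ ^ (q.1 : ℕ)) ((x₂ ^ (q.2 : ℕ)) y))
  rank : finrank k W = d * d

/-- the monomial vectors -/
noncomputable def biMono (x₁ x₂ : Module.End k W) (y : W) (a c : ℕ) : W := (x₁ ^ a) ((x₂ ^ c) y)

/-- the span of the monomials with degree in `A` -/
noncomputable def biSpan (x₁ x₂ : Module.End k W) (y : W) (A : Set ℕ) : Submodule k W :=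
  Submodule.span k {v | ∃ a c, a + c ∈ A ∧ biMono x₁ x₂ y a c = v}

/-- the homogeneous vector attached to a polynomial -/
noncomputable def biPoly (x₁ x₂ : Module.End k W) (y : W) (n : ℕ) : k[X] →ₗ[k] W :=
  ∑ a ∈ Finset.range (n + 1), (lcoeff k a).smulRight (biMono x₁ x₂ y a (n - a))

namespace IsBiString
variable {x₁ x₂ H : Module.End k W} {α w : k} {y : W} {d : ℕ} (B : IsBiString x₁ x₂ H α w y d)

theorem biSpan_mono {A A' : Set ℕ} (h : A ⊆ A') : biSpan x₁ x₂ y A ≤ biSpan x₁ x₂ y A' :=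
  Submodule.span_mono fun _ ⟨a, c, h1, h2⟩ => ⟨a, c, h h1, h2⟩

theorem biPoly_apply (n : ℕ) (f : k[X]) : biPoly x₁ x₂ y n f =
    ∑ a ∈ Finset.range (n + 1), f.coeff a • biMono x₁ x₂ y a (n - a) := by
  simp [biPoly]

theorem exists_biPoly {n : ℕ} {v : W} (hv : v ∈ biSpan x₁ x₂ y {n}) :
    ∃ f : k[X], f.natDegree ≤ n ∧ biPoly x₁ x₂ y n f = v := by
  have : biSpan x₁ x₂ y {n} ≤ (degreeLE k n).map (biPoly x₁ x₂ y n) := by
    refine Submodule.span_le.2 ?_
    rintro _ ⟨a, c, rfl, rfl⟩
    refine ⟨X ^ a, mem_degreeLE.2 (by simp; exact_mod_cast Nat.le_add_right a c), ?_⟩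
    rw [biPoly_apply, Finset.sum_eq_single a (fun b _ hb => by simp [coeff_X_pow, hb])
      (by simp)]
    simp
  obtain ⟨f, hf, rfl⟩ := this hv
  exact ⟨f, natDegree_le_iff_degree_le.2 (mem_degreeLE.1 hf), rfl⟩

include B

theorem mono_eq_zero {a c : ℕ} (h : d ≤ a ∨ d ≤ c) : biMono x₁ x₂ y a c = 0 := by
  rcases h with h | h
  · obtain ⟨m, rfl⟩ := Nat.exists_eq_add_of_le' h
    rw [biMono, pow_add, Module.End.mul_apply, ← Module.End.mul_apply (x₁ ^ d),
      (B.comm.pow_pow d c).eq, Module.End.mul_apply, B.nil₁, map_zero, map_zero]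
  · obtain ⟨m, rfl⟩ := Nat.exists_eq_add_of_le' h
    rw [biMono, pow_add, Module.End.mul_apply, B.nil₂, map_zero, map_zero]

theorem add_apply_mono (a c : ℕ) : (x₁ + x₂) (biMono x₁ x₂ y a c) =
    biMono x₁ x₂ y (a + 1) c + biMono x₁ x₂ y a (c + 1) := by
  simp only [biMono, LinearMap.add_apply, pow_succ', Module.End.mul_apply]
  rw [← Module.End.mul_apply x₂, ← (B.comm.pow_left a).eq, Module.End.mul_apply]

theorem H_mono (a c : ℕ) : H (biMono x₁ x₂ y a c) = (w * α ^ (a + c)) • biMono x₁ x₂ y a c := by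
  rw [biMono, apply_pow_of_semiconj B.semi₁, apply_pow_of_semiconj B.semi₂, B.eig]
  simp only [map_smul, smul_smul]
  congr 1
  ring

theorem semi : H * (x₁ + x₂) = α • ((x₁ + x₂) * H) := by
  rw [mul_add, add_mul, B.semi₁, B.semi₂, smul_add]

/-- the monomial basis -/
noncomputable def basis : Basis (Fin d × Fin d) k W :=
  basisOfTopLeSpanOfCardEqFinrank _ B.span (by simp [B.rank])

theorem basis_apply (q : Fin d × Fin d) : B.basis q = biMono x₁ x₂ y q.1 q.2 := by
  simp [basis, biMono]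

theorem finiteDimensional : FiniteDimensional k W := Module.Finite.of_basis B.basis

theorem H_pow {e : ℕ} (hα : α ^ e = 1) : H ^ e = w ^ e • (1 : Module.End k W) := by
  refine B.basis.ext fun q => ?_
  have h : ∀ i, (H ^ i) (B.basis q) = (w * α ^ (q.1 + q.2 : ℕ)) ^ i • B.basis q := fun i => by
    induction i with
    | zero => simp
    | succ i ih => rw [pow_succ', Module.End.mul_apply, ih, map_smul, B.basis_apply, B.H_mono,
        smul_smul, pow_succ]
  rw [h, mul_pow, ← pow_mul, mul_comm _ e, pow_mul, hα]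
  simp

theorem biSpan_eq (A : Set ℕ) :
    biSpan x₁ x₂ y A = Submodule.span k (B.basis '' {q | (q.1 + q.2 : ℕ) ∈ A}) := by
  refine le_antisymm (Submodule.span_le.2 ?_) (Submodule.span_mono ?_)
  · rintro _ ⟨a, c, h, rfl⟩
    by_cases h1 : d ≤ a ∨ d ≤ c
    · rw [B.mono_eq_zero h1]; exact Submodule.zero_mem _
    · push Not at h1
      exact Submodule.subset_span ⟨(⟨a, h1.1⟩, ⟨c, h1.2⟩), h, B.basis_apply _⟩
  · rintro _ ⟨q, hq, rfl⟩
    exact ⟨q.1, q.2, hq, (B.basis_apply q).symm⟩

theorem finrank_biSpan (A : Set ℕ) [DecidablePred (· ∈ A)] : finrank k (biSpan x₁ x₂ y A) =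
    (Finset.univ.filter fun q : Fin d × Fin d => (q.1 + q.2 : ℕ) ∈ A).card := by
  classical
  rw [B.biSpan_eq, finrank_span_set_eq_card (B.basis.linearIndependent.linearIndepOn _).id_image,
    Set.toFinset_image, Finset.card_image_of_injective _ B.basis.injective]
  congr 1
  ext q
  simp

theorem map_biSpan_le {A A' : Set ℕ} (h : ∀ n ∈ A, n + 1 ∈ A') :
    (biSpan x₁ x₂ y A).map (x₁ + x₂) ≤ biSpan x₁ x₂ y A' := by
  rw [Submodule.map_le_iff_le_comap]
  refine Submodule.span_le.2 ?_
  rintro _ ⟨a, c, h1, rfl⟩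
  rw [SetLike.mem_coe, Submodule.mem_comap, B.add_apply_mono]
  exact Submodule.add_mem _
    (Submodule.subset_span ⟨_, _, by rw [add_right_comm]; exact h _ h1, rfl⟩)
    (Submodule.subset_span ⟨a, c + 1, h _ h1, rfl⟩)

theorem map_pow_biSpan_le (m : ℕ) {A A' : Set ℕ} (h : ∀ n ∈ A, n + m ∈ A') :
    (biSpan x₁ x₂ y A).map ((x₁ + x₂) ^ m) ≤ biSpan x₁ x₂ y A' := by
  induction m generalizing A with
  | zero => simpa [Module.End.one_eq_id] using biSpan_mono h
  | succ m ih =>
    rw [pow_succ, Module.End.mul_eq_comp, Submodule.map_comp]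
    exact (Submodule.map_mono (B.map_biSpan_le (A' := {n | n + m ∈ A'}) fun n hn => by
      simpa [add_assoc, add_comm 1] using h n hn)).trans (ih fun n hn => hn)

theorem eigenspace_inf_range_le {e : ℕ} (he : (e : k) ≠ 0) (hα : IsPrimitiveRoot α e) (hw : w ≠ 0)
    {γ : k} (hγ : γ ^ e = w ^ e) (m : ℕ) :
    H.eigenspace γ ⊓ LinearMap.range ((x₁ + x₂) ^ m) ≤
      (biSpan x₁ x₂ y {n | w * α ^ (n + m) = γ}).map ((x₁ + x₂) ^ m) := by
  have he0 : e ≠ 0 := fun h => he (by simp [h])
  have hα0 : α ^ m ≠ 0 := pow_ne_zero _ (hα.ne_zero he0)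
  have hγ0 : γ ≠ 0 := fun h => pow_ne_zero e hw (by rw [← hγ, h, zero_pow he0])
  rintro _ ⟨hv, v, rfl⟩
  refine ⟨wtProj H e (γ * (α ^ m)⁻¹) v, ?_, ?_⟩
  · refine Submodule.span_induction (p := fun v _ => wtProj H e (γ * (α ^ m)⁻¹) v ∈ _) ?_ ?_ ?_ ?_
      (B.span (Submodule.mem_top (x := v)))
    · rintro _ ⟨q, rfl⟩
      have h1 := B.H_mono q.1 q.2
      change wtProj H e _ (biMono x₁ x₂ y q.1 q.2) ∈ _
      by_cases h : w * α ^ (q.1 + q.2 : ℕ) = γ * (α ^ m)⁻¹
      · rw [h] at h1
        rw [wtProj_apply_of_eigen he (mul_ne_zero hγ0 (inv_ne_zero hα0)) h1]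
        exact Submodule.subset_span ⟨_, _, by
          rw [Set.mem_ofPred_eq, pow_add, ← mul_assoc, h, inv_mul_cancel_right₀ hα0], rfl⟩
      · rw [wtProj_apply_of_eigen_ne (mul_ne_zero hγ0 (inv_ne_zero hα0)) h _ h1]
        · exact Submodule.zero_mem _
        · rw [mul_pow, mul_pow, inv_pow, ← pow_mul, ← pow_mul, mul_comm _ e, mul_comm _ e, pow_mul,
            pow_mul, hα.pow_eq_one, hγ]
          simp
    · simp
    · intro a b _ _ ha hb
      rw [map_add]; exact Submodule.add_mem _ ha hb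
    · intro c a _ ha
      rw [map_smul]; exact Submodule.smul_mem _ _ ha
  · rw [← wtProj_semiconj hα0 (apply_pow_of_semiconj B.semi m), inv_mul_cancel_right₀ hα0,
      wtProj_apply_of_eigen he hγ0 (Module.End.mem_eigenspace_iff.1 hv)]

/-- the kernel of `(x₁ + x₂) ^ e` on a weight space -/
theorem finrank_inf_range_add_le {e : ℕ} (he : (e : k) ≠ 0) (hα : IsPrimitiveRoot α e) (hw : w ≠ 0)
    (n₀ : ℕ) :
    finrank k ↥(H.eigenspace (w * α ^ n₀) ⊓ LinearMap.range ((x₁ + x₂) ^ e)) +
      (Finset.univ.filter fun q : Fin d × Fin d => (q.1 + q.2 : ℕ) = n₀).card ≤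
        finrank k (H.eigenspace (w * α ^ n₀)) := by
  classical
  have := B.finiteDimensional
  have he0 : e ≠ 0 := fun h => he (by simp [h])
  set A : Set ℕ := {n | w * α ^ n = w * α ^ n₀} with hA
  have hAe : ∀ n, w * α ^ (n + e) = w * α ^ n := fun n => by rw [pow_add, hα.pow_eq_one, mul_one]
  have h1 : H.eigenspace (w * α ^ n₀) ⊓ LinearMap.range ((x₁ + x₂) ^ e) ≤
      (biSpan x₁ x₂ y {n | n ∈ A ∧ n < n₀}).map ((x₁ + x₂) ^ e) ⊔
        biSpan x₁ x₂ y {n | n ∈ A ∧ n₀ < n} := by
    refine (B.eigenspace_inf_range_le he hα hw (by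
      rw [mul_pow, ← pow_mul, mul_comm n₀, pow_mul, hα.pow_eq_one, one_pow, mul_one]) e).trans ?_
    have h2 : biSpan x₁ x₂ y {n | w * α ^ (n + e) = w * α ^ n₀} ≤
        biSpan x₁ x₂ y {n | n ∈ A ∧ n < n₀} ⊔ biSpan x₁ x₂ y {n | n ∈ A ∧ n₀ ≤ n} := by
      refine Submodule.span_le.2 ?_
      rintro _ ⟨a, c, h, rfl⟩
      rw [Set.mem_ofPred_eq, hAe] at h
      rcases lt_or_ge (a + c) n₀ with h3 | h3
      · exact Submodule.mem_sup_left (Submodule.subset_span ⟨a, c, ⟨h, h3⟩, rfl⟩)
      · exact Submodule.mem_sup_right (Submodule.subset_span ⟨a, c, ⟨h, h3⟩, rfl⟩)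
    refine (Submodule.map_mono h2).trans ?_
    rw [Submodule.map_sup]
    exact sup_le_sup_left (B.map_pow_biSpan_le e (A' := {n | n ∈ A ∧ n₀ < n}) fun n hn =>
      ⟨(hAe n).trans hn.1, by have := hn.2; omega⟩) _
  have h3 := (Submodule.finrank_mono h1).trans (Submodule.finrank_add_le_finrank_add_finrank _ _)
  have h4 := Submodule.finrank_map_le ((x₁ + x₂) ^ e) (biSpan x₁ x₂ y {n | n ∈ A ∧ n < n₀})
  have h5 : biSpan x₁ x₂ y A ≤ H.eigenspace (w * α ^ n₀) := by
    refine Submodule.span_le.2 ?_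
    rintro _ ⟨a, c, h, rfl⟩
    exact Module.End.mem_eigenspace_iff.2 (by rw [B.H_mono, h])
  have h6 := Submodule.finrank_mono h5
  rw [B.finrank_biSpan] at h3 h4 h6
  refine le_trans ?_ h6
  refine le_trans (Nat.add_le_add_right (h3.trans (Nat.add_le_add_right h4 _)) _) ?_
  rw [← Finset.card_union_of_disjoint, ← Finset.card_union_of_disjoint]
  · refine Finset.card_le_card fun q hq => ?_
    simp only [Finset.mem_union, Finset.mem_filter, Finset.mem_univ, true_and,
      Set.mem_ofPred_eq] at hq ⊢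
    rcases hq with (h | h) | h
    exacts [h.1, h.1, by rw [h]; rfl]
  · rw [Finset.disjoint_left]
    intro q hq
    simp only [Finset.mem_union, Finset.mem_filter, Finset.mem_univ, true_and,
      Set.mem_ofPred_eq] at hq ⊢
    omega
  · rw [Finset.disjoint_left]
    intro q hq
    simp only [Finset.mem_filter, Finset.mem_univ, true_and, Set.mem_ofPred_eq] at hq ⊢
    omega

theorem add_apply_biPoly {n : ℕ} {f : k[X]} (hf : f.natDegree ≤ n) :
    (x₁ + x₂) (biPoly x₁ x₂ y n f) = biPoly x₁ x₂ y (n + 1) ((1 + X) * f) := by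
  rw [biPoly_apply, biPoly_apply, map_sum]
  simp only [map_smul, B.add_apply_mono, smul_add, Finset.sum_add_distrib, add_mul, one_mul,
    coeff_add, add_smul]
  rw [add_comm, Finset.sum_range_succ _ (n + 1), coeff_eq_zero_of_natDegree_lt (by omega),
    zero_smul, add_zero, Finset.sum_range_succ' _ (n + 1)]
  simp only [coeff_X_mul, mul_coeff_zero, coeff_X_zero, zero_mul, zero_smul, add_zero,
    Nat.add_sub_add_right]
  congr 1
  exact Finset.sum_congr rfl fun a ha => by
    rw [show n + 1 - a = n - a + 1 by have := Finset.mem_range.1 ha; omega]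

theorem add_pow_apply_biPoly {n : ℕ} {f : k[X]} (hf : f.natDegree ≤ n) (j : ℕ) :
    ((x₁ + x₂) ^ j) (biPoly x₁ x₂ y n f) = biPoly x₁ x₂ y (n + j) ((1 + X) ^ j * f) := by
  induction j with
  | zero => simp
  | succ j ih =>
    rw [pow_succ', Module.End.mul_apply, ih, B.add_apply_biPoly, pow_succ', mul_assoc, add_assoc]
    refine natDegree_mul_le.trans (add_comm n j ▸ add_le_add (natDegree_pow_le.trans ?_) hf)
    rw [add_comm, ← C_1, natDegree_X_add_C, mul_one]

theorem repr_biPoly (n : ℕ) (f : k[X]) (q : Fin d × Fin d) :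
    B.basis.repr (biPoly x₁ x₂ y n f) q = if (q.1 + q.2 : ℕ) = n then f.coeff q.1 else 0 := by
  have h : ∀ a c, B.basis.repr (biMono x₁ x₂ y a c) q =
      if a = q.1 ∧ c = q.2 then 1 else 0 := fun a c => by
    by_cases h1 : d ≤ a ∨ d ≤ c
    · rw [B.mono_eq_zero h1, if_neg (by have := q.1.2; have := q.2.2; omega)]; simp
    · push Not at h1
      rw [← B.basis_apply (⟨a, h1.1⟩, ⟨c, h1.2⟩), Basis.repr_self, Finsupp.single_apply]
      simp [Prod.ext_iff, Fin.ext_iff]
  rw [biPoly_apply, map_sum, Finsupp.finsetSum_apply]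
  simp only [map_smul, Finsupp.smul_apply, h, smul_eq_mul, mul_ite, mul_one, mul_zero]
  split_ifs with h1
  · rw [Finset.sum_eq_single (q.1 : ℕ) (fun a _ ha => if_neg fun h => ha h.1) (by simp; omega),
      if_pos ⟨rfl, by omega⟩]
  · exact Finset.sum_eq_zero fun a ha => if_neg (by have := Finset.mem_range.1 ha; omega)

theorem biPoly_eq_zero_iff {n : ℕ} {f : k[X]} :
    biPoly x₁ x₂ y n f = 0 ↔ ∀ a < d, a ≤ n → n < a + d → f.coeff a = 0 := by
  rw [B.basis.ext_elem_iff]
  simp only [B.repr_biPoly, map_zero, Finsupp.zero_apply, ite_eq_right_iff]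
  exact ⟨fun h a h1 h2 h3 => h (⟨a, h1⟩, ⟨n - a, by omega⟩) (by simp; omega),
    fun h q hq => h _ q.1.2 (by omega) (by have := q.2.2; omega)⟩

theorem finrank_ker_inf_le_one {m : ℕ} (hm : d ≤ m) :
    finrank k ↥(LinearMap.ker (x₁ + x₂) ⊓ biSpan x₁ x₂ y {m}) ≤ 1 := by
  have := B.finiteDimensional
  by_cases h : m + 2 ≤ 2 * d
  · let q : Fin d × Fin d := (⟨d - 1, by omega⟩, ⟨m + 1 - d, by omega⟩)
    rw [← finrank_self k]
    refine LinearMap.finrank_le_finrank_of_injective
      (f := B.basis.coord q ∘ₗ Submodule.subtype _) ((injective_iff_map_eq_zero _).2 ?_)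
    rintro ⟨v, hv, hv'⟩ h0
    obtain ⟨f, hf, rfl⟩ := exists_biPoly hv'
    rw [SetLike.mem_coe, LinearMap.mem_ker, B.add_apply_biPoly hf, B.biPoly_eq_zero_iff] at hv
    simp only [LinearMap.comp_apply, Submodule.subtype_apply, Basis.coord_apply,
      B.repr_biPoly, q] at h0
    rw [if_pos (by omega)] at h0
    refine Subtype.ext (B.biPoly_eq_zero_iff.2 fun a h1 _ h3 => ?_)
    have key : ∀ i a, a + i + 1 = d → m < a + d → f.coeff a = 0 := fun i => by
      induction i with
      | zero => intro a ha _; rwa [show a = d - 1 by omega]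
      | succ i ih =>
        intro a ha h4
        have := hv (a + 1) (by omega) (by omega) (by omega)
        rwa [add_mul, one_mul, coeff_add, coeff_X_mul, ih (a + 1) (by omega) (by omega),
          zero_add] at this
    exact key (d - 1 - a) a (by omega) h3
  · refine (Submodule.finrank_mono inf_le_right).trans ?_
    rw [B.finrank_biSpan, Finset.filter_false_of_mem fun q _ => by
      have := q.1.2; have := q.2.2; simp only [Set.mem_singleton_iff]; omega]
    simp

/-- the number of long strings -/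
theorem finrank_inf_range_le {p e : ℕ} [hp : Fact p.Prime] [CharP k p] (he : (e : k) ≠ 0)
    (hα : IsPrimitiveRoot α e) (hw : w ≠ 0) (hde : d + e = p) (h2 : 2 * e ≤ d + 1) {γ : k}
    (hγ : γ ^ e = w ^ e) :
    finrank k ↥(H.eigenspace γ ⊓ LinearMap.range ((x₁ + x₂) ^ d)) ≤ d - e := by
  classical
  have := B.finiteDimensional
  have he0 : e ≠ 0 := fun h => he (by simp [h])
  set S := x₁ + x₂ with hS
  let U : ℕ → Submodule k W := fun n => (biSpan x₁ x₂ y {n}).map (S ^ d)
  have hU : ∀ i, (U i).map S ≤ U (i + 1) := fun i => by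
    simp only [U]
    rw [← Submodule.map_comp, ← Module.End.mul_eq_comp, ← pow_succ', pow_succ,
      Module.End.mul_eq_comp, Submodule.map_comp]
    exact Submodule.map_mono (B.map_biSpan_le fun n hn => by simpa using hn)
  have hSp : S ^ p = 0 := by
    refine B.basis.ext fun q => ?_
    have h1 : (1 + X : k[X]) ^ p = 1 + X ^ p := by rw [add_pow_char, one_pow]
    obtain ⟨f, hf, h3⟩ := exists_biPoly (x₁ := x₁) (x₂ := x₂) (y := y) (n := q.1 + q.2)
      (Submodule.subset_span ⟨q.1, q.2, rfl, (B.basis_apply q).symm⟩)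
    rw [← h3, B.add_pow_apply_biPoly hf, LinearMap.zero_apply, B.biPoly_eq_zero_iff, h1]
    intro a h4 _ h5
    rw [add_mul, one_mul, coeff_add, coeff_X_pow_mul', if_neg (by omega),
      coeff_eq_zero_of_natDegree_lt (by omega), add_zero]
  set A := (Finset.range (2 * d)).filter fun n => w * α ^ (n + d) = γ with hA
  have h3 : H.eigenspace γ ⊓ LinearMap.range (S ^ d) ≤ A.sup U := by
    refine (B.eigenspace_inf_range_le he hα hw hγ d).trans ?_
    rw [Submodule.map_le_iff_le_comap]
    refine Submodule.span_le.2 ?_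
    rintro _ ⟨a, c, h, rfl⟩
    by_cases h1 : d ≤ a ∨ d ≤ c
    · rw [B.mono_eq_zero h1]; exact Submodule.zero_mem _
    · exact Finset.le_sup (f := U) (Finset.mem_filter.2 ⟨Finset.mem_range.2 (by omega), h⟩)
        ⟨_, Submodule.subset_span ⟨a, c, rfl, rfl⟩, rfl⟩
  have h4 : ∀ m, finrank k ↥(LinearMap.ker S ⊓ U m) ≤
      if m ∈ Finset.Ico (e - 1) (d - 1) then 1 else 0 := fun m => by
    have h5 : U m ≤ biSpan x₁ x₂ y {m + d} := B.map_pow_biSpan_le d fun n hn => by simpa using hn
    split_ifs with h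
    · exact (Submodule.finrank_mono (inf_le_inf_left _ h5)).trans
        (B.finrank_ker_inf_le_one (by omega))
    rw [Finset.mem_Ico, not_and_or] at h
    rw [Nat.le_zero, Submodule.finrank_eq_zero, eq_bot_iff]
    rintro _ ⟨hv, v, hv', rfl⟩
    obtain ⟨f, hf, rfl⟩ := exists_biPoly hv'
    rcases h with h | h
    · rw [SetLike.mem_coe, LinearMap.mem_ker, ← Module.End.mul_apply, ← pow_succ',
        B.add_pow_apply_biPoly hf, B.biPoly_eq_zero_iff] at hv
      rw [eq_zero_of_coeff_one_add_X_pow_mul (p := p) (d := d) hf (Nat.succ_pos d) (by omega)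
        (by omega) fun a h6 h7 => hv a h6 (by omega) h7]
      simp
    · rw [B.add_pow_apply_biPoly hf, Submodule.mem_bot, B.biPoly_eq_zero_iff]
      intro a h6 _ h7
      omega
  calc _ ≤ ∑ n ∈ A, finrank k (U n) := (Submodule.finrank_mono h3).trans (finrank_finset_sup_le A U)
    _ ≤ ∑ n ∈ A, ∑ i ∈ Finset.range e, if n + i ∈ Finset.Ico (e - 1) (d - 1) then 1 else 0 := by
      refine Finset.sum_le_sum fun n _ => (finrank_le_sum_ker_inf S U hU (e := e) le_rfl ?_).trans
        (Finset.sum_le_sum fun i _ => h4 _)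
      rintro _ ⟨v, -, rfl⟩
      rw [← Module.End.mul_apply, ← pow_add, add_comm, hde, hSp, LinearMap.zero_apply]
    _ ≤ (Finset.Ico (e - 1) (d - 1)).card := by
      rw [← Finset.sum_product', ← Finset.card_filter]
      refine Finset.card_le_card_of_injOn (fun q => q.1 + q.2)
        (fun q hq => (Finset.mem_filter.1 hq).2) fun q hq q' hq' h => ?_
      simp only [hA, Finset.coe_filter, Finset.mem_product, Finset.mem_filter, Finset.mem_range,
        Set.mem_ofPred_eq] at hq hq' h
      have h6 : α ^ (q.1 + d) = α ^ (q'.1 + d) :=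
        mul_left_cancel₀ hw (hq.1.1.2.trans hq'.1.1.2.symm)
      have h7 : α ^ q.2 = α ^ q'.2 := by
        refine mul_left_cancel₀ (pow_ne_zero (q.1 + d) (hα.ne_zero he0)) ?_
        rw [← pow_add, h6, ← pow_add, add_right_comm, h, add_right_comm]
      have h8 := hα.pow_inj hq.1.2 hq'.1.2 h7
      exact Prod.ext (by omega) h8
    _ = d - e := by rw [Nat.card_Ico]; omega

end IsBiString

end Cfsg
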