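import Cfsg.Agent.Lin.Perfect
import Cfsg.Agent.Lin.TensorStr

/-! The reduction of a tensor product of two characters of degree less than `p`. -/

set_option autoImplicit false
set_option linter.unusedSectionVars false

namespace Cfsg

open Module

universe u v w

section count
variable {k : Type v} [Field k] [DecidableEq k] {α v γ : k} {e : ℕ}

theorem card_filter_mul_pow (hα : IsPrimitiveRoot α e) (he : e ≠ 0) (hv : v ≠ 0)
    (hγ : γ ^ e = v ^ e) (q : ℕ) :
    ((Finset.range (q * e)).filter fun a => v * α ^ a = γ).card = q := by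
  have : NeZero e := ⟨he⟩
  induction q with
  | zero => simp
  | succ q ih =>
    rw [Finset.card_filter] at ih ⊢
    rw [add_one_mul, Finset.sum_range_add, ih, ← Finset.card_filter]
    congr 1
    obtain ⟨i, hi, h⟩ := hα.eq_pow_of_pow_eq_one (ξ := γ / v)
      (by rw [div_pow, hγ, div_self (pow_ne_zero _ hv)])
    refine Finset.card_eq_one.2 ⟨i, Finset.ext fun a => ?_⟩
    rw [Finset.mem_filter, Finset.mem_range, Finset.mem_singleton, pow_add, pow_mul',
      hα.pow_eq_one, one_pow, one_mul]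
    refine ⟨fun h' => hα.pow_inj h'.1 hi ?_, ?_⟩
    · rw [h, ← h'.2, mul_div_cancel_left₀ _ hv]
    · rintro rfl
      exact ⟨hi, by rw [h, mul_div_cancel₀ _ hv]⟩

theorem card_filter_mul_pow_succ (hα : IsPrimitiveRoot α e) (he : e ≠ 0) (hv : v ≠ 0)
    (hγ : γ ^ e = v ^ e) (q : ℕ) :
    ((Finset.range (q * e + 1)).filter fun a => v * α ^ a = γ).card =
      q + if v = γ then 1 else 0 := by
  have h := card_filter_mul_pow hα he hv hγ q
  rw [Finset.card_filter] at h ⊢
  rw [Finset.sum_range_succ, h, pow_mul', hα.pow_eq_one, one_pow, mul_one]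

theorem IsBiString.finrank_eigenspace {W : Type w} [AddCommGroup W] [Module k W]
    {x₁ x₂ H : Module.End k W} {y : W} {q : ℕ} (B : IsBiString x₁ x₂ H α v y (q * e + 1))
    (hα : IsPrimitiveRoot α e) (he : e ≠ 0) (hv : v ≠ 0) (hγ : γ ^ e = v ^ e) :
    finrank k (H.eigenspace γ) = (q * e + 2) * q + if v = γ then 1 else 0 := by
  rw [finrank_eigenspace_of_basis B.basis (wt := fun a => v * α ^ (a.1 + a.2 : ℕ))
    (fun a => by rw [B.basis_apply, B.H_mono]), Finset.card_filter, Fintype.sum_prod_type,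
    Finset.sum_congr rfl (g := fun a : Fin (q * e + 1) => q + if v * α ^ (a : ℕ) = γ then 1 else 0)
      fun a _ => ?_, Finset.sum_add_distrib,
    Fin.sum_univ_eq_sum_range (fun a => if v * α ^ a = γ then 1 else 0), ← Finset.card_filter,
    card_filter_mul_pow_succ hα he hv hγ]
  · simp only [Finset.sum_const, Finset.card_univ, Fintype.card_fin, smul_eq_mul]
    ring
  · rw [Fin.sum_univ_eq_sum_range (fun c => if v * α ^ ((a : ℕ) + c) = γ then 1 else 0),
      ← card_filter_mul_pow_succ hα he (mul_ne_zero hv (pow_ne_zero _ (hα.ne_zero he)))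
        (by rw [mul_pow, ← pow_mul, pow_mul', hα.pow_eq_one, one_pow, mul_one, hγ]),
      Finset.card_filter]
    simp only [pow_add, mul_assoc]

end count

theorem card_filter_fin_add_eq {d n : ℕ} (hn : n < d) :
    n + 1 ≤ (Finset.univ.filter fun q : Fin d × Fin d => (q.1 + q.2 : ℕ) = n).card := by
  rw [← Finset.card_range (n + 1)]
  refine Finset.card_le_card_of_surjOn (fun q => q.1) fun a ha => ?_
  have := Finset.mem_range.1 ha
  exact ⟨(⟨a, by omega⟩, ⟨n - a, by omega⟩), by simp; omega, rfl⟩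

theorem card_filter_fin_add_eq' {d n : ℕ} (hn : d ≤ n + 1) :
    2 * d ≤ (Finset.univ.filter fun q : Fin d × Fin d => (q.1 + q.2 : ℕ) = n).card + n + 1 := by
  have : (Finset.Ico (n + 1 - d) d).card ≤
      (Finset.univ.filter fun q : Fin d × Fin d => (q.1 + q.2 : ℕ) = n).card := by
    refine Finset.card_le_card_of_surjOn (fun q => q.1) fun a ha => ?_
    have := Finset.mem_Ico.1 ha
    exact ⟨(⟨a, by omega⟩, ⟨n - a, by omega⟩), by simp; omega, rfl⟩
  rw [Nat.card_Ico] at this
  omega

variable {G : Type u} [Group G] {p : ℕ} [hp : Fact p.Prime] {M : Ideal AlgInt}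
  [CharP (resK M) p]

/-- a module consisting of a single string -/
structure OneStr (p : ℕ) [Fact p.Prime] {ι : Type v} [Fintype ι] [DecidableEq ι]
    (X : G →* Matrix ι ι (valO M)) (u h : G) (d : ℕ) (v : resK M) (y : ι → resK M) : Prop where
  eig : redRep X h y = v • y
  nil : (pseudoLog (resK M) p (redRep X u) ^ d) y = 0
  span : ⊤ ≤ Submodule.span (resK M)
    (Set.range fun a : Fin d => (pseudoLog (resK M) p (redRep X u) ^ (a : ℕ)) y)
  card : Fintype.card ι = d

section kron
variable {ι κ : Type v} [Fintype ι] [DecidableEq ι] [Fintype κ] [DecidableEq κ]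
  (X : G →* Matrix ι ι (valO M)) (Y : G →* Matrix κ κ (valO M))

theorem kron_ext {R : Type*} [CommRing R] {W : Type*} [AddCommGroup W] [Module R W]
    {A B : (ι × κ → R) →ₗ[R] W}
    (h : ∀ v w, A (kronVec R ι κ v w) = B (kronVec R ι κ v w)) : A = B :=
  LinearMap.ext_on_range span_kronVec fun q => h q.1 q.2

theorem redRep_one (g : G) : redRep (1 : G →* Matrix ι ι (valO M)) g = 1 := by
  simp [redRep]

/-- the logarithm acting on the first factor -/
noncomputable def kronL (p : ℕ) [Fact p.Prime] (κ : Type v) [Fintype κ] [DecidableEq κ]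
    (X : G →* Matrix ι ι (valO M)) (u : G) : Module.End (resK M) (ι × κ → resK M) :=
  pseudoLog (resK M) p (redRep (kronRep X (1 : G →* Matrix κ κ (valO M))) u)

/-- the logarithm acting on the second factor -/
noncomputable def kronR (p : ℕ) [Fact p.Prime] (ι : Type v) [Fintype ι] [DecidableEq ι]
    (Y : G →* Matrix κ κ (valO M)) (u : G) : Module.End (resK M) (ι × κ → resK M) :=
  pseudoLog (resK M) p (redRep (kronRep (1 : G →* Matrix ι ι (valO M)) Y) u)

theorem kronL_pow_apply (u : G) (a : ℕ) (v : ι → resK M) (w : κ → resK M) :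
    (kronL p κ X u ^ a) (kronVec _ _ _ v w) =
      kronVec _ _ _ ((pseudoLog (resK M) p (redRep X u) ^ a) v) w := by
  induction a with
  | zero => rfl
  | succ a ih =>
    rw [pow_succ', pow_succ', Module.End.mul_apply, Module.End.mul_apply, ih]
    exact (pseudoLog_semiconj (f := (kronVec (resK M) ι κ).flip w) (fun v => by
      simp [redRep_kronRep_kronVec, redRep_one]) _).symm

theorem kronR_pow_apply (u : G) (a : ℕ) (v : ι → resK M) (w : κ → resK M) :
    (kronR p ι Y u ^ a) (kronVec _ _ _ v w) =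
      kronVec _ _ _ v ((pseudoLog (resK M) p (redRep Y u) ^ a) w) := by
  induction a with
  | zero => rfl
  | succ a ih =>
    rw [pow_succ', pow_succ', Module.End.mul_apply, Module.End.mul_apply, ih]
    exact (pseudoLog_semiconj (f := kronVec (resK M) ι κ v) (fun v => by
      simp [redRep_kronRep_kronVec, redRep_one]) _).symm

theorem exists_kron_add_eq (h2 : p ≠ 2) {u : G} (hu : u ^ p = 1) :
    ∃ q, IsUnit q ∧ Commute (redRep (kronRep X Y) u - 1) q ∧
      kronL p κ X u + kronR p ι Y u = (redRep (kronRep X Y) u - 1) * q := by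
  have h1 : redRep (kronRep X (1 : G →* Matrix κ κ (valO M))) u *
      redRep (kronRep (1 : G →* Matrix ι ι (valO M)) Y) u = redRep (kronRep X Y) u :=
    kron_ext fun v w => by simp [redRep_kronRep_kronVec, redRep_one]
  rw [← h1]
  exact exists_pseudoLog_add_eq h2 (by rw [← map_pow, hu, map_one]) (by rw [← map_pow, hu, map_one])
    (kron_ext fun v w => by simp [redRep_kronRep_kronVec, redRep_one])

variable {X Y} in
theorem OneStr.isBiString {u h : G} {d j : ℕ} {v v' : resK M} {y : ι → resK M} {y' : κ → resK M}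
    (S : OneStr p X u h d v y) (S' : OneStr p Y u h d v' y') (hu : u ^ p = 1) (hj : ¬ p ∣ j)
    (hc : h * u * h⁻¹ = u ^ j) : IsBiString (kronL p κ X u) (kronR p ι Y u)
      (redRep (kronRep X Y) h) j (v * v') (kronVec _ _ _ y y') d where
  comm := kron_ext fun a b => by
    have h1 := kronL_pow_apply X (p := p) (κ := κ) u 1
    have h2 := kronR_pow_apply Y (p := p) (ι := ι) u 1
    simp only [pow_one] at h1 h2
    simp only [Module.End.mul_apply, h1, h2]
  nil₁ := by rw [kronL_pow_apply, S.nil, map_zero, LinearMap.zero_apply]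
  nil₂ := by rw [kronR_pow_apply, S'.nil, map_zero]
  semi₁ := mul_pseudoLog_of_conj (by rw [← map_pow, hu, map_one]) hj (kron_ext fun a b => by
    simp only [← map_pow, ← hc, Module.End.mul_apply, redRep_kronRep_kronVec, redRep_one,
      Module.End.one_apply]
    rw [← Module.End.mul_apply, ← Module.End.mul_apply, ← map_mul, ← map_mul, inv_mul_cancel_right])
  semi₂ := mul_pseudoLog_of_conj (by rw [← map_pow, hu, map_one]) hj (kron_ext fun a b => by
    simp only [← map_pow, ← hc, Module.End.mul_apply, redRep_kronRep_kronVec, redRep_one,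
      Module.End.one_apply]
    rw [← Module.End.mul_apply, ← Module.End.mul_apply, ← map_mul, ← map_mul, inv_mul_cancel_right])
  eig := by
    rw [redRep_kronRep_kronVec, S.eig, S'.eig, map_smul, map_smul, LinearMap.smul_apply, smul_smul,
      mul_comm]
  span := by
    rw [← span_kronVec, Submodule.span_le]
    rintro _ ⟨q, rfl⟩
    have h1 := Submodule.apply_mem_map₂ (kronVec (resK M) ι κ) (S.span (Submodule.mem_top (x := q.1)))
      (S'.span (Submodule.mem_top (x := q.2)))
    rw [Submodule.map₂_span_span] at h1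
    refine Submodule.span_mono ?_ h1
    rintro _ ⟨_, ⟨a, rfl⟩, _, ⟨c, rfl⟩, rfl⟩
    exact ⟨(a, c), by simp only [kronR_pow_apply, kronL_pow_apply]⟩
  rank := by rw [finrank_fintype_fun_eq_card, Fintype.card_prod, S.card, S'.card]

end kron

namespace CenFrame
variable [Finite G] {P : Sylow p G} (F : CenFrame p P) {φ : Subgroup.center G →* ℂˣ}

theorem valM_eq_one {γ : ℂ} (hγ : γ ^ F.e = φ ⟨_, F.h_pow_mem⟩) : valM M γ = 1 :=
  valM_eq_one_of_pow_eq_one (n := F.e * Nat.card (Subgroup.center G))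
    (mul_ne_zero F.e_pos.ne' Nat.card_pos.ne') (by
      rw [pow_mul, hγ, ← Units.val_pow_eq_pow_val, ← map_pow, pow_card_eq_one', map_one,
        Units.val_one])

theorem red_ne_zero {γ : ℂ} (hγ : γ ^ F.e = φ ⟨_, F.h_pow_mem⟩) : red M γ ≠ 0 :=
  red_ne_zero_iff.2 (F.valM_eq_one hγ)

variable {ι : Type v} [Fintype ι] [DecidableEq ι] {X : G →* Matrix ι ι (valO M)} {χ : G → ℂ}
  (hX : ∀ g, ((X g).trace : ℂ) = χ g) (hφ : OverCen φ χ)
include hX hφ

omit F in
theorem redRep_center (z : Subgroup.center G) : redRep X z = red M (φ z) • 1 :=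
  redRep_eq_smul X (mem_valO_iff.2 (valM_eq_one_of_pow_eq_one
    (Nat.card_pos (α := Subgroup.center G)).ne' (by
      rw [← Units.val_pow_eq_pow_val, ← map_pow, pow_card_eq_one', map_one, Units.val_one])).le)
    fun g => by rw [hX, hX, hφ]

theorem redRep_normalizer {u : G} (hu : u ∈ (P : Subgroup G)) (hu1 : u ≠ 1) {n : G}
    (hn : n ∈ Subgroup.normalizer ((P : Subgroup G) : Set G)) :
    ∃ (c : resK M) (i a : ℕ), redRep X n = c • (redRep X F.h ^ i * redRep X u ^ a) := by
  obtain ⟨i, -, c, hc, rfl⟩ := F.gen n hn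
  obtain ⟨z, hz, v, hv, rfl⟩ := F.exists_decomp hc
  obtain ⟨a, rfl⟩ := exists_eq_pow_of_card_prime P F.card hu hu1 hv
  refine ⟨red M (φ ⟨z, hz⟩), i, a, ?_⟩
  rw [map_mul, map_mul, map_pow, map_pow, redRep_center hX hφ ⟨z, hz⟩, smul_mul_assoc, one_mul,
    mul_smul_comm]

theorem mul_finrank_eigenspace (hM : IsPModular p M) {γ : ℂ} (hγ : γ ^ F.e = φ ⟨_, F.h_pow_mem⟩) :
    (F.e : ℂ) * finrank (resK M) ((redRep X F.h).eigenspace (red M γ)) =
      ∑ i ∈ Finset.range F.e, γ⁻¹ ^ i * χ (F.h ^ i) := by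
  simpa only [hX] using hM.finrank_eigenspace_redRep X F.not_dvd_e (F.valM_eq_one hγ) fun g => by
    rw [hX, hX, hγ]; exact hφ ⟨_, F.h_pow_mem⟩ g

omit hX hφ

include F in
theorem pow_p {u : G} (hu : u ∈ (P : Subgroup G)) : u ^ p = 1 := by
  have := congrArg Subtype.val (pow_card_eq_one' (x := (⟨u, hu⟩ : (P : Subgroup G))))
  rwa [F.card] at this

theorem semi_pseudoLog (X : G →* Matrix ι ι (valO M)) {u : G} (hu : u ∈ (P : Subgroup G)) :
    redRep X F.h * pseudoLog (resK M) p (redRep X u) =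
      (F.j : resK M) • (pseudoLog (resK M) p (redRep X u) * redRep X F.h) :=
  mul_pseudoLog_of_conj (by rw [← map_pow, F.pow_p hu, map_one])
    F.not_dvd_j (by rw [← map_pow, ← F.hconj u hu, ← map_mul, ← map_mul, inv_mul_cancel_right])

theorem exists_strings (h2 : p ≠ 2) (χ : IrrCharacter G) (hφ : OverCen φ χ.1) {u : G}
    (hu : u ∈ (P : Subgroup G)) (hu1 : u ≠ 1) {γ : ℂ} (hγ : γ ^ F.e = φ ⟨_, F.h_pow_mem⟩) :
    ∃ X : G →* Matrix (Fin (charDegree χ.1)) (Fin (charDegree χ.1)) (valO M),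
      (∀ g, ((X g).trace : ℂ) = χ.1 g) ∧ ∃ (f : ℕ) (s : Option (Fin f) → ℕ)
        (wt : Option (Fin f) → resK M) (y : Option (Fin f) → Fin (charDegree χ.1) → resK M),
      IsStrings (pseudoLog (resK M) p (redRep X u)) (redRep X F.h) s wt y ∧
        (∀ i, s (some i) = p) ∧ s none < p ∧ (∀ i, wt i ^ F.e = red M γ ^ F.e) ∧
        charDegree χ.1 = s none + f * p := by
  obtain ⟨X, hX, hloc⟩ := χ.exists_local_lattice M
  obtain ⟨f, s, wt, y, S, h1, h3, h4⟩ := exists_isStrings_of_local (redRep X) P F.card hu hu1 h2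
    (F.hconj u hu) (F.e_ne_zeroK _) (F.primK _) (F.red_ne_zero hγ) (by
      rw [← map_pow, ← red_pow (mem_valO_iff.2 (F.valM_eq_one hγ).le), hγ]
      exact redRep_center hX hφ ⟨_, F.h_pow_mem⟩)
    (fun n => F.redRep_normalizer hX hφ hu hu1) hloc
  refine ⟨X, hX, f, s, wt, y, S, h1, h3, h4, ?_⟩
  simpa [h1] using S.finrank_eq

theorem exists_oneStr (h2 : p ≠ 2) (hM : IsPModular p M) (χ : IrrCharacter G) (hφ : OverCen φ χ.1)
    (hd : charDegree χ.1 + F.e = p) {u : G} (hu : u ∈ (P : Subgroup G)) (hu1 : u ≠ 1) {β : ℂ}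
    (hβ : β ^ F.e = φ ⟨_, F.h_pow_mem⟩) (hv : ∀ i, ¬ F.e ∣ i → χ.1 (F.h ^ i) = β ^ i) :
    ∃ X : G →* Matrix (Fin (charDegree χ.1)) (Fin (charDegree χ.1)) (valO M),
      (∀ g, ((X g).trace : ℂ) = χ.1 g) ∧ ∃ y, OneStr p X u F.h (charDegree χ.1) (red M β) y := by
  classical
  obtain ⟨X, hX, f, s, wt, y, S, h1, h3, h4, h5⟩ := F.exists_strings (M := M) h2 χ hφ hu hu1 hβ
  have he := F.e_pos
  obtain rfl : f = 0 := by
    rcases f with _ | f
    · rfl
    · rw [add_one_mul] at h5; omega
  rw [zero_mul, add_zero] at h5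
  refine ⟨X, hX, y none, ?_, by have := S.nil none; rwa [← h5] at this,
    S.span.trans (Submodule.span_mono ?_),
    Fintype.card_fin _⟩
  · have h6 := F.mul_finrank_eigenspace hX hφ hM hβ
    obtain ⟨t, ht⟩ := F.e_dvd
    obtain ⟨q, hq⟩ : ∃ q, s none = q * F.e + 1 := ⟨t - 1, by
      have := F.e_lt
      rw [Nat.sub_one_mul, mul_comm t, ← ht]; omega⟩
    have hβ0 : β ≠ 0 := fun h => F.red_ne_zero (M := M) hβ (by rw [h, red_zero])
    rw [S.finrank_eigenspace (F.semi_pseudoLog X hu), Fintype.sum_option, Finset.univ_eq_empty,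
      Finset.sum_empty, add_zero, hq, card_filter_mul_pow_succ (F.primK _) he.ne'
        (fun h => pow_ne_zero _ (F.red_ne_zero hβ) (by rw [← h4 none, h, zero_pow he.ne']))
        (h4 none).symm, ← Finset.add_sum_erase _ _ (Finset.mem_range.2 he),
      Finset.sum_congr rfl (g := fun _ => 1) fun i hi => by
        rw [hv i (Nat.not_dvd_of_pos_of_lt (Nat.pos_of_ne_zero (Finset.ne_of_mem_erase hi))
          (Finset.mem_range.1 (Finset.mem_of_mem_erase hi))), ← mul_pow, inv_mul_cancel₀ hβ0,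
          one_pow]] at h6
    simp only [pow_zero, one_mul, χ.one_eq_charDegree, h5, hq, Finset.sum_const, nsmul_eq_mul,
      mul_one, Finset.card_erase_of_mem (Finset.mem_range.2 he), Finset.card_range,
      Nat.cast_pred he] at h6
    rw [S.eig none]
    split_ifs at h6 with h
    · rw [h]
    · push_cast at h6
      exact absurd (by linear_combination -h6) (Nat.cast_ne_zero.2 he.ne' : (F.e : ℂ) ≠ 0)
  · rintro _ ⟨⟨_ | i, a⟩, rfl⟩
    · exact ⟨a.cast h5.symm, rfl⟩
    · exact i.elim0

end CenFrame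

end Cfsg
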