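import Cfsg.Agent.Lin.Tame
import Cfsg.Agent.CT.Det
import Cfsg.Agent.CT.Unitary

/-! Multiplicities of eigenvalues. -/

set_option autoImplicit false

namespace Cfsg

open scoped ComplexConjugate Pointwise

universe u v w

open Classical in
/-- the multiplicity of `c` in a family with the power sums `s` -/
noncomputable def powMul (s : ℕ → ℂ) (c : ℂ) : ℕ :=
  if h : ∃ (n : ℕ) (ε : Fin n → ℂ), ∀ k, s k = ∑ i, ε i ^ k then
    (Finset.univ.filter (h.choose_spec.choose · = c)).card else 0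

theorem powMul_eq {ι : Type v} [Fintype ι] {s : ℕ → ℂ} {ε : ι → ℂ} (h : ∀ k, s k = ∑ i, ε i ^ k)
    (c : ℂ) [DecidablePred (ε · = c)] : powMul s c = (Finset.univ.filter (ε · = c)).card := by
  classical
  have h1 : ∃ (n : ℕ) (ε : Fin n → ℂ), ∀ k, s k = ∑ i, ε i ^ k :=
    ⟨_, fun i => ε ((Fintype.equivFin ι).symm i), fun k => by
      rw [h, ← (Fintype.equivFin ι).symm.sum_comp]⟩
  rw [powMul, dif_pos h1]
  have h2 := sum_comp_eq_of_forall_sum_pow_eq (fun k => (h1.choose_spec.choose_spec k).symm.trans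
    (h k)) fun z => if z = c then 1 else 0
  rw [Finset.card_filter, Finset.card_filter, ← Nat.cast_inj (R := ℂ)]
  push_cast
  convert h2

variable {G : Type u} [Group G]

/-- the multiplicity of the eigenvalue `c` of `y` -/
noncomputable def eigMul (χ : G → ℂ) (y : G) (c : ℂ) : ℕ := powMul (fun k => χ (y ^ k)) c

theorem eigMul_eq {ι : Type v} [Fintype ι] {χ : G → ℂ} {y : G} {ε : ι → ℂ}
    (h : ∀ k : ℕ, χ (y ^ k) = ∑ i, ε i ^ k) (c : ℂ) [DecidablePred (ε · = c)] :
    eigMul χ y c = (Finset.univ.filter (ε · = c)).card := powMul_eq h c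

theorem eigMul_comp {H : Type v} [Group H] (χ : G → ℂ) (f : H →* G) (y : H) (c : ℂ) :
    eigMul (fun x => χ (f x)) y c = eigMul χ (f y) c := by
  simp only [eigMul, map_pow]

theorem eigMul_res (χ : G → ℂ) (H : Subgroup G) (y : H) (c : ℂ) :
    eigMul (fun x : H => χ x) y c = eigMul χ y c := eigMul_comp χ H.subtype y c

theorem IsClassFunction.eigMul_conj {χ : G → ℂ} (h : IsClassFunction G χ) (g y : G) (c : ℂ) :
    eigMul χ (g * y * g⁻¹) c = eigMul χ y c := by
  simp only [eigMul, conj_pow, h.eq_of_isConj (isConj_iff.2 ⟨g, rfl⟩).symm]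

theorem eigMul_of_scalar {χ : G → ℂ} (h : IsCharacter G χ) {y : G} {c : ℂ}
    (hc : ∀ x, χ (y * x) = c * χ x) : eigMul χ y c = charDegree χ := by
  classical
  rw [eigMul_eq (ε := fun _ : Fin (charDegree χ) => c) fun k => ?_]
  · simp
  induction k with
  | zero => simp [h.one_eq_charDegree]
  | succ k ih => rw [pow_succ', hc, ih, Finset.mul_sum]; simp only [pow_succ']

variable [Finite G]

theorem IsCharacter.eigMul_le {χ : G → ℂ} (h : IsCharacter G χ) (y : G) (c : ℂ) :
    eigMul χ y c ≤ charDegree χ := by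
  classical
  obtain ⟨ε, -, h1, -⟩ := h.exists_eigenvalues y
  rw [eigMul_eq h1]
  exact (Finset.card_filter_le _ _).trans (by simp)

theorem IsCharacter.pow_eq_one_of_eigMul {χ : G → ℂ} (h : IsCharacter G χ) {y : G} {c : ℂ}
    (h0 : eigMul χ y c ≠ 0) : c ^ orderOf y = 1 := by
  classical
  obtain ⟨ε, h2, h1, -⟩ := h.exists_eigenvalues y
  rw [eigMul_eq h1] at h0
  obtain ⟨i, hi⟩ := Finset.card_ne_zero.1 h0
  rw [← (Finset.mem_filter.1 hi).2, h2]

theorem IsCharacter.eigMul_add_sum {θ ψ : G → ℂ} (h : IsCharacter G θ) {ι : Type v} [Fintype ι]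
    {μ : ι → G →* ℂˣ} (hψ : ∀ g, ψ g = θ g + ∑ i, (μ i g : ℂ)) (y : G) (c : ℂ)
    [DecidablePred fun i => (μ i y : ℂ) = c] :
    eigMul ψ y c = eigMul θ y c + (Finset.univ.filter fun i => (μ i y : ℂ) = c).card := by
  classical
  obtain ⟨ε, -, h1, -⟩ := h.exists_eigenvalues y
  rw [eigMul_eq h1, eigMul_eq (ε := Sum.elim ε fun i => (μ i y : ℂ)) fun k => by
    simp [hψ, h1], Finset.card_filter, Finset.card_filter, Finset.card_filter, Fintype.sum_sum_type]
  congr!

theorem IsCharacter.eigMul_hom_mul {θ : G → ℂ} (h : IsCharacter G θ) (μ : G →* ℂˣ) (y : G)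
    (c : ℂ) : eigMul (fun g => μ g * θ g) y (μ y * c) = eigMul θ y c := by
  classical
  obtain ⟨ε, -, h1, -⟩ := h.exists_eigenvalues y
  rw [eigMul_eq h1, eigMul_eq (ε := fun i => μ y * ε i) fun k => by
    simp [h1, mul_pow, Finset.mul_sum]]
  simp

theorem IsCharacter.eigMul_eq_sum_rmul {χ : G → ℂ} (h : IsCharacter G χ) (P : Subgroup G)
    [IsMulCommutative P] [Fintype (P →* ℂˣ)] (y : P) (c : ℂ)
    [DecidablePred fun l : P →* ℂˣ => (l y : ℂ) = c] :
    eigMul χ y c = ∑ l : P →* ℂˣ with (l y : ℂ) = c, rmul P χ l := by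
  classical
  rw [eigMul_eq (ε := fun i : Σ l : P →* ℂˣ, Fin (rmul P χ l) => (i.1 y : ℂ)) fun k => by
    rw [← Subgroup.coe_pow, h.eq_sum_rmul, Fintype.sum_sigma]; simp,
    Finset.card_filter, Fintype.sum_sigma, Finset.sum_filter]
  refine Finset.sum_congr rfl fun l _ => ?_
  split_ifs <;> simp

theorem IrrCharacter.eigMul_add_le (χ : IrrCharacter G) (h1 : charDegree χ.1 ≠ 1) {y y' : G}
    (h : Subgroup.closure {y, y'} = ⊤) (c c' : ℂ) :
    eigMul χ.1 y c + eigMul χ.1 y' c' ≤ charDegree χ.1 := by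
  classical
  have hχ := χ.isCharacter
  by_contra hlt
  have h2 := hχ.eigMul_le y c
  have h3 := hχ.eigMul_le y' c'
  have h4 := hχ.pow_eq_one_of_eigMul (y := y) (c := c) (by omega)
  have h5 := hχ.pow_eq_one_of_eigMul (y := y') (c := c') (by omega)
  obtain ⟨ε, e1, e2, -⟩ := hχ.exists_eigenvalues y
  obtain ⟨ε', e1', e2', -⟩ := hχ.exists_eigenvalues y'
  rw [eigMul_eq e2, eigMul_eq e2', ← Fintype.card_subtype, ← Fintype.card_subtype,
    ← Nat.card_eq_fintype_card, ← Nat.card_eq_fintype_card] at hlt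
  obtain ⟨n, ρ, hρ, hχρ⟩ := χ.2
  rw [← finrank_eigenspace_eq_card ρ y ε e1 (fun k => by rw [hχρ, e2]) h4,
    ← finrank_eigenspace_eq_card ρ y' ε' e1' (fun k => by rw [hχρ, e2']) h5,
    ← Submodule.finrank_sup_add_finrank_inf_eq] at hlt
  have hd : charDegree χ.1 = Module.finrank ℂ (Fin n → ℂ) := by
    rw [← charDegree_character ρ, hχρ]
  have h6 := Submodule.finrank_le (Module.End.eigenspace (ρ y) c ⊔ Module.End.eigenspace (ρ y') c')
  obtain ⟨v, ⟨hv, hv'⟩, hv0⟩ := Submodule.exists_mem_ne_zero_of_ne_bot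
    (p := Module.End.eigenspace (ρ y) c ⊓ Module.End.eigenspace (ρ y') c') fun h0 => by
      rw [h0, finrank_bot] at hlt; omega
  have h7 : ∀ g, ∀ w ∈ Submodule.span ℂ {v}, ρ g w ∈ Submodule.span ℂ {v} := fun g => by
    have hg : g ∈ Subgroup.closure {y, y'} := h ▸ Subgroup.mem_top g
    have h8 : g ∈ Submonoid.closure {y, y'} := by
      rw [← Subgroup.closure_toSubmonoid_of_finite]; exact hg
    clear hg
    induction h8 using Submonoid.closure_induction with
    | mem x hx =>
      intro w hw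
      obtain ⟨a, rfl⟩ := Submodule.mem_span_singleton.1 hw
      rw [map_smul]
      refine Submodule.smul_mem _ _ ?_
      rcases hx with rfl | rfl
      · rw [Module.End.mem_eigenspace_iff.1 hv]
        exact Submodule.smul_mem _ _ (Submodule.mem_span_singleton_self v)
      · rw [Module.End.mem_eigenspace_iff.1 hv']
        exact Submodule.smul_mem _ _ (Submodule.mem_span_singleton_self v)
    | one => simp
    | mul a b _ _ ha hb => exact fun w hw => by rw [map_mul]; exact ha _ (hb w hw)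
  rcases ((rep_isIrreducible_iff ρ).1 hρ).2 _ h7 with h8 | h8
  · exact hv0 (Submodule.span_singleton_eq_bot.1 h8)
  · have h9 := finrank_span_singleton (K := ℂ) hv0
    rw [h8, finrank_top] at h9
    omega

/-- commuting conjugates from tameness -/
theorem IsCharacter.commute_of_eigMul {χ : G → ℂ} (hχ : IsCharacter G χ)
    (hf : ∀ g, χ g = χ 1 → g = 1) {p : ℕ} (hp : p.Prime) (hd : charDegree χ + 2 ≤ p)
    {P : Subgroup G} [IsMulCommutative P] (hexp : ∀ u ∈ P, u ^ p = 1) (hP : p < Nat.card P)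
    (hM : ∀ y ∈ P, y ≠ 1 → ∀ c, 2 * eigMul χ y c + 1 ≤ p) {A : Subgroup G}
    (hA : ∀ a ∈ A, ∀ b ∈ A, a * b = b * a) (hPA : P ≤ Subgroup.normalizer (A : Set G))
    (hi : ∀ g : G, g ∉ Subgroup.normalizer (A : Set G) →
      p ^ 2 ∣ (MulAut.conj g • Subgroup.normalizer (A : Set G)).relIndex P) (g : G) {a b : G}
    (ha : a ∈ A) (hb : b ∈ A) : Commute (g * a * g⁻¹) b := by
  classical
  have := Fintype.ofFinite (P →* ℂˣ)
  obtain ⟨M, hM'⟩ := exists_isPModular hp
  obtain ⟨X, hX⟩ := hχ.exists_matrix_valO M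
  have hX' : (fun g => (cplxRep X g).trace) = χ := funext fun g => by rw [trace_cplxRep, hX]
  have hζ := Complex.isPrimitiveRoot_exp p hp.ne_zero
  generalize Complex.exp (2 * Real.pi * Complex.I / p) = ζ at hζ
  have hl : ∀ (l : P →* ℂˣ) (u : P), (l u : ℂ) ^ p = 1 := fun l u => by
    rw [← Units.val_pow_eq_pow_val, ← map_pow, show u ^ p = 1 from Subtype.ext (hexp u u.2)]; simp
  have hind : ∀ l : P →* ℂˣ, l ≠ 1 → l.ker.index = p := fun l hl1 => by
    have := Fact.mk hp
    rw [← orderOf_unitsHom_eq_index_ker]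
    exact orderOf_eq_prime (MonoidHom.ext fun u => Units.ext (hl l u)) hl1
  have h2 : p ≠ 2 := by
    rintro rfl
    have := Finite.one_lt_card_iff_nontrivial.1 (by omega : 1 < Nat.card P)
    obtain ⟨y, hy⟩ := exists_ne (1 : P)
    refine hy (Subtype.ext (hf _ ?_))
    rw [hχ.charDegree_eq_zero_iff.1 (by omega)]; rfl
  obtain ⟨n, hn⟩ : ∃ n, p = 2 * n + 3 := by
    obtain ⟨k, hk⟩ := hp.odd_of_ne_two h2
    exact ⟨k - 1, by have := hp.two_le; omega⟩
  have hv := valuation_prime_eq (R := valO M) hp hζ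
  have hv1 : (valO M).valuation (1 - ζ) < 1 := by
    by_contra h
    have h1 := hM'.valM_p_lt_one
    rw [valM, hv] at h1
    exact absurd (one_le_pow_of_one_le' (not_lt.1 h) _) (not_le.2 h1)
  have hv0 : 0 < (valO M).valuation (1 - ζ) :=
    (Valuation.pos_iff _).2 (sub_ne_zero.2 (hζ.ne_one hp.one_lt).symm)
  refine (tameRep_of_cover (R := valO M) (P := P) (X := cplxRep X) (fun g i j => (X g i j).2)
    (s := 1 - ζ) (((valO M).valuation_le_one_iff _).1 hv1.le) (n := n) fun l hl0 => ?_).commute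
    (fun g hg => hf g (by rw [← hX']; exact hg)) (n := p ^ 2) ?_ hA hPA hi g ha hb
  swap
  · rw [Nat.cast_pow, map_pow, map_pow, hv, ← pow_mul, ← pow_mul]
    exact pow_lt_pow_right_of_lt_one₀ hv0 hv1 (by omega)
  rw [hX'] at hl0 ⊢
  set S := Finset.univ.filter fun m : P →* ℂˣ => rmul P χ m ≠ 0 with hS
  have hlS : l ∈ S := by simpa [hS] using hl0
  have hle : ∀ T ⊆ S, T.card ≤ ∑ m ∈ T, rmul P χ m := fun T hT => by
    rw [Finset.card_eq_sum_ones]
    exact Finset.sum_le_sum fun m hm => Nat.pos_of_ne_zero (Finset.mem_filter.1 (hT hm)).2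
  have hok : ∀ (m : P →* ℂˣ) (y : P), (m * l⁻¹) y ≠ 1 → (m y : ℂ) ∈ valO M ∧
      (valO M).valuation (1 - ζ) ≤ (valO M).valuation (l y - m y) := fun m y hy =>
    ⟨((valO M).valuation_le_one_iff _).1 (valuation_le_one_of_pow_eq_one hp.ne_zero (hl m y)).le,
      valuation_sub_eq_of_pow_prime hp hζ (hl l y) (hl m y) fun h => hy (by
        simp [Units.ext h])⟩
  have hne : ∀ m ∈ S.erase l, m * l⁻¹ ≠ 1 := fun m hm h =>
    Finset.ne_of_mem_erase hm (mul_inv_eq_one.1 h)
  obtain ⟨L, h1, h3, h4⟩ := exists_list_cover (fun m : P →* ℂˣ => (m * l⁻¹).ker)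
    (fun c : P × ℂ => c.2 ∈ valO M ∧ (valO M).valuation (1 - ζ) ≤ (valO M).valuation (l c.1 - c.2))
    (fun m c => (m c.1 : ℂ) = c.2) n (S.erase l) (by
      have h5 := (hle S subset_rfl).trans (Finset.sum_le_sum_of_subset (Finset.subset_univ S))
      rw [hχ.sum_rmul] at h5
      rw [Finset.card_erase_of_mem hlS]; omega) (fun b => by
      rcases ((S.erase l).filter fun m => (m * l⁻¹).ker = b).eq_empty_or_nonempty with h | ⟨m, hm⟩
      · rw [h]; simp
      obtain rfl := (Finset.mem_filter.1 hm).2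
      replace hm := (Finset.mem_filter.1 hm).1
      obtain ⟨⟨y, hy⟩, hy1⟩ := Subgroup.ne_bot_iff_exists_ne_one.1
        (show (m * l⁻¹).ker ≠ ⊥ from fun h => by
          have h5 := hind _ (hne m hm)
          rw [h, Subgroup.index_bot] at h5; omega)
      have h5 := hM y y.2 (fun h => hy1 (Subtype.ext (Subtype.ext h))) (l y)
      rw [hχ.eigMul_eq_sum_rmul P] at h5
      have h6 := (hle (insert l ((S.erase l).filter fun m' => (m' * l⁻¹).ker = (m * l⁻¹).ker))
        (Finset.insert_subset hlS ((Finset.filter_subset _ _).trans (Finset.erase_subset _ _)))).trans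
        (Finset.sum_le_sum_of_subset (t := Finset.univ.filter fun m' => (m' y : ℂ) = l y)
          fun m' hm' => by
            rcases Finset.mem_insert.1 hm' with rfl | hm'
            · simp
            · rw [← (Finset.mem_filter.1 hm').2, MonoidHom.mem_ker] at hy
              simpa [mul_inv_eq_one, Units.ext_iff] using hy)
      rw [Finset.card_insert_of_notMem (by simp)] at h6
      omega) (fun m hm => by
      obtain ⟨y, hy⟩ := DFunLike.ne_iff.1 (hne m hm)
      exact ⟨(y, m y), hok m y hy, rfl⟩) (fun m hm m' hm' hk => by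
      have h5 : ¬ (m' * m⁻¹).ker ≤ (m * l⁻¹).ker := fun h => by
        have h6 : (m' * m⁻¹).ker ≤ (m' * l⁻¹).ker := fun y hy => by
          have h7 := h hy
          simp only [MonoidHom.mem_ker, MonoidHom.mul_apply, MonoidHom.inv_apply,
            mul_inv_eq_one] at hy h7 ⊢
          exact hy.trans h7
        have h7 := hind (m' * m⁻¹) fun h' => hk (by
          rw [show m' = m from MonoidHom.ext fun y => mul_inv_eq_one.1 (DFunLike.congr_fun h' y)])
        have h8 : ∀ {A B : Subgroup P}, A ≤ B → A.index = B.index → A = B := fun {A B} h h' =>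
          Subgroup.eq_of_le_of_card_ge h (by
            have h1 := A.card_mul_index
            rw [← B.card_mul_index, h'] at h1
            exact (Nat.eq_of_mul_eq_mul_right (Nat.pos_of_ne_zero B.index_ne_zero_of_finite) h1).ge)
        exact hk ((h8 h (by rw [h7, hind _ (hne m hm)])).symm.trans
          (h8 h6 (by rw [h7, hind _ (hne m' hm')])))
      obtain ⟨y, hy, hy'⟩ := Set.not_subset.1 h5
      refine ⟨(y, m y), hok m y hy', rfl, ?_⟩
      simpa [mul_inv_eq_one, Units.ext_iff] using hy)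
  exact ⟨L, h1, h3, fun m hm hm0 => h4 m (Finset.mem_erase.2 ⟨hm, by simpa [hS] using hm0⟩)⟩

end Cfsg
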