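import Cfsg.Agent.Lin.EigMul
import Cfsg.Agent.Lin.TwoCls
import Cfsg.Agent.CT.Blichfeldt

/-! Linear groups of degree at most `p - 2` generated by `p`-elements: local lemmas. -/

set_option autoImplicit false

namespace Cfsg

open scoped ComplexConjugate Pointwise commutatorElement

universe u v w

variable {G : Type u} [Group G]

/-- `g` has `p`-power order -/
def IsPElt (p : ℕ) (g : G) : Prop := ∃ k, g ^ p ^ k = 1

/-- `G` is generated by its `p`-elements -/
def GenP (p : ℕ) (G : Type u) [Group G] : Prop := Subgroup.closure {g : G | IsPElt p g} = ⊤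

variable {p : ℕ}

theorem IsPElt.map {H : Type v} [Group H] (f : G →* H) {g : G} (h : IsPElt p g) :
    IsPElt p (f g) := h.imp fun k hk => by rw [← map_pow, hk, map_one]

theorem IsPElt.conj {g : G} (h : IsPElt p g) (x : G) : IsPElt p (x * g * x⁻¹) :=
  h.map (MulAut.conj x).toMonoidHom

theorem IsPElt.of_coe {H : Subgroup G} {g : H} (h : IsPElt p (g : G)) : IsPElt p g :=
  h.imp fun _ hk => Subtype.ext hk

theorem isPElt_of_mem {P : Subgroup G} (hP : IsPGroup p P) {g : G} (h : g ∈ P) : IsPElt p g :=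
  (hP ⟨g, h⟩).imp fun _ hk => congrArg Subtype.val hk

theorem IsPElt.isPGroup {g : G} (h : IsPElt p g) : IsPGroup p (Subgroup.zpowers g) := by
  rintro ⟨_, a, rfl⟩
  obtain ⟨k, hk⟩ := h
  exact ⟨k, Subtype.ext (by
    simp only [Subgroup.coe_pow, OneMemClass.coe_one]
    rw [← zpow_natCast, ← zpow_mul, mul_comm, zpow_mul, zpow_natCast, hk, one_zpow])⟩

theorem IsPElt.exists_sylow {g : G} (h : IsPElt p g) : ∃ Q : Sylow p G, g ∈ (Q : Subgroup G) := by
  obtain ⟨Q, hQ⟩ := h.isPGroup.exists_le_sylow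
  exact ⟨Q, hQ (Subgroup.mem_zpowers g)⟩

theorem GenP.eq_top (h : GenP p G) {H : Subgroup G} (hH : ∀ g, IsPElt p g → g ∈ H) : H = ⊤ :=
  top_le_iff.1 (h.ge.trans ((Subgroup.closure_le _).2 hH))

theorem GenP.of_surjective (h : GenP p G) {H : Type v} [Group H] {f : G →* H}
    (hf : Function.Surjective f) : GenP p H := by
  refine top_le_iff.1 fun x _ => ?_
  obtain ⟨g, rfl⟩ := hf x
  exact (h.eq_top (H := (Subgroup.closure _).comap f)
    fun g hg => Subgroup.subset_closure (hg.map f)).ge (Subgroup.mem_top g)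

theorem genP_closure {S : Set G} (hS : ∀ g ∈ S, IsPElt p g) : GenP p (Subgroup.closure S) :=
  top_le_iff.1 ((Subgroup.closure_closure_coe_preimage (k := S)).ge.trans
    (Subgroup.closure_mono fun g hg => (hS g hg).of_coe))

variable [hp : Fact p.Prime] [Finite G]

theorem GenP.eq_top_of_sylow_le (h : GenP p G) {H : Subgroup G} [hH : H.Normal] (P : Sylow p G)
    (hP : (P : Subgroup G) ≤ H) : H = ⊤ := h.eq_top fun g hg => by
  obtain ⟨x, hx⟩ := exists_conj_le_sylow P hg.isPGroup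
  simpa [mul_assoc] using
    hH.conj_mem _ (hP (mem_conj_smul_iff.1 (hx (Subgroup.mem_zpowers g)))) x

theorem IsCharacter.sylow_comm {χ : G → ℂ} (hχ : IsCharacter G χ) (hf : ∀ g, χ g = χ 1 → g = 1)
    (hd : charDegree χ < p) {P : Subgroup G} (hP : IsPGroup p P) :
    ∀ x ∈ P, ∀ y ∈ P, x * y = y * x :=
  comm_of_forall_prime_gt hχ hf fun q hq hqP => by
    obtain ⟨k, hk⟩ := IsPGroup.iff_card.1 hP
    rw [hk] at hqP
    rwa [(Nat.prime_dvd_prime_iff_eq hq hp.out).1 (hq.dvd_of_dvd_pow hqP)]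

/-- the reduced situation -/
structure RedLin (p : ℕ) (χ : IrrCharacter G) : Prop where
  gen : GenP p G
  faith : ∀ g, χ.1 g = χ.1 1 → g = 1
  deg : charDegree χ.1 + 2 ≤ p
  nl : charDegree χ.1 ≠ 1
  cen : ∀ z ∈ Subgroup.center G, IsPElt p z → z = 1

namespace RedLin

variable {χ : IrrCharacter G} (h : RedLin p χ)
include h

theorem comm {P : Subgroup G} (hP : IsPGroup p P) : ∀ x ∈ P, ∀ y ∈ P, x * y = y * x :=
  χ.isCharacter.sylow_comm h.faith (by have := h.deg; omega) hP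

theorem eq_bot {N : Subgroup G} [N.Normal] (hN : IsPGroup p N) : N = ⊥ := by
  refine (Subgroup.eq_bot_iff_forall _).2 fun x hx => h.cen x ?_ (isPElt_of_mem hN hx)
  refine Subgroup.mem_center_iff.2 fun g => Subgroup.mem_centralizer_singleton_iff.1
    ((h.gen.eq_top (H := Subgroup.centralizer {x}) fun g hg => ?_).ge (Subgroup.mem_top g))
  obtain ⟨Q, hQ⟩ := hg.exists_sylow
  exact Subgroup.mem_centralizer_singleton_iff.2
    (h.comm Q.isPGroup' _ hQ _ (hN.le_sylow_of_normal Q hx))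

theorem exists_not_commute {y : G} (hy : IsPElt p y) (hy1 : y ≠ 1) :
    ∃ g, ¬ Commute y (g * y * g⁻¹) := by
  by_contra hc
  push Not at hc
  have h0 : ∀ a ∈ Group.conjugatesOfSet {y}, ∃ g, g * y * g⁻¹ = a := fun a ha => by
    obtain ⟨_, rfl, ha'⟩ := Group.mem_conjugatesOfSet_iff.1 ha
    exact isConj_iff.1 ha'
  have h1 : ∀ a ∈ Group.conjugatesOfSet {y}, ∀ b ∈ Group.conjugatesOfSet {y}, a * b = b * a := by
    intro a ha b hb
    obtain ⟨g, rfl⟩ := h0 a ha
    obtain ⟨k, rfl⟩ := h0 b hb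
    have := (hc (g⁻¹ * k)).map (MulAut.conj g)
    simpa [mul_assoc, Commute, SemiconjBy] using this
  have h2 := Subgroup.isMulCommutative_closure h1
  have h3 : IsPGroup p (Subgroup.normalClosure {y}) := fun ⟨x, hx⟩ => by
    suffices IsPElt p x from this.of_coe
    induction hx using Subgroup.closure_induction with
    | mem x hx =>
      obtain ⟨g, rfl⟩ := h0 x hx
      exact hy.conj g
    | one => exact ⟨0, one_pow _⟩
    | mul a b ha hb ha' hb' =>
      obtain ⟨k, hk⟩ := ha'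
      obtain ⟨l, hl⟩ := hb'
      have h4 : Commute a b := congrArg Subtype.val (h2.1.1 ⟨a, ha⟩ ⟨b, hb⟩)
      exact ⟨k + l, by
        rw [h4.mul_pow, pow_add, pow_mul, hk, mul_comm (p ^ k), pow_mul, hl]; simp⟩
    | inv a _ ha' => exact ha'.imp fun k hk => by rw [inv_pow, hk, inv_one]
  exact hy1 ((h.eq_bot h3).le (Subgroup.subset_normalClosure rfl))

omit hp in
theorem notMem_charCenter {y : G} (hy : IsPElt p y) (hy1 : y ≠ 1) : y ∉ charCenter χ.1 :=
  fun hc => hy1 (h.cen y (χ.isCharacter.charCenter_le_center_of_faithful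
    (χ.charKer_eq_bot_iff.2 h.faith) hc) hy)

theorem sylow_ne_bot (P : Sylow p G) : (P : Subgroup G) ≠ ⊥ := fun hP => h.nl (by
  refine χ.charCenter_eq_top_iff.1 (top_le_iff.1 ?_)
  rw [← h.gen.eq_top_of_sylow_le (H := ⊥) P hP.le]
  exact bot_le)

theorem not_normal (P : Sylow p G) : ¬ (P : Subgroup G).Normal := fun _ =>
  h.sylow_ne_bot P (h.eq_bot P.isPGroup')

theorem pow_eq_one {y : G} (hy : IsPElt p y) : y ^ p = 1 := by
  obtain ⟨M, hM⟩ := exists_isPModular hp.out
  have := hM.charP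
  obtain ⟨X, hX⟩ := χ.isCharacter.exists_matrix_valO M
  have hd := h.deg
  have h1 := h.eq_bot (χ.isCharacter.isPGroup_ker_reduction hM h.faith (by omega)
    (ρ := redRep X) fun g => by rw [trace_redRep, hX])
  have := χ.charDegree_pos
  have : Nonempty (Fin (charDegree χ.1)) := ⟨⟨0, this⟩⟩
  have : CharP (Module.End (resK M) (Fin (charDegree χ.1) → resK M)) p :=
    charP_of_injective_algebraMap (algebraMap (resK M) _).injective p
  obtain ⟨k, hk⟩ := hy
  have h2 : IsNilpotent (redRep X y - 1) := ⟨p ^ k, by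
    rw [sub_pow_char_pow_of_commute _ _ (Commute.one_right _), ← map_pow, hk]; simp⟩
  have h3 : (redRep X y - 1) ^ p = 0 := by
    have h4 := LinearMap.aeval_self_charpoly (redRep X y - 1)
    rw [(LinearMap.isNilpotent_iff_charpoly _).1 h2, map_pow, Polynomial.aeval_X] at h4
    exact pow_eq_zero_of_le (by simp; omega) h4
  rw [sub_pow_char_of_commute _ (Commute.one_right _), ← map_pow, one_pow, sub_eq_zero] at h3
  exact h1.le h3

theorem commutator_eq_top {P : Sylow p G} (hP : Nat.card P = p) : commutator G = ⊤ := by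
  refine h.gen.eq_top_of_sylow_le P ?_
  by_contra hn
  have h1 := χ.isCharacter.le_centralizer_of_normal P hP h.faith h.deg
    (not_dvd_card_of_sylow_not_le P hP hn)
  obtain ⟨u, hu, hu1⟩ := exists_ne_one_of_card_prime hP
  obtain ⟨g, hg⟩ := h.exists_not_commute (isPElt_of_mem P.isPGroup' hu) hu1
  have h2 : Commute u ⁅g, u⁆ := h1 (Subgroup.commutator_mem_commutator (Subgroup.mem_top g)
    (Subgroup.mem_top u)) u hu
  exact hg (by simpa [commutatorElement_def] using h2.mul_right (Commute.refl u))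

theorem rmul_le {P : Sylow p G} (hP : Nat.card P = p) : p ≤ 2 * charDegree χ.1 + 1 ∧
    (∀ l, rmul P χ.1 l ≤ 1) ∧ (2 * charDegree χ.1 + 1 = p → rmul P χ.1 1 = 0) := by
  classical
  obtain ⟨F⟩ := nonempty_autFrame hP
  have : IsCyclic (P : Subgroup G) := isCyclic_of_prime_card hP
  have := Fintype.ofFinite ((P : Subgroup G) →* ℂˣ)
  have hd := h.deg
  obtain ⟨he, l, hl, ⟨m, hm, h1⟩ | ⟨h1, h2, -⟩⟩ := χ.small_cases F hd fun hk =>
    h.sylow_ne_bot P (le_bot_iff.1 (χ.charKer_eq_bot_iff.2 h.faith ▸ hk))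
  · have h2 := F.eq_of_orb (h.not_normal P) χ.isCharacter h.faith (by omega) he h1
    have h0 := χ.charDegree_pos
    have h3 : charDegree χ.1 = F.e := by
      match m with
      | 0 => omega
      | 1 => omega
      | m + 2 => rw [add_mul] at hm; omega
    refine ⟨by omega, fun k => ?_, fun _ => by_contra fun h0 => (h1 1 h0).ne_one hl rfl⟩
    by_contra hk
    have h4 := h1 k (by omega)
    have h5 := Finset.sum_le_sum_of_subset (f := rmul P χ.1)
      (Finset.subset_univ (Finset.univ.filter (F.Orb k)))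
    rw [χ.isCharacter.sum_rmul, Finset.sum_congr rfl fun x hx =>
      (Finset.mem_filter.1 hx).2.rmul_eq χ.isCharacter, Finset.sum_const,
      F.card_orb (h4.ne_one hl), h3, smul_eq_mul] at h5
    have := F.e_pos
    nlinarith
  · refine ⟨by omega, fun k => ?_, fun _ => by omega⟩
    have h3 := F.card_mul_rmul_of_val χ.isCharacter (c := -1) hl (fun v hv => by
      rw [h2 v hv]; simp) k
    have h4 : (p : ℤ) * rmul P χ.1 k ≤ p * 1 := by split_ifs at h3 <;> omega
    exact_mod_cast le_of_mul_le_mul_left h4 (by omega)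

theorem eigMul_le (hP : ∀ P : Sylow p G, Nat.card P = p) {y : G} (hy : IsPElt p y) (hy1 : y ≠ 1) :
    (∀ c, eigMul χ.1 y c ≤ 1) ∧ (2 * charDegree χ.1 + 1 = p → eigMul χ.1 y 1 = 0) := by
  classical
  obtain ⟨P, hyP⟩ := hy.exists_sylow
  obtain ⟨-, h1, h2⟩ := h.rmul_le (hP P)
  have : IsCyclic (P : Subgroup G) := isCyclic_of_prime_card (hP P)
  have := Fintype.ofFinite ((P : Subgroup G) →* ℂˣ)
  have h3 : ∀ l m : (P : Subgroup G) →* ℂˣ, (l ⟨y, hyP⟩ : ℂ) = m ⟨y, hyP⟩ → l = m := fun l m hlm =>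
    MonoidHom.ext fun ⟨v, hv⟩ => by
      obtain ⟨k, rfl⟩ := (eq_zpowers_of_card_prime (hP P) hyP hy1).le hv
      change l (⟨y, hyP⟩ ^ k) = m (⟨y, hyP⟩ ^ k)
      rw [map_zpow, map_zpow, Units.ext hlm]
  have h4 := fun c => χ.isCharacter.eigMul_eq_sum_rmul P ⟨y, hyP⟩ c
  refine ⟨fun c => ?_, fun hd => ?_⟩
  · rw [h4]
    refine (Finset.sum_le_card_nsmul _ _ 1 fun l _ => h1 l).trans ?_
    rw [smul_eq_mul, mul_one, Finset.card_le_one]
    exact fun l hl m hm => h3 l m ((Finset.mem_filter.1 hl).2.trans (Finset.mem_filter.1 hm).2.symm)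
  · rw [h4]
    exact Finset.sum_eq_zero fun l hl => by rw [h3 l 1 (Finset.mem_filter.1 hl).2, h2 hd]

end RedLin

omit hp in
theorem IrrCharacter.charCenter_twist (θ : IrrCharacter G) (μ : G →* ℂˣ) :
    charCenter (θ.twist μ).1 = charCenter θ.1 := by
  ext g
  rw [IrrCharacter.mem_charCenter, IrrCharacter.mem_charCenter, θ.twist_apply, norm_mul,
    norm_unitsHom, one_mul, θ.charDegree_twist]

/-- a twist whose kernel contains the central `p`-elements -/
theorem IrrCharacter.exists_twist (θ : IrrCharacter G) (hd : ¬ p ∣ charDegree θ.1) :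
    ∃ μ : G →* ℂˣ, ∀ z ∈ charCenter θ.1, IsPElt p z → z ∈ charKer (θ.twist μ).1 := by
  set a := (Nat.card G).factorization p
  obtain ⟨k, hk⟩ : ∃ k, p ^ a ∣ charDegree θ.1 * k + 1 := by
    have h1 : (charDegree θ.1).Coprime (p ^ a) :=
      ((hp.out.coprime_iff_not_dvd.2 hd).symm).pow_right a
    have h2 := Nat.ModEq.pow_totient h1
    have h3 := Nat.totient_pos.2 (pow_pos hp.out.pos a)
    have h4 : 0 < p ^ a := pow_pos hp.out.pos a
    refine ⟨charDegree θ.1 ^ ((p ^ a).totient - 1) * (p ^ a - 1),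
      (Nat.modEq_zero_iff_dvd).1 ?_⟩
    rw [← mul_assoc, ← pow_succ', Nat.sub_add_cancel h3]
    refine ((h2.mul_right _).add_right 1).trans ?_
    rw [one_mul, Nat.sub_add_cancel h4]
    exact Nat.modEq_zero_iff_dvd.2 dvd_rfl
  refine ⟨detHom θ.1 ^ k, fun z hz hz' => ?_⟩
  obtain ⟨l, -, hl, -⟩ := θ.isCharacter.exists_hom_of_le_charCenter
    (fun h => θ.one_ne_zero (by rw [h]; rfl)) (le_refl (charCenter θ.1))
  have h1 : z ^ p ^ a = 1 := by
    obtain ⟨Q, hQ⟩ := hz'.exists_sylow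
    rw [← Q.card_eq_multiplicity]
    exact congrArg Subtype.val (pow_card_eq_one' (x := (⟨z, hQ⟩ : (Q : Subgroup G))))
  have h2 : (l ⟨z, hz⟩ : ℂ) ^ p ^ a = 1 := by
    rw [← Units.val_pow_eq_pow_val, ← map_pow, show (⟨z, hz⟩ : charCenter θ.1) ^ p ^ a = 1 from
      Subtype.ext h1]; simp
  obtain ⟨b, hb⟩ := hk
  rw [IrrCharacter.mem_charKer, θ.twist_apply, θ.twist_apply, map_one, Units.val_one, one_mul,
    MonoidHom.pow_apply, Units.val_pow_eq_pow_val, coe_detHom,
    θ.isCharacter.detChar_of_mem_charCenter hz, hl ⟨z, hz⟩, mul_div_cancel_left₀ _ θ.one_ne_zero,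
    mul_left_comm, ← pow_mul, ← pow_succ, hb, pow_mul, h2, one_pow, mul_one]

theorem IrrCharacter.redLin_deflate (θ : IrrCharacter G) (hG : GenP p G)
    (hd : charDegree θ.1 + 2 ≤ p) (h1 : charDegree θ.1 ≠ 1)
    (h : ∀ z ∈ charCenter θ.1, IsPElt p z → z ∈ charKer θ.1) :
    RedLin p (θ.deflate (charKer θ.1) le_rfl) := by
  refine ⟨hG.of_surjective (QuotientGroup.mk'_surjective _),
    (IrrCharacter.charKer_eq_bot_iff _).1 θ.charKer_deflate_self, by simpa using hd,
    by simpa using h1, fun z hz ⟨k, hk⟩ => ?_⟩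
  obtain ⟨z, rfl⟩ := QuotientGroup.mk_surjective z
  have h2 : z ∈ charCenter θ.1 := by rw [θ.charCenter_eq_comap]; exact hz
  obtain ⟨a, m, hm, ham⟩ := Nat.exists_eq_pow_mul_and_not_dvd (orderOf_pos z).ne' p hp.out.ne_one
  have h3 := (QuotientGroup.eq_one_iff _).2 (h _ (pow_mem h2 m)
    ⟨a, by rw [← pow_mul, mul_comm, ← ham, pow_orderOf_eq_one]⟩)
  rw [QuotientGroup.mk_pow] at h3
  exact pow_eq_one_iff_of_coprime ((hp.out.coprime_iff_not_dvd.2 hm).pow_left k) |>.1 ⟨hk, h3⟩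

/-- the induction hypothesis -/
def FeitT (p n : ℕ) : Prop :=
  ∀ (H : Type u) [Group H] [Finite H], Nat.card H < n → ∀ η : IrrCharacter H, RedLin p η →
    ∀ Q : Sylow p H, Nat.card Q = p

/-- properties of nonlinear characters of small degree -/
structure SmallData (p : ℕ) (θ : IrrCharacter G) : Prop where
  nl : charDegree θ.1 ≠ 1
  le : p ≤ 2 * charDegree θ.1 + 1
  simple : ∀ y, IsPElt p y → y ∉ charCenter θ.1 → ∀ c, eigMul θ.1 y c ≤ 1
  one : 2 * charDegree θ.1 + 1 = p → ∀ y ∈ commutator G, IsPElt p y → y ∉ charCenter θ.1 →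
    eigMul θ.1 y 1 = 0
  comm : ∀ Q : Sylow p G, ∃ u ∈ (Q : Subgroup G), u ∈ commutator G ∧ u ∉ charCenter θ.1
  dvd : charDegree θ.1 ∣ Nat.card (commutator G)

theorem FeitT.smallData {n : ℕ} (hT : FeitT.{u} p n) (hn : Nat.card G < n) (hG : GenP p G)
    (θ : IrrCharacter G) (hd : charDegree θ.1 + 2 ≤ p) (h1 : charDegree θ.1 ≠ 1) :
    SmallData p θ := by
  obtain ⟨μ, hμ⟩ := θ.exists_twist (p := p) fun h => by
    have := Nat.le_of_dvd θ.charDegree_pos h; omega
  have hR := (θ.twist μ).redLin_deflate hG (by simpa using hd) (by simpa using h1)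
    (by rwa [θ.charCenter_twist])
  set N := charKer (θ.twist μ).1 with hN
  have hNc : N ≤ charCenter θ.1 := θ.charCenter_twist μ ▸ charKer_le_charCenter _
  have hP := hT _ (lt_of_le_of_lt (Nat.le_of_dvd Nat.card_pos
    (Subgroup.card_quotient_dvd_card N)) hn) _ hR
  obtain ⟨P⟩ : Nonempty (Sylow p (G ⧸ N)) := inferInstance
  have h2 : ∀ y c, eigMul θ.1 y c =
      eigMul ((θ.twist μ).deflate N le_rfl).1 (y : G ⧸ N) (μ y * c) := fun y c => by
    rw [← θ.isCharacter.eigMul_hom_mul μ]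
    refine Eq.trans ?_ (eigMul_comp _ (QuotientGroup.mk' N) y _)
    congr 1
    ext g
    exact ((θ.twist μ).deflate_apply N le_rfl g).symm
  have h3 := fun y (hy : IsPElt p y) (hy' : y ∉ charCenter θ.1) => hR.eigMul_le hP
    (hy.map (QuotientGroup.mk' N)) fun h => hy' (hNc ((QuotientGroup.eq_one_iff _).1 h))
  have h4 : Nat.card (G ⧸ N) = N.relIndex (commutator G) := by
    rw [← card_map_mk, map_commutator_eq, MonoidHom.range_eq_top.2 (QuotientGroup.mk'_surjective N),
      ← commutator_def, hR.commutator_eq_top (hP P), Subgroup.card_top]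
  refine ⟨h1, by simpa using (hR.rmul_le (hP P)).1, fun y hy hy' c => ?_, fun hd y hy hy' hy'' => ?_,
    fun Q => ?_, ?_⟩
  · rw [h2]; exact (h3 y hy hy').1 _
  · rw [h2, mem_commutator_iff_forall_unitsHom.1 hy μ, Units.val_one, mul_one]
    exact (h3 y hy' hy'').2 (by simpa using hd)
  · by_contra hQ
    push Not at hQ
    refine not_dvd_relIndex_sylow_of_normal Q (commutator G) ?_
    rw [← Subgroup.inf_relIndex_right]
    refine Dvd.dvd.trans ?_ (Subgroup.relIndex_dvd_of_le_left _ (K := N) fun u hu =>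
      hμ u (hQ u hu.1 hu.2) (isPElt_of_mem Q.isPGroup' hu.1))
    rw [← h4, ← hP P]
    exact Subgroup.card_subgroup_dvd_card _
  · refine Dvd.dvd.trans ?_ (N.relIndex_dvd_card (commutator G))
    rw [← h4]
    simpa using ((θ.twist μ).deflate N le_rfl).charDegree_dvd_card

omit hp in
theorem IsCharacter.exists_sum_hom_of_le {χ : G → ℂ} (h : IsCharacter G χ)
    (hk : commutator G ≤ charKer χ) :
    ∃ l : Fin (charDegree χ) → (G →* ℂˣ), ∀ g, χ g = ∑ i, (l i g : ℂ) := by
  obtain ⟨ψ, hψ, h1⟩ := h.exists_deflate _ hk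
  have : IsMulCommutative (G ⧸ commutator G) :=
    Subgroup.Normal.quotient_commutative_iff_commutator_le.2 le_rfl
  obtain ⟨l, hl, -⟩ := hψ.exists_sum_hom
  rw [← charDegree_congr (χ := ψ) (ψ := χ) (h1 1)]
  exact ⟨fun i => (l i).comp (QuotientGroup.mk' _), fun g => by rw [← h1, hl]; rfl⟩

/-- a faithful character of small degree has exactly one nonlinear constituent -/
theorem FeitT.exists_decomp {n : ℕ} (hT : FeitT.{u} p n) (hn : Nat.card G < n) (hG : GenP p G)
    {χ : G → ℂ} (hχ : IsCharacter G χ) (hf : ∀ g, χ g = χ 1 → g = 1) (hd : charDegree χ + 2 ≤ p)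
    {a b : G} (hab : ¬ Commute a b) : ∃ (θ : IrrCharacter G) (m : ℕ) (μ : Fin m → G →* ℂˣ),
      SmallData p θ ∧ charDegree θ.1 + m = charDegree χ ∧ ∀ g, χ g = θ.1 g + ∑ i, (μ i g : ℂ) := by
  have := Fintype.ofFinite G
  obtain ⟨θ, hθ, h1⟩ : ∃ θ : IrrCharacter G, classInner χ θ.1 ≠ 0 ∧ charDegree θ.1 ≠ 1 := by
    by_contra hc
    push Not at hc
    refine hab (commutatorElement_eq_one_iff_commute.1 (hf _ (hχ.mem_charKer.1
      (hχ.mem_charKer_iff_constituents.2 fun ψ hψ => ?_))))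
    exact ψ.charDegree_eq_one_iff_commutator_le.1 (hc ψ hψ)
      (Subgroup.commutator_mem_commutator (Subgroup.mem_top a) (Subgroup.mem_top b))
  have h2 := hχ.sub_irr θ hθ
  have h3 := θ.isCharacter.charDegree_add h2
  rw [add_sub_cancel] at h3
  have h4 := hT.smallData hn hG θ (by omega) h1
  obtain ⟨μ, hμ⟩ := h2.exists_sum_hom_of_le fun g hg => h2.mem_charKer_iff_constituents.2
    fun ψ hψ => ψ.charDegree_eq_one_iff_commutator_le.1 (by
      by_contra h5
      have h6 := h2.charDegree_le_of_constituent ψ hψ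
      have h7 := (hT.smallData hn hG ψ (by omega) h5).le
      have := h4.le
      omega) hg
  exact ⟨θ, _, μ, h4, h3.symm, fun g => by rw [← hμ]; simp⟩

/-- multiplicities of eigenvalues of `p`-elements -/
theorem RedLin.eigMul_bound {χ : IrrCharacter G} (h : RedLin p χ) (hT : FeitT.{u} p (Nat.card G))
    {y : G} (hy : IsPElt p y) (hy1 : y ≠ 1) (c : ℂ) : 2 * eigMul χ.1 y c + 1 ≤ p ∧
      (2 * eigMul χ.1 y c + 1 = p → ∀ c', c' ≠ c → eigMul χ.1 y c' ≤ 1) := by
  classical
  obtain ⟨g, hg⟩ := h.exists_not_commute hy hy1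
  have hd := h.deg
  by_cases hK : Subgroup.closure {y, g * y * g⁻¹} = ⊤
  · have h1 := χ.eigMul_add_le h.nl hK c c
    rw [χ.isClassFunction.eigMul_conj] at h1
    omega
  set K := Subgroup.closure {y, g * y * g⁻¹}
  have hy' : y ∈ K := Subgroup.subset_closure (by simp)
  have hy'' : g * y * g⁻¹ ∈ K := Subgroup.subset_closure (by simp)
  have hab : ¬ Commute (⟨_, hy'⟩ : K) ⟨_, hy''⟩ := fun h => hg (congrArg Subtype.val h)
  obtain ⟨θ, m, μ, h1, h2, h3⟩ := hT.exists_decomp (card_lt_of_ne_top hK) (genP_closure (by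
    rintro _ (rfl | rfl); exacts [hy, hy.conj g])) (χ.isCharacter.res K)
    (fun x hx => Subtype.ext (h.faith x hx)) hd hab
  rw [charDegree_res] at h2
  have h4 : (⟨y, hy'⟩ : K) ∉ charCenter θ.1 := fun hc => h1.nl (by
    have h0 : ∀ H : Subgroup K, ⟨_, hy'⟩ ∈ H → ⟨_, hy''⟩ ∈ H → H = ⊤ := fun H h1 h2 =>
      top_le_iff.1 (Subgroup.closure_closure_coe_preimage.ge.trans ((Subgroup.closure_le _).2 (by
        rintro x (hx | hx)
        exacts [(Subtype.ext hx : x = ⟨_, hy'⟩) ▸ h1, (Subtype.ext hx : x = ⟨_, hy''⟩) ▸ h2])))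
    refine θ.charCenter_eq_top_iff.1 (h0 _ hc ?_)
    rw [θ.charCenter_eq_comap] at hc ⊢
    refine Subgroup.mem_center_iff.2 fun x => ?_
    obtain ⟨x, rfl⟩ := QuotientGroup.mk'_surjective _ x
    exact Subgroup.mem_centralizer_singleton_iff.1 ((h0 ((Subgroup.centralizer {_}).comap _)
      (Subgroup.mem_centralizer_singleton_iff.2 (Subgroup.mem_center_iff.1 hc _).symm)
      (Subgroup.mem_centralizer_singleton_iff.2 rfl)).ge (Subgroup.mem_top x)))
  have h5 := fun c => θ.isCharacter.eigMul_add_sum h3 ⟨y, hy'⟩ c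
  simp only [eigMul_res] at h5
  have h6 := h1.simple ⟨y, hy'⟩ hy.of_coe h4
  have h7 := h1.le
  have h8 := Finset.card_filter_le Finset.univ fun i => (μ i ⟨y, hy'⟩ : ℂ) = c
  rw [Finset.card_univ, Fintype.card_fin] at h8
  have h9 := h5 c
  have := h6 c
  refine ⟨by omega, fun he c' hc' => ?_⟩
  rw [h5, Finset.filter_eq_empty_iff.2 fun i _ hi => hc' ?_, Finset.card_empty]
  · exact h6 c'
  have h10 := Finset.eq_univ_of_card (Finset.univ.filter fun i => (μ i ⟨y, hy'⟩ : ℂ) = c)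
    (by rw [Fintype.card_fin]; omega)
  exact hi.symm.trans (Finset.mem_filter.1 (h10.ge (Finset.mem_univ i))).2

end Cfsg
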