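import Cfsg.Agent.Lin.FeitT
import Cfsg.Agent.Lin.MainIneq

/-! Reduction of linear groups of degree at most `p - 2` to perfect groups with Sylow
`p`-subgroups of order `p`. -/

set_option autoImplicit false

namespace Cfsg

open scoped ComplexConjugate Pointwise commutatorElement

universe u v w

variable {G : Type u} [Group G] {p : ℕ} [hp : Fact p.Prime] [Finite G]

omit hp in
theorem IrrCharacter.decomp_zero (χ : IrrCharacter G) (hf : ∀ g, χ.1 g = χ.1 1 → g = 1)
    {N : Subgroup G} [N.Normal] {a b : G} (ha : a ∈ N) (hb : b ∈ N) (hab : ¬ Commute a b)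
    {θ : N → ℂ} (hθ : IsCharacter N θ) {m : ℕ} {μ : Fin m → N →* ℂˣ}
    (h : ∀ g : N, χ.1 g = θ g + ∑ i, (μ i g : ℂ)) : m = 0 := by
  have := Fintype.ofFinite (⁅N, N⁆ : Subgroup G)
  have hle : ⁅N, N⁆ ≤ N := Subgroup.commutator_le_left N N
  have h4 := χ.sum_coset_eq_zero ⁅N, N⁆ (fun hk => hab (commutatorElement_eq_one_iff_commute.1
    (hf _ (χ.mem_charKer.1 (hk (Subgroup.commutator_mem_commutator ha hb)))))) 1
  obtain ⟨k, hk⟩ := (hθ.comp (Subgroup.inclusion hle)).exists_classInner_eq_nat IsCharacter.one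
  have h0 : (Nat.card (⁅N, N⁆ : Subgroup G) : ℂ) ≠ 0 := by exact_mod_cast Nat.card_pos.ne'
  rw [classInner_def, inv_mul_eq_iff_eq_mul₀ h0] at hk
  simp only [map_one, mul_one] at hk
  rw [Finset.sum_congr rfl (g := fun n => θ (Subgroup.inclusion hle n) + m) fun n _ => ?_,
    Finset.sum_add_distrib, hk, Finset.sum_const, Finset.card_univ, ← Nat.card_eq_fintype_card,
    nsmul_eq_mul, ← mul_add] at h4
  · have h5 : k + m = 0 := by exact_mod_cast (mul_eq_zero.1 h4).resolve_left h0
    omega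
  have h5 : Subgroup.inclusion hle n ∈ commutator N := by
    obtain ⟨x, hx, h7⟩ := (Subgroup.map_subtype_commutator N).ge n.2
    rwa [show Subgroup.inclusion hle n = x from Subtype.ext h7.symm]
  rw [one_mul, show χ.1 n = _ from h (Subgroup.inclusion hle n)]
  simp [mem_commutator_iff_forall_unitsHom.1 h5]

omit hp [Finite G] in
theorem exists_not_commute_of_not_normal {P : Sylow p G} (h : ¬ (P : Subgroup G).Normal) :
    ∃ a b : G, IsPElt p a ∧ IsPElt p b ∧ ¬ Commute a b := by
  by_contra hc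
  push Not at hc
  refine h ⟨fun x hx g => ?_⟩
  have h1 := (isPElt_of_mem P.isPGroup' hx).conj g
  have h2 := h1.isPGroup.inf_normalizer_sylow P
  exact (h2.le ⟨Subgroup.mem_zpowers _, Subgroup.centralizer_le_normalizer _ fun y hy =>
    hc y _ (isPElt_of_mem P.isPGroup' hy) h1⟩).2

theorem IsCharacter.not_normal_of_not_commute {χ : G → ℂ} (hχ : IsCharacter G χ)
    (hf : ∀ g, χ g = χ 1 → g = 1) (hd : charDegree χ < p) {a b : G} (ha : IsPElt p a)
    (hb : IsPElt p b) (hab : ¬ Commute a b) (P : Sylow p G) : ¬ (P : Subgroup G).Normal :=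
  fun hP => by
    have h : ∀ a, IsPElt p a → a ∈ (P : Subgroup G) := fun a ha =>
      ((ha.isPGroup.inf_normalizer_sylow P).le ⟨Subgroup.mem_zpowers _,
        (Subgroup.normalizer_eq_top_iff.2 hP).ge (Subgroup.mem_top a)⟩).2
    exact hab (hχ.sylow_comm hf hd P.isPGroup' _ (h a ha) _ (h b hb))

theorem IrrCharacter.card_sylow_of_small (χ : IrrCharacter G) (hf : ∀ g, χ.1 g = χ.1 1 → g = 1)
    (hd : charDegree χ.1 + 2 ≤ p) (hz : ∀ z ∈ Subgroup.center G, IsPElt p z → z = 1)
    {P : Sylow p G} (hnn : ¬ (P : Subgroup G).Normal) : Nat.card P = p := by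
  obtain ⟨a, b, ha, hb, hab⟩ := exists_not_commute_of_not_normal hnn
  set L := Subgroup.closure {g : G | IsPElt p g}
  have : L.Normal := ⟨fun x hx g => (Subgroup.closure_le ((Subgroup.closure _).comap
    (MulAut.conj g).toMonoidHom)).2 (fun y hy => Subgroup.subset_closure (IsPElt.conj hy g)) hx⟩
  have ha' : a ∈ L := Subgroup.subset_closure ha
  have hb' : b ∈ L := Subgroup.subset_closure hb
  have hG : GenP p L := genP_closure fun _ h => h
  obtain ⟨θ, m, μ, h1, h2, h3⟩ := (feitT p _).exists_decomp (Nat.lt_succ_self _) hG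
    (χ.isCharacter.res L) (fun x hx => Subtype.ext (hf x hx)) hd (a := ⟨a, ha'⟩) (b := ⟨b, hb'⟩)
    fun h => hab (congrArg Subtype.val h)
  obtain rfl := χ.decomp_zero hf ha' hb' hab θ.isCharacter h3
  rw [charDegree_res, add_zero] at h2
  simp only [Finset.univ_eq_empty, Finset.sum_empty, add_zero] at h3
  have hPL : (P : Subgroup G) ≤ L := fun x hx =>
    Subgroup.subset_closure (isPElt_of_mem P.isPGroup' hx)
  refine (card_subgroupOf_of_le hPL).symm.trans (RedLin.card_sylow (χ := θ) ⟨hG, fun g hg =>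
    Subtype.ext (hf _ ((h3 g).trans (hg.trans (h3 1).symm))), by omega, h1.nl, fun z hz' hz'' =>
      Subtype.ext (hz _ ?_ (hz''.map L.subtype))⟩ (P.subtype hPL))
  refine χ.isCharacter.charCenter_le_center_of_faithful (χ.charKer_eq_bot_iff.2 hf) ?_
  rw [IrrCharacter.mem_charCenter, h3, ← h2]
  exact θ.mem_charCenter.1 (θ.center_le_charCenter hz')

/-- the reduction to perfect groups -/
theorem IrrCharacter.small_reduce (χ : IrrCharacter G) (hf : ∀ g, χ.1 g = χ.1 1 → g = 1)
    (hd : charDegree χ.1 + 2 ≤ p) {P : Sylow p G} (hnn : ¬ (P : Subgroup G).Normal) :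
    (Nonempty (G ⧸ Subgroup.center G ≃* Matrix.ProjectiveSpecialLinearGroup (Fin 2) (ZMod p)) ∧
      2 * charDegree χ.1 + 1 = p) ∨ (commutator G ⊔ Subgroup.center G = ⊤ ∧
      ∃ (Q : Sylow p (commutator G)) (ξ : IrrCharacter (commutator G)) (F : CenFrame p Q),
        (∀ g, ξ.1 g = ξ.1 1 → g = 1) ∧ charDegree ξ.1 = charDegree χ.1 ∧
        charDegree χ.1 + F.e = p ∧ 2 * F.e < p) := by
  obtain ⟨a, b, ha, hb, hab⟩ := exists_not_commute_of_not_normal hnn
  have hd0 := χ.charDegree_pos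
  obtain ⟨μ, hμ⟩ := χ.exists_twist (p := p) fun h => by have := Nat.le_of_dvd hd0 h; omega
  set N := charKer (χ.twist μ).1 with hN
  set η := (χ.twist μ).deflate N le_rfl
  have hZ : (Subgroup.center (G ⧸ N)).comap (QuotientGroup.mk' N) = Subgroup.center G := by
    rw [← (χ.twist μ).charCenter_eq_comap, χ.charCenter_twist,
      χ.charCenter_eq_center_of_faithful (χ.charKer_eq_bot_iff.2 hf)]
  have hηf := η.charKer_eq_bot_iff.1 (χ.twist μ).charKer_deflate_self
  have hηd : charDegree η.1 = charDegree χ.1 := by simp [η]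
  obtain ⟨Q⟩ : Nonempty (Sylow p (G ⧸ N)) := inferInstance
  have hab' : ¬ Commute (a : G ⧸ N) b := fun h => by
    have h1 : ⁅a, b⁆ ∈ N := (QuotientGroup.eq_one_iff _).1
      (commutatorElement_eq_one_iff_commute.2 h)
    rw [hN, IrrCharacter.mem_charKer, χ.twist_apply, χ.twist_apply, map_commutatorElement,
      commutatorElement_eq_one_iff_commute.2 (Commute.all _ _), map_one] at h1
    exact hab (commutatorElement_eq_one_iff_commute.1 (hf _ (by simpa using h1)))
  have hQn := η.isCharacter.not_normal_of_not_commute hηf (by omega) (ha.map (QuotientGroup.mk' N))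
    (hb.map (QuotientGroup.mk' N)) hab' Q
  have hQ := η.card_sylow_of_small hηf (by omega) (fun z hz ⟨k, hk⟩ => by
    obtain ⟨z, rfl⟩ := QuotientGroup.mk_surjective z
    have h2 : z ∈ charCenter χ.1 := χ.center_le_charCenter (hZ.le hz)
    obtain ⟨a, m, hm, ham⟩ := Nat.exists_eq_pow_mul_and_not_dvd (orderOf_pos z).ne' p hp.out.ne_one
    have h3 := (QuotientGroup.eq_one_iff _).2 (hμ _ (pow_mem h2 m)
      ⟨a, by rw [← pow_mul, mul_comm, ← ham, pow_orderOf_eq_one]⟩)
    rw [QuotientGroup.mk_pow] at h3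
    exact pow_eq_one_iff_of_coprime ((hp.out.coprime_iff_not_dvd.2 hm).pow_left k) |>.1 ⟨hk, h3⟩)
    hQn
  obtain ⟨F⟩ := nonempty_autFrame hQ
  rcases F.small_faithful hQn η hηf (by omega) with ⟨h1, -⟩ | ⟨h1, h2, F', rfl⟩
  · obtain ⟨e⟩ := η.isCharacter.psl2_of_small hηf (by omega) hQ hQn
    refine Or.inl ⟨⟨?_⟩, by omega⟩
    refine ((QuotientGroup.quotientMulEquivOfEq ?_).trans (QuotientGroup.quotientKerEquivOfSurjective
      ((QuotientGroup.mk' _).comp (QuotientGroup.mk' N)) ((QuotientGroup.mk'_surjective _).comp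
        (QuotientGroup.mk'_surjective N)))).trans e
    rw [← MonoidHom.comap_ker, QuotientGroup.ker_mk', hZ]
  have hG : commutator G ⊔ Subgroup.center G = ⊤ := by
    have h3 := congrArg (Subgroup.comap (QuotientGroup.mk' N)) (F'.commutator_sup_center h2 hηf h1)
    rw [← Subgroup.comap_sup_eq _ _ _ (QuotientGroup.mk'_surjective N), hZ, Subgroup.comap_top,
      commutator_def, ← MonoidHom.range_eq_top.2 (QuotientGroup.mk'_surjective N),
      ← map_commutator_eq, comap_map_mk, sup_assoc, sup_eq_right.2 (show N ≤ Subgroup.center G from hZ ▸ le_comap_mk N _)] at h3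
    exact h3
  set ξ : IrrCharacter (commutator G) := ⟨_, χ.isIrr_res_commutator hG⟩
  have hξf : ∀ g, ξ.1 g = ξ.1 1 → g = 1 := fun g hg => Subtype.ext (hf _ hg)
  have hξd : charDegree ξ.1 = charDegree χ.1 := charDegree_res _ _
  obtain ⟨S⟩ : Nonempty (Sylow p (commutator G)) := inferInstance
  obtain ⟨k, m, hm, hkm⟩ := Nat.exists_eq_pow_mul_and_not_dvd (Nat.card_pos (α := G)).ne' p
    hp.out.ne_one
  have key : ∀ a : G, IsPElt p a → ∃ x : commutator G, IsPElt p x ∧ ∀ y, Commute (x : G) y →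
      Commute a y := fun a ⟨l, hl⟩ => by
    obtain ⟨x, hx, z, hz, rfl⟩ := exists_mul_center_of_sup hG a
    refine ⟨⟨x, hx⟩ ^ m, ⟨k, Subtype.ext ?_⟩, fun y hy => ?_⟩
    · rw [← pow_mul, mul_comm, ← hkm, Subgroup.coe_pow, pow_card_eq_one', Subgroup.coe_one]
    have h3 : Commute ((x * z) ^ m) y := by
      rw [Commute.mul_pow (Subgroup.mem_center_iff.1 hz x)]
      exact hy.mul_left (Subgroup.mem_center_iff.1 (pow_mem hz m) y).symm
    obtain ⟨r, hr⟩ := exists_pow_eq_self_of_coprime (x := x * z) (n := m)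
      ((((hp.out.coprime_iff_not_dvd.2 hm).pow_left l).symm).coprime_dvd_right
        (orderOf_dvd_of_pow_eq_one hl))
    rw [← hr]
    exact h3.pow_left r
  obtain ⟨x, hx, hx'⟩ := key a ha
  obtain ⟨y, hy, hy'⟩ := key b hb
  have hSn := ξ.isCharacter.not_normal_of_not_commute hξf (by omega) hx hy (fun h => hab (hy' _
    (hx' _ (congrArg Subtype.val h)).symm).symm) S
  have hS := ξ.card_sylow_of_small hξf (by omega) (fun z hz ⟨l, hl⟩ =>
    (pow_eq_one_iff_of_coprime ((hp.out.coprime_iff_not_dvd.2 fun h => by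
      have := Nat.le_of_dvd ξ.charDegree_pos h; omega).pow_left l)).1
      ⟨hl, ξ.center_pow_charDegree (commutator_commutator_eq_top hG) hξf hz⟩) hSn
  obtain ⟨E⟩ := nonempty_autFrame hS
  rcases E.small_faithful hSn ξ hξf (by omega) with ⟨h3, -⟩ | ⟨h3, h4, E', rfl⟩
  · omega
  · exact Or.inr ⟨hG, S, ξ, E', hξf, hξd, hξd ▸ h3, h4⟩

end Cfsg
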