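import Cfsg.Agent.Lin.FeitA
import Cfsg.Agent.CT.Sixty

/-! Feit's theorem on linear groups of degree at most `p - 2`. -/

set_option autoImplicit false

namespace Cfsg

open scoped ComplexConjugate Pointwise commutatorElement

universe u v w

variable {G : Type u} [Group G] {p : ℕ} [hp : Fact p.Prime] [Finite G]

theorem eq_of_lt_of_card_sq {A C P : Subgroup G} (hA : Nat.card A = p) (hP : Nat.card P = p ^ 2)
    (h : A < C) (hC : C ≤ P) : C = P := by
  have h1 := card_lt_of_lt h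
  obtain ⟨k, hk, h2⟩ := (Nat.dvd_prime_pow hp.out).1 (hP ▸ Subgroup.card_dvd_of_le hC)
  refine Subgroup.eq_of_le_of_card_ge hC ?_
  have := hp.out.one_lt
  match k with
  | 0 => rw [pow_zero] at h2; omega
  | 1 => rw [pow_one] at h2; omega
  | 2 => omega

theorem exists_pow_re_le {w : ℂ} (h5 : w ^ 5 = 1) (h1 : w ≠ 1) :
    w.re ≤ -1 / 2 ∨ (w ^ 2).re ≤ -1 / 2 := by
  have h2 : w ^ 4 + w ^ 3 + w ^ 2 + w + 1 = 0 := by
    refine (mul_eq_zero.1 ?_).resolve_left (sub_ne_zero.2 h1)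
    linear_combination h5
  have h3 : ‖w‖ = 1 := Complex.norm_eq_one_of_pow_eq_one h5 (by norm_num)
  have h4 : w * conj w = 1 := by rw [Complex.mul_conj, Complex.normSq_eq_norm_sq, h3]; simp
  have h6 : w ^ 4 = conj w := by linear_combination (conj w) * h5 - w ^ 4 * h4
  have h7 : w ^ 3 = conj (w ^ 2) := by
    rw [map_pow, ← h6]; linear_combination (-w ^ 3) * h5
  rw [h6, h7] at h2
  have h8 := congrArg Complex.re h2
  have h9 := congrArg Complex.re h4
  have h10 : (w ^ 2).re = w.re * w.re - w.im * w.im := by rw [sq, Complex.mul_re]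
  simp only [Complex.add_re, Complex.conj_re, Complex.one_re, Complex.zero_re, Complex.mul_re,
    Complex.conj_im] at h8 h9
  by_contra h
  push Not at h
  nlinarith [mul_pos (sub_pos.2 h.1) (sub_pos.2 h.2)]

namespace RedLin

variable {χ : IrrCharacter G} (h : RedLin p χ) (hT : FeitT.{u} p (Nat.card G))
include h hT

theorem normalClosure_eq_top {y : G} (hy : IsPElt p y) (hy1 : y ≠ 1) {c : ℂ}
    (hc : 2 ≤ eigMul χ.1 y c) : Subgroup.normalClosure {y} = ⊤ := by
  classical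
  by_contra hN
  obtain ⟨g, hg⟩ := h.exists_not_commute hy hy1
  set N := Subgroup.normalClosure {y}
  have hy' : y ∈ N := Subgroup.subset_normalClosure rfl
  have hy'' : g * y * g⁻¹ ∈ N := Subgroup.Normal.conj_mem inferInstance _ hy' g
  have hab : ¬ Commute (⟨_, hy'⟩ : N) ⟨_, hy''⟩ := fun h => hg (congrArg Subtype.val h)
  have hG : GenP p N := genP_closure fun x hx => by
    obtain ⟨_, rfl, hx'⟩ := Group.mem_conjugatesOfSet_iff.1 hx
    obtain ⟨k, rfl⟩ := isConj_iff.1 hx'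
    exact hy.conj k
  obtain ⟨θ, m, μ, h1, h2, h3⟩ := hT.exists_decomp (G := N) (card_lt_of_ne_top hN) hG
    (χ.isCharacter.res N) (fun x hx => Subtype.ext (h.faith x hx)) h.deg hab
  rw [charDegree_res] at h2
  rcases m.eq_zero_or_pos with rfl | hm
  · have h4 := θ.isCharacter.eigMul_add_sum h3 ⟨y, hy'⟩ c
    have h5 := h1.simple ⟨y, hy'⟩ hy.of_coe (fun hc => h.notMem_charCenter hy hy1 (by
      rw [IrrCharacter.mem_charCenter] at hc ⊢
      rw [← h2, add_zero, ← hc, h3 ⟨y, hy'⟩]; simp)) c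
    rw [eigMul_res] at h4
    simp only [Finset.univ_eq_empty, Finset.filter_empty, Finset.card_empty] at h4
    omega
  have := Fintype.ofFinite (⁅N, N⁆ : Subgroup G)
  have hle : ⁅N, N⁆ ≤ N := Subgroup.commutator_le_left N N
  have h4 := χ.sum_coset_eq_zero ⁅N, N⁆ (fun hk => hg (commutatorElement_eq_one_iff_commute.1
    (h.faith _ (χ.mem_charKer.1 (hk (Subgroup.commutator_mem_commutator hy' hy'')))))) 1
  obtain ⟨k, hk⟩ := (θ.isCharacter.comp (Subgroup.inclusion hle)).exists_classInner_eq_nat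
    IsCharacter.one
  have h0 : (Nat.card (⁅N, N⁆ : Subgroup G) : ℂ) ≠ 0 := by exact_mod_cast Nat.card_pos.ne'
  rw [classInner_def, inv_mul_eq_iff_eq_mul₀ h0] at hk
  simp only [map_one, mul_one] at hk
  rw [Finset.sum_congr rfl (g := fun n => θ.1 (Subgroup.inclusion hle n) + m) fun n _ => ?_,
    Finset.sum_add_distrib, hk, Finset.sum_const, Finset.card_univ, ← Nat.card_eq_fintype_card,
    nsmul_eq_mul, ← mul_add] at h4
  · have h5 : k + m = 0 := by exact_mod_cast (mul_eq_zero.1 h4).resolve_left h0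
    omega
  have h5 : Subgroup.inclusion hle n ∈ commutator N := by
    obtain ⟨x, hx, h7⟩ := (Subgroup.map_subtype_commutator N).ge n.2
    rwa [show Subgroup.inclusion hle n = x from Subtype.ext h7.symm]
  rw [one_mul, show χ.1 n = _ from h3 (Subgroup.inclusion hle n)]
  simp [mem_commutator_iff_forall_unitsHom.1 h5]

/-- intersections of index `p` -/
theorem inter {P Q : Sylow p G} (hPQ : P ≠ Q) (hi : (Q : Subgroup G).relIndex P = p)
    (hP : p < Nat.card P) : Nat.card P = p ^ 2 ∧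
      ∀ y ∈ (P : Subgroup G), y ≠ 1 → ((∃ c, 2 * eigMul χ.1 y c + 1 = p) ↔ y ∈ (Q : Subgroup G)) := by
  classical
  have hd := h.deg
  set L := Subgroup.closure ((P : Set G) ∪ Q) with hL
  have hPL : (P : Subgroup G) ≤ L := fun x hx => Subgroup.subset_closure (Or.inl hx)
  have hQL : (Q : Subgroup G) ≤ L := fun x hx => Subgroup.subset_closure (Or.inr hx)
  have hcen : ∀ z ∈ (Q : Subgroup G) ⊓ P, L ≤ Subgroup.centralizer {z} := fun z hz =>
    (Subgroup.closure_le _).2 (by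
      rintro x (hx | hx)
      exacts [Subgroup.mem_centralizer_singleton_iff.2 (h.comm P.isPGroup' _ hx _ hz.2),
        Subgroup.mem_centralizer_singleton_iff.2 (h.comm Q.isPGroup' _ hx _ hz.1)])
  have hc := card_inf_mul_relIndex (Q : Subgroup G) P
  rw [hi] at hc
  obtain ⟨⟨z₀, hz₀⟩, hz₀1⟩ := Subgroup.ne_bot_iff_exists_ne_one.1
    (show (Q : Subgroup G) ⊓ P ≠ ⊥ from fun h0 => by
      rw [h0, Subgroup.card_bot, one_mul] at hc; exact hP.ne hc)
  replace hz₀1 : z₀ ≠ 1 := fun h => hz₀1 (Subtype.ext h)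
  have hLt : L ≠ ⊤ := fun h0 => hz₀1 (h.cen _ (Subgroup.mem_center_iff.2 fun g =>
    Subgroup.mem_centralizer_singleton_iff.1 (hcen _ hz₀ (h0.ge (Subgroup.mem_top g))))
    (isPElt_of_mem P.isPGroup' hz₀.2))
  obtain ⟨a, ha, b, hb, hab⟩ : ∃ a ∈ (P : Subgroup G), ∃ b ∈ (Q : Subgroup G), ¬ Commute a b := by
    by_contra hc
    push Not at hc
    refine hPQ (Sylow.ext (P.is_maximal' Q.isPGroup' ?_).symm)
    rw [← inf_eq_left, ← P.isPGroup'.inf_normalizer_sylow Q, inf_eq_left]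
    exact fun x hx => Subgroup.centralizer_le_normalizer _ fun y hy => (hc x hx y hy).symm
  have hG : GenP p L := genP_closure (by
    rintro x (hx | hx); exacts [isPElt_of_mem P.isPGroup' hx, isPElt_of_mem Q.isPGroup' hx])
  obtain ⟨θ, m, μ, h1, h2, h3⟩ := hT.exists_decomp (card_lt_of_ne_top hLt) hG (χ.isCharacter.res L)
    (fun x hx => Subtype.ext (h.faith x hx)) hd (a := ⟨a, hPL ha⟩) (b := ⟨b, hQL hb⟩)
    fun h => hab (congrArg Subtype.val h)
  rw [charDegree_res] at h2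
  set R := ((Q : Subgroup G) ⊓ P).subgroupOf L with hR
  have hRc : R ≤ charCenter θ.1 := fun z hz => θ.center_le_charCenter
    (Subgroup.mem_center_iff.2 fun g => Subtype.ext
      (Subgroup.mem_centralizer_singleton_iff.1 (hcen _ hz g.2)))
  obtain ⟨ν, hν, -⟩ := θ.isCharacter.exists_hom_of_le_charCenter
    (fun h => θ.one_ne_zero (by rw [h]; rfl)) hRc
  have h4 := fun y c => θ.isCharacter.eigMul_add_sum h3 y c
  simp only [eigMul_res] at h4
  have h5 := h1.le
  have hRz : ∀ z : R, z ≠ 1 → 2 * charDegree θ.1 + 1 = p ∧ eigMul χ.1 z (ν z) = charDegree θ.1 ∧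
      (∀ i, (μ i z : ℂ) ≠ ν z) ∧ ∀ i j, μ i z = μ j z → i = j := fun z hz => by
    obtain ⟨h6, h7⟩ := h.eigMul_bound hT (isPElt_of_mem P.isPGroup' z.2.2)
      (fun h => hz (Subtype.ext (Subtype.ext h))) (ν z)
    have h8 := h4 z (ν z)
    rw [eigMul_of_scalar θ.isCharacter (hν z)] at h8
    have h9 : ∀ i, (μ i z : ℂ) ≠ ν z := fun i hi => by
      have := Finset.card_pos.2 ⟨i, (Finset.mem_filter (p := fun i => (μ i z : ℂ) = ν z)).2
        ⟨Finset.mem_univ i, hi⟩⟩
      erw [h8] at h6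
      omega
    rw [Finset.filter_eq_empty_iff.2 fun i _ => h9 i, Finset.card_empty, add_zero] at h8
    erw [h8] at h6 h7
    refine ⟨by omega, h8, h9, fun i j hij => ?_⟩
    have h10 := h7 (by omega) _ (h9 i)
    erw [h4] at h10
    exact Finset.card_le_one.1 (le_trans (Nat.le_add_left _ _) h10) i (by simp) j (by simp [hij])
  set z₁ : R := ⟨⟨z₀, hPL hz₀.2⟩, hz₀⟩
  have hz₁ : z₁ ≠ 1 := fun h => hz₀1 (congrArg (fun x : R => ((x : L) : G)) h)
  have hdθ := (hRz z₁ hz₁).1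
  have hm : 0 < m := Nat.pos_of_ne_zero fun h0 => by
    subst h0
    refine h.notMem_charCenter (isPElt_of_mem P.isPGroup' hz₀.2) hz₀1 ?_
    have h6 := θ.mem_charCenter.1 (hRc z₁.2)
    rw [IrrCharacter.mem_charCenter, ← h2, add_zero, ← h6, show χ.1 z₀ = _ from h3 z₁]
    simp
  have hexp : ∀ (l : L →* ℂˣ) (x : L), (x : G) ∈ (P : Subgroup G) → l x ^ p = 1 := fun l x hx => by
    rw [← map_pow, show x ^ p = 1 from Subtype.ext (h.pow_eq_one (isPElt_of_mem P.isPGroup' hx)),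
      map_one]
  have hexp' : ∀ z : R, ν z ^ p = 1 := fun z => by
    rw [← map_pow, show z ^ p = 1 from Subtype.ext (Subtype.ext
      (h.pow_eq_one (isPElt_of_mem P.isPGroup' z.2.2))), map_one]
  have hRp : Nat.card R = p := by
    have h6 := orderOf_unitsHom_eq_index_ker ((μ ⟨0, hm⟩).comp R.subtype * ν⁻¹)
    rw [(Subgroup.eq_bot_iff_forall ((μ ⟨0, hm⟩).comp R.subtype * ν⁻¹).ker).2 fun z hz => by_contra fun hz1 =>
      (hRz z hz1).2.2.1 ⟨0, hm⟩ (congrArg Units.val (mul_inv_eq_one.1 hz)),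
      Subgroup.index_bot] at h6
    have : Nontrivial R := ⟨⟨_, _, hz₁⟩⟩
    refine ((Nat.dvd_prime hp.out).1 ?_).resolve_left Finite.one_lt_card.ne'
    rw [← h6]
    exact orderOf_dvd_of_pow_eq_one (MonoidHom.ext fun z => by
      simp [mul_pow, hexp _ _ z.2.2, hexp'])
  have hP2 : Nat.card P = p ^ 2 := by
    rw [card_subgroupOf_of_le (inf_le_right.trans hPL)] at hRp
    rw [sq]; exact hc.symm.trans (by rw [hRp])
  have hP2' : Nat.card (P.subtype hPL : Subgroup L) = p ^ 2 := (card_subgroupOf_of_le hPL).trans hP2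
  refine ⟨hP2, fun y hy hy1 => ⟨fun ⟨c, hyc⟩ => by_contra fun hyQ => ?_, fun hyQ =>
    ⟨_, by
      erw [(hRz ⟨⟨y, hPL hy⟩, hyQ, hy⟩ fun h => hy1 (congrArg (fun x : R => ((x : L) : G)) h)).2.1]
      exact hdθ⟩⟩⟩
  have h6 : (⟨y, hPL hy⟩ : L) ∉ charCenter θ.1 := fun h0 => h1.nl (θ.charCenter_eq_top_iff.1
    (hG.eq_top_of_sylow_le (P.subtype hPL) ((eq_of_lt_of_card_sq hRp hP2' (C := charCenter θ.1 ⊓ _)
      (lt_of_le_of_ne (le_inf hRc fun z hz => hz.2) fun h => hyQ (h.ge ⟨h0, hy⟩).1)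
      inf_le_right).ge.trans inf_le_left)))
  have h7 := h1.simple _ (isPElt_of_mem P.isPGroup' hy).of_coe h6 c
  have h8 : eigMul χ.1 y c = _ := h4 ⟨y, hPL hy⟩ c
  have h9 := Finset.card_filter_le Finset.univ fun i => (μ i ⟨y, hPL hy⟩ : ℂ) = c
  rw [Finset.card_univ, Fintype.card_fin] at h9
  have h10 := Finset.eq_univ_of_card (Finset.univ.filter fun i => (μ i ⟨y, hPL hy⟩ : ℂ) = c)
    (by rw [Fintype.card_fin]; omega)
  replace h10 : ∀ i, (μ i ⟨y, hPL hy⟩ : ℂ) = c := fun i =>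
    (Finset.mem_filter.1 (h10.ge (Finset.mem_univ i))).2
  by_cases hm1 : 1 < m
  · obtain ⟨u, hu, hu', hu''⟩ := h1.comm (P.subtype hPL)
    have hu1 : u ≠ 1 := fun h => hu'' (h ▸ one_mem _)
    have huo : orderOf u = p := orderOf_eq_prime
      (Subtype.ext (h.pow_eq_one (isPElt_of_mem P.isPGroup' hu))) hu1
    have h11 := mem_commutator_iff_forall_unitsHom.1 hu'
    have h12 : (⟨y, hPL hy⟩ : L) ∈ Subgroup.zpowers u := by_contra fun h0 => by
      have h13 := eq_of_lt_of_card_sq (by rw [Nat.card_zpowers, huo]) hP2'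
        (C := (μ ⟨0, hm⟩ * (μ ⟨1, hm1⟩)⁻¹).ker ⊓ _) (lt_of_le_of_ne (Subgroup.zpowers_le.2
          ⟨by simp [h11], hu⟩) fun h => h0 (h.ge ⟨by simp [mul_inv_eq_one, Units.ext_iff, h10], hy⟩))
          inf_le_right
      have h14 := (hRz z₁ hz₁).2.2.2 _ _ (mul_inv_eq_one.1 (h13.ge z₁.2.2).1)
      simp at h14
    have h13 := Subgroup.zpowers_le.2 hu' h12
    have h14 := h1.one hdθ _ h13 (isPElt_of_mem P.isPGroup' hy).of_coe h6
    obtain rfl : c = 1 := by
      rw [← h10 ⟨0, hm⟩, mem_commutator_iff_forall_unitsHom.1 h13, Units.val_one]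
    omega
  obtain rfl : m = 1 := by omega
  have hθ2 : charDegree θ.1 = 2 := by have := h1.nl; have := θ.charDegree_pos; omega
  obtain rfl : p = 5 := by omega
  have : Fact (Nat.Prime 2) := ⟨Nat.prime_two⟩
  obtain ⟨t, ht, ht2⟩ := exists_orderOf_eq_prime_of_dvd_card (hθ2 ▸ h1.dvd)
  have ht3 : t ^ 2 = 1 := ht2 ▸ pow_orderOf_eq_one t
  have h11 := mem_commutator_iff_forall_unitsHom.1 ht
  have h12 : ∀ x, θ.1 (t * x) = -θ.1 x := by
    obtain ⟨a, ha, h12, h13⟩ := θ.isCharacter.exists_int_of_sq_eq_one ht3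
    rw [← coe_detHom, h11] at h13
    rw [hθ2] at ha h12
    have h14 : θ.1 t = θ.1 1 * -1 := by
      rw [θ.one_eq_charDegree, hθ2, h12]
      interval_cases a
      · refine absurd (Subtype.ext (h.faith t ?_)) (fun h0 : t = 1 => by simp [h0] at ht2)
        rw [h3 t, show χ.1 1 = _ from h3 1, h12, θ.one_eq_charDegree, hθ2]
        simp [h11]
      · norm_num at h13
      · norm_num
    intro x
    rw [θ.isCharacter.apply_mul_of_mem_charCenter
      (θ.isCharacter.mem_charCenter_of_eq_mul (by simp) h14), h14,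
      mul_div_cancel_left₀ _ θ.one_ne_zero, neg_one_mul]
  obtain ⟨z, hz, hz'⟩ : ∃ z : R, z ≠ 1 ∧ (ν z * (μ 0 z : ℂ)⁻¹).re ≤ -1 / 2 := by
    rcases exists_pow_re_le (w := ν z₁ * (μ 0 z₁ : ℂ)⁻¹) (by
      rw [mul_pow, inv_pow, ← Units.val_pow_eq_pow_val, ← Units.val_pow_eq_pow_val, hexp',
        hexp _ _ z₁.2.2]; simp) (fun h0 => (hRz z₁ hz₁).2.2.1 0
      ((mul_inv_eq_one₀ (Units.ne_zero _)).1 h0).symm) with h13 | h13
    · exact ⟨z₁, hz₁, h13⟩
    · refine ⟨z₁ ^ 2, fun h0 => ?_, by simpa [mul_pow] using h13⟩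
      have h14 := orderOf_dvd_of_pow_eq_one h0
      rw [orderOf_eq_prime (p := 5) (hRp ▸ pow_card_eq_one') hz₁] at h14
      omega
  have hz1 : ((z : L) : G) ≠ 1 := fun h => hz (Subtype.ext (Subtype.ext h))
  have hzP := isPElt_of_mem P.isPGroup' z.2.2
  have hzt : Commute ((z : L) : G) t :=
    (Subgroup.mem_centralizer_singleton_iff.1 (hcen _ z.2 t.2)).symm
  have h13 : ∀ k : ℕ, χ.1 (((z * t : L) : G) ^ k) = ∑ i, ![(μ 0 z : ℂ), -ν z, -ν z] i ^ k := by
    intro k
    have h14 : θ.1 ((z * t) ^ k) = 2 * (-ν z) ^ k := by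
      induction k with
      | zero => simp [θ.one_eq_charDegree, hθ2]
      | succ k ih => rw [pow_succ', mul_assoc, hν, h12, ih]; ring
    rw [← Subgroup.coe_pow, h3, h14]
    simp [Fin.sum_univ_succ, h11]
    ring
  have h14 := χ.eq_of_sixty (x := (z * t : L)) (top_le_iff.1 ((h.normalClosure_eq_top hT hzP hz1
    (c := ν z) (by erw [(hRz z hz).2.1, hθ2])).ge.trans (Subgroup.normalClosure_le_normal (by
      rintro _ rfl
      have h14 : ((z * t : L) : G) ^ 6 = (z : L) := by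
        rw [Subgroup.coe_mul, hzt.mul_pow, pow_succ, show ((z : L) : G) ^ 5 = 1 from h.pow_eq_one hzP,
          show 6 = 2 * 3 from rfl, pow_mul, ← Subgroup.coe_pow, ht3]
        simp
      have h15 := pow_mem (Subgroup.subset_normalClosure (s := {((z * t : L) : G)}) rfl) 6
      rwa [h14] at h15)))) (fun i =>
      χ.isCharacter.pow_eq_one_of_eigMul (by
        rw [eigMul_eq h13]; exact Finset.card_ne_zero.2 ⟨i, by simp⟩)) h13 0 (fun i => by
      fin_cases i
      · simp; norm_num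
      · simp only [Fin.mk_one, Matrix.cons_val_one, Matrix.cons_val_zero, neg_mul, Complex.neg_re]
        linarith
      · simp only [Fin.reduceFinMk, Matrix.cons_val, neg_mul, Complex.neg_re]
        linarith) 1
  have h15 := congrArg (· ^ 5) h14
  simp only [Matrix.cons_val_one, Matrix.cons_val_zero, neg_pow (ν z : ℂ), ← Units.val_pow_eq_pow_val,
    hexp', hexp _ _ z.2.2] at h15
  norm_num at h15

theorem card_sylow_aux (P : Sylow p G) : Nat.card P = p := by
  obtain ⟨a, ha⟩ := IsPGroup.iff_card.1 P.isPGroup'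
  by_contra hne
  have hP : p < Nat.card P := lt_of_le_of_ne (Nat.le_of_dvd Nat.card_pos
    (dvd_card_of_isPGroup_of_ne_bot P.isPGroup' (h.sylow_ne_bot P))) (Ne.symm hne)
  have : IsMulCommutative (P : Subgroup G) :=
    ⟨⟨fun a b => Subtype.ext (h.comm P.isPGroup' _ a.2 _ b.2)⟩⟩
  have key : ∀ A ≤ (P : Subgroup G), A ≠ ⊥ → ¬ ∀ g : G, g ∉ Subgroup.normalizer (A : Set G) →
      p ^ 2 ∣ (MulAut.conj g • Subgroup.normalizer (A : Set G)).relIndex P := fun A hA hA1 hi => by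
    obtain ⟨⟨y, hy⟩, hy1⟩ := Subgroup.ne_bot_iff_exists_ne_one.1 hA1
    obtain ⟨g, hg⟩ := h.exists_not_commute (isPElt_of_mem P.isPGroup' (hA hy))
      fun h => hy1 (Subtype.ext h)
    exact hg (χ.isCharacter.commute_of_eigMul h.faith hp.out h.deg
      (fun u hu => h.pow_eq_one (isPElt_of_mem P.isPGroup' hu)) hP
      (fun y hy hy1 c => (h.eigMul_bound hT (isPElt_of_mem P.isPGroup' hy) hy1 c).1)
      (fun a ha b hb => h.comm P.isPGroup' _ (hA ha) _ (hA hb))
      (fun x hx => Subgroup.centralizer_le_normalizer _ fun b hb =>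
        h.comm P.isPGroup' _ (hA hb) _ hx) hi g hy hy).symm
  have hne1 : ∀ Q S : Sylow p G, Q ≠ S → (S : Subgroup G).relIndex Q ≠ 1 := fun Q S hQS h1 =>
    hQS (Sylow.ext (Q.is_maximal' S.isPGroup' (Subgroup.relIndex_eq_one.1 h1)).symm)
  by_cases hQ : ∃ Q : Sylow p G, P ≠ Q ∧ (Q : Subgroup G).relIndex P = p
  · obtain ⟨Q, hPQ, hi⟩ := hQ
    obtain ⟨h1, h2⟩ := h.inter hT hPQ hi hP
    refine key (Q ⊓ P) inf_le_right (fun h0 => ?_) fun g hg => ?_
    · have hc := card_inf_mul_relIndex (Q : Subgroup G) P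
      rw [h0, hi, Subgroup.card_bot, one_mul] at hc
      exact hP.ne hc
    rw [← Subgroup.inf_relIndex_right, (Subgroup.eq_bot_iff_forall (_ ⊓ _)).2 fun y hy => ?_,
      Subgroup.relIndex_bot_left]
    · exact h1.ge.eq_or_lt.elim (fun h => h.dvd) fun h => absurd h1 h.ne'
    by_contra hy1
    rw [← normalizer_conj_smul] at hy
    set R := MulAut.conj g • ((Q : Subgroup G) ⊓ P) with hR
    have hRh : ∀ x ∈ R, x ≠ 1 → ∃ c, 2 * eigMul χ.1 x c + 1 = p := fun x hx hx1 => by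
      have h3 := mem_conj_smul_iff.1 hx
      obtain ⟨c, hc⟩ := (h2 _ h3.2 fun h0 => hx1 (by simpa [mul_eq_one_iff_eq_inv] using h0)).2 h3.1
      have h4 := χ.isClassFunction.eigMul_conj g⁻¹ x c
      rw [inv_inv] at h4
      exact ⟨c, h4 ▸ hc⟩
    obtain ⟨S, hS⟩ := (IsPGroup.to_sup_of_normal_left' (isPGroup_conj_smul
      (P.isPGroup'.to_le inf_le_right) g) (isPElt_of_mem P.isPGroup' hy.2).isPGroup
      (Subgroup.zpowers_le.2 hy.1)).exists_le_sylow
    have hyS : y ∈ (S : Subgroup G) := hS (Subgroup.mem_sup_right (Subgroup.mem_zpowers y))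
    have hRS : R ≤ S := le_sup_left.trans hS
    have hRP : R ≤ P := by
      by_cases hSP : S = P
      · exact hSP ▸ hRS
      have h3 : Nat.card S = p ^ 2 := (Nat.card_congr (S.equiv P).toEquiv).trans h1
      obtain ⟨k, hk, h4⟩ := (Nat.dvd_prime_pow hp.out).1
        (h3 ▸ (P : Subgroup G).relIndex_dvd_card S)
      have h5 : (P : Subgroup G).relIndex S = p := by
        interval_cases k
        · exact absurd h4 (hne1 S P hSP)
        · exact h4.trans (pow_one p)
        · have hc := card_inf_mul_relIndex (P : Subgroup G) S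
          rw [h4, h3] at hc
          exact absurd ((Subgroup.eq_bot_of_card_eq ((P : Subgroup G) ⊓ S)
            (Nat.eq_of_mul_eq_mul_right (pow_pos hp.out.pos 2) (by rw [hc, one_mul]))).le
              ⟨hy.2, hyS⟩) hy1
      intro x hx
      by_cases hx1 : x = 1
      · exact hx1 ▸ one_mem _
      exact ((h.inter hT hSP h5 (by
        rw [h3, ← h1]; exact hP)).2 x (hRS hx) hx1).1 (hRh x hx hx1)
    refine hg (conj_smul_eq_iff_mem_normalizer.1 (Subgroup.eq_of_le_of_card_ge (fun x hx => ?_)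
      (card_conj_smul _ g).ge))
    by_cases hx1 : x = 1
    · exact hx1 ▸ one_mem _
    exact ⟨(h2 x (hRP hx) hx1).1 (hRh x hx hx1), hRP hx⟩
  push Not at hQ
  refine key P le_rfl (h.sylow_ne_bot P) fun g hg => ?_
  have h1 : P ≠ g • P := fun h0 => hg (Sylow.smul_eq_iff_mem_normalizer.1 h0.symm)
  rw [← normalizer_conj_smul, ← Sylow.coe_subgroup_smul, ← Subgroup.inf_relIndex_right, inf_comm,
    show (P : Subgroup G) ⊓ Subgroup.normalizer (((g • P : Sylow p G) : Subgroup G) : Set G) = _ from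
      P.isPGroup'.inf_normalizer_sylow (g • P), inf_comm, Subgroup.inf_relIndex_right]
  obtain ⟨k, hk, h2⟩ := (Nat.dvd_prime_pow hp.out).1
    (ha ▸ ((g • P : Sylow p G) : Subgroup G).relIndex_dvd_card P)
  rw [h2]
  match k with
  | 0 => exact absurd h2 (hne1 _ _ h1)
  | 1 => exact absurd (h2.trans (pow_one p)) (hQ _ h1)
  | k + 2 => exact pow_dvd_pow p (by omega)

end RedLin

theorem feitT (p : ℕ) [Fact p.Prime] (n : ℕ) : FeitT.{u} p n := by
  induction n with
  | zero => intro H _ _ h; omega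
  | succ n ih =>
    intro H _ _ hn η hη Q
    rcases (Nat.lt_succ_iff.1 hn).eq_or_lt with rfl | h
    · exact hη.card_sylow_aux ih Q
    · exact ih H h η hη Q

/-- **Feit's theorem** -/
theorem RedLin.card_sylow {χ : IrrCharacter G} (h : RedLin p χ) (P : Sylow p G) :
    Nat.card P = p := feitT p _ G (Nat.lt_succ_self _) χ h P

end Cfsg
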