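import Cfsg.Agent.Lin.Three
import Cfsg.Agent.CT.Vanish

/-! Simple groups whose principal `7`-block has degrees `1, 6, 15, 10, 10`: the order. -/

set_option autoImplicit false

namespace Cfsg

open scoped ComplexConjugate Pointwise

universe u v w

variable {G : Type u} [Group G]

/-- the principal block when the automizer has order `p - 1` -/
theorem PrinOne.exists_full [Fintype G] {p : ℕ} [hp : Fact p.Prime] {P : Sylow p G}
    (O : PrinOne p (P : Subgroup G)) (H : SCP p P) (h : autIdx (P : Subgroup G) + 1 = p) :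
    ∃ (B : Finset (IrrCharacter G)) (ε : IrrCharacter G → ℤ), B.card = p ∧
      (∀ χ ∈ B, ε χ = 1 ∨ ε χ = -1) ∧ (∀ χ ∈ B, ∀ g, p ∣ orderOf g → χ.1 g = ε χ) ∧
      ∀ χ, χ ∉ B → ∀ g, p ∣ orderOf g → χ.1 g = 0 := by
  classical
  have h1 : O.Y.card = 1 := by
    have h2 := O.card_Y_mul
    have h3 := O.autIdx_pos
    exact (Nat.mul_eq_right h3.ne').1 (by omega)
  obtain ⟨ψ, hψ⟩ := Finset.card_eq_one.1 h1
  have h2 : ψ ∉ O.X := O.notMem ψ (by simp [hψ])
  refine ⟨insert ψ O.X, fun χ => if χ ∈ O.X then O.δ χ else O.δ₀, ?_, fun χ hχ => ?_,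
    fun χ hχ g hg => ?_, fun χ hχ => O.other H.cen χ (fun h3 => hχ (by simp [h3])) fun h3 =>
      hχ (by simp [Finset.mem_singleton.1 (hψ ▸ h3)])⟩
  · rw [Finset.card_insert_of_notMem h2, O.card_X, h]
  · dsimp only
    split_ifs with h3
    exacts [O.δ_sign χ h3, O.δ₀_sign]
  · dsimp only
    split_ifs with h3
    · exact O.X_sing χ h3 g hg
    · rw [(Finset.mem_insert.1 hχ).resolve_right h3, ← O.Y_sing g hg, hψ, Finset.sum_singleton]

theorem card_frob_eq [Finite G] (a b u : G) :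
    (Nat.card {q : G × G // IsConj a q.1 ∧ IsConj b q.2 ∧ q.1 * q.2 = u} : ℂ) *
      (Nat.card (Subgroup.centralizer ({a} : Set G)) *
        Nat.card (Subgroup.centralizer ({b} : Set G))) = Nat.card G *
      ∑ χ : IrrCharacter G, χ.1 a * χ.1 b * conj (χ.1 u) / χ.1 1 := by
  rw [card_isConj_mul_isConj_eq]
  have h1 := congrArg (Nat.cast : ℕ → ℂ) (Subgroup.centralizer ({a} : Set G)).card_mul_index
  have h2 := congrArg (Nat.cast : ℕ → ℂ) (Subgroup.centralizer ({b} : Set G)).card_mul_index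
  have h0 : (Nat.card G : ℂ) ≠ 0 := by exact_mod_cast Nat.card_pos.ne'
  push_cast at h1 h2
  generalize ∑ χ : IrrCharacter G, χ.1 a * χ.1 b * conj (χ.1 u) / χ.1 1 = B
  rw [div_mul_eq_mul_div, div_mul_eq_mul_div, div_eq_iff h0]
  linear_combination B * (Nat.card (Subgroup.centralizer ({b} : Set G)) *
    (Subgroup.centralizer ({b} : Set G)).index) * h1 + B * Nat.card G * h2

theorem sum_norm_sq_le_card_centralizer [Finite G] (T : Finset (IrrCharacter G)) (g : G) :
    ∑ χ ∈ T, ‖χ.1 g‖ ^ 2 ≤ (Nat.card (Subgroup.centralizer ({g} : Set G)) : ℝ) := by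
  rw [← sum_irr_norm_sq_eq_card_centralizer]
  exact Finset.sum_le_sum_of_subset_of_nonneg (Finset.subset_univ T) fun _ _ _ => by positivity

theorem SCP.sum_coset [Finite G] {p : ℕ} [hp : Fact p.Prime] {P : Sylow p G} (H : SCP p P)
    [Fintype (P : Subgroup G)] {χ : G → ℂ} (hχ : IsClassFunction G χ) {n : G} (hn : n ∈ sylN P)
    (hnP : n ∉ (P : Subgroup G)) : ∑ v : (P : Subgroup G), χ (n * v) = p * χ n := by
  rw [Finset.sum_congr rfl (g := fun _ => χ n) fun v _ => by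
    rw [hχ.mul_comm, ← hχ.eq_of_isConj (H.isConj_mul hn hnP v.2)], Finset.sum_const,
    Finset.card_univ, ← Nat.card_eq_fintype_card, H.card, nsmul_eq_mul]

theorem SCP.exists_eig_fix [Finite G] {p : ℕ} [hp : Fact p.Prime] {P : Sylow p G} (H : SCP p P)
    {χ : G → ℂ} (hχ : IsCharacter G χ) {n : G} (hn : n ∈ sylN P) {m : ℕ}
    (hm : fixDim (P : Subgroup G) χ = m) : ∃ ε : Fin m → ℂ, (∀ i, ε i ^ orderOf n = 1) ∧
      ∀ k : ℕ, n ^ k ∉ (P : Subgroup G) → χ (n ^ k) = ∑ i, ε i ^ k := by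
  have := Fintype.ofFinite (P : Subgroup G)
  have h0 : (p : ℂ) ≠ 0 := by exact_mod_cast hp.out.ne_zero
  have h1 := (hχ.isCharacter_fix P).exists_eigenvalues ⟨n, hn⟩
  rw [charDegree_eq_of_one_eq (n := m) (by
    simp only [Subgroup.coe_one, one_mul]
    rw [← hχ.card_mul_fixDim, hm, H.card, inv_mul_cancel_left₀ h0])] at h1
  obtain ⟨ε, h2, h3, -, -⟩ := h1
  rw [Subgroup.orderOf_mk] at h2
  refine ⟨ε, h2, fun k hk => ?_⟩
  rw [← h3 k, Subgroup.coe_pow, H.sum_coset hχ.isClassFunction (pow_mem hn k) hk, H.card,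
    inv_mul_cancel_left₀ h0]

theorem SCP.frame_pow [Finite G] {p : ℕ} [hp : Fact p.Prime] {P : Sylow p G} (H : SCP p P)
    (F : AutFrame p (P : Subgroup G)) (he : F.e ≠ 1) :
    F.h ^ F.e = 1 ∧ ∀ i, ¬ F.e ∣ i → F.h ^ i ∉ (P : Subgroup G) := by
  have h1 : ∀ i, ¬ F.e ∣ i → F.h ^ i ∉ (P : Subgroup G) := fun i hi h =>
    hi (F.pow_mem_centralizer_iff.1 (H.cen_eq.symm ▸ h))
  refine ⟨H.eq_one_of_mem_of_not_dvd (H.cen (F.pow_mem_centralizer_iff.2 dvd_rfl)) fun h => ?_, h1⟩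
  exact H.not_dvd_of_notMem F.h_mem (pow_one F.h ▸ h1 1 (by simpa using he))
    (h.trans (orderOf_pow_dvd _))

theorem IsCharacter.exists_int_of_invol [Finite G] (hperf : commutator G = ⊤) {χ : G → ℂ}
    (hχ : IsCharacter G χ) {y : G} (hy : y * y = 1) :
    ∃ m : ℕ, 2 * m ≤ charDegree χ ∧ χ y = ((charDegree χ - 4 * m : ℤ) : ℂ) := by
  obtain ⟨a, h1, h2, h3⟩ := hχ.exists_int_of_sq_eq_one (g := y) (by rw [sq, hy])
  rw [detChar_eq_one_of_perfect hperf] at h3
  obtain ⟨m, rfl⟩ : Even a := by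
    by_contra h
    rw [(Nat.not_even_iff_odd.1 h).neg_one_pow] at h3
    norm_num at h3
  exact ⟨m, by omega, by rw [h2]; push_cast; ring⟩

/-- the configuration of the alternating group of degree seven -/
structure Sev [Fintype G] (P : Sylow 7 G) (O : PrinOne 7 (P : Subgroup G))
    (α β ψ : IrrCharacter G) : Prop where
  simple : IsSimpleGroup G
  perf : commutator G = ⊤
  scp : SCP 7 P
  aut : autIdx (P : Subgroup G) = 3
  tri : O.Tri α β ψ
  dα : charDegree α.1 = 15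
  dβ : charDegree β.1 = 6
  dψ : charDegree ψ.1 = 10
  δα : O.δ α = 1
  δβ : O.δ β = -1
  δ₀ : O.δ₀ = -1
  ge : ∀ (g : G) (a : ℤ), α.1 g = a → -1 ≤ a
  three : ¬ 27 ∣ Nat.card G

namespace Sev

variable [Fintype G] [h7 : Fact (Nat.Prime 7)] {P : Sylow 7 G} {O : PrinOne 7 (P : Subgroup G)}
  {α β ψ : IrrCharacter G} (A : Sev P O α β ψ)
include A

theorem int {χ : IrrCharacter G} (hχ : χ ∈ O.X) (g : G) : ∃ n : ℤ, χ.1 g = n :=
  O.X_int A.scp hχ (fun ξ hξ h => by
    have h1 := A.dα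
    have h2 := A.dβ
    have h3 := A.dψ
    rcases hξ with hξ | hξ
    · rcases A.tri.cases χ hχ with rfl | rfl | rfl <;>
        rcases A.tri.cases ξ hξ with rfl | rfl | rfl <;> simp_all
    · rw [O.Y_deg_eq hξ A.tri.hψ] at h
      rcases A.tri.cases χ hχ with rfl | rfl | rfl <;> simp_all) g

omit h7 in
theorem faith {χ : IrrCharacter G} (h : charDegree χ.1 ≠ 1) (g : G) (hg : χ.1 g = χ.1 1) :
    g = 1 :=
  have := A.simple
  χ.charKer_eq_bot_iff.1 (χ.charKer_eq_bot_of_isSimpleGroup fun h1 =>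
    h (h1 ▸ IrrCharacter.charDegree_triv)) g hg

omit h7 in
theorem β_one : β.1 1 = 6 := by rw [β.one_eq_charDegree, A.dβ]; rfl

omit h7 in
theorem β_bound {g : G} (hg : g ≠ 1) {b : ℤ} (h : β.1 g = b) : -6 < b ∧ b < 6 := by
  have := A.simple
  have h1 := β.isCharacter.norm_le g
  have h2 : ‖β.1 g‖ ≠ charDegree β.1 := fun h3 =>
    hg (β.eq_one_of_norm_eq (β.charCenter_eq_bot_of_simple (by rw [A.dβ]; norm_num)) h3)
  have h3 := lt_of_le_of_ne h1 h2
  rw [h, A.dβ, Complex.norm_intCast, ← Int.cast_abs] at h3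
  exact abs_lt.1 (Int.cast_lt.1 (h3.trans_eq (by norm_num)))

omit h7 in
theorem reg {g : G} (hg : ¬ 7 ∣ orderOf g) : ψ.1 g = 1 + α.1 g - β.1 g := by
  have := A.tri.reg hg
  rw [A.δα, A.δβ, A.δ₀] at this
  push_cast at this
  linear_combination -this

theorem three_val {g : G} (hg : ∃ k, orderOf g = 3 ^ k) (hg1 : g ≠ 1) :
    β.1 g = 0 ∨ β.1 g = 3 := by
  obtain ⟨k, hk⟩ := hg
  have h1 : ¬ 7 ∣ orderOf g := fun h => by
    have := Nat.Prime.dvd_of_dvd_pow h7.out (hk ▸ h)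
    norm_num at this
  obtain ⟨a, ha⟩ := A.int A.tri.ha g
  obtain ⟨b, hb⟩ := A.int A.tri.hb g
  obtain ⟨u, hu, hu1⟩ := exists_ne_one_of_card_prime A.scp.card
  have h2 := A.tri.card_frob A.scp h1 h1 (A.scp.dvd_of_mem hu hu1)
  rw [A.reg h1, ha, hb, A.dα, A.dβ, A.dψ, A.δα, A.δβ, A.δ₀] at h2
  have h3 : (30 * (Nat.card {q : G × G // IsConj g q.1 ∧ IsConj g q.2 ∧ q.1 * q.2 = u} *
      (Nat.card (Subgroup.centralizer ({g} : Set G)) *
        Nat.card (Subgroup.centralizer ({g} : Set G)))) : ℤ) =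
      Nat.card G * (30 + 2 * a ^ 2 - 5 * b ^ 2 - 3 * (1 + a - b) ^ 2) := by
    apply Int.cast_injective (α := ℂ)
    push_cast at h2 ⊢
    linear_combination 30 * h2
  have h4 : 0 ≤ 30 + 2 * a ^ 2 - 5 * b ^ 2 - 3 * (1 + a - b) ^ 2 :=
    (mul_nonneg_iff_of_pos_left (c := (Nat.card G : ℤ)) (by exact_mod_cast Nat.card_pos)).1
      (le_of_le_of_eq (by positivity) h3)
  have h5 := A.ge g a ha
  have h6 := β.isCharacter.modEq_charDegree_of_pElement Nat.prime_three (k := k)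
    (by rw [← hk, pow_orderOf_eq_one]) hb
  obtain ⟨h8, h9⟩ := A.β_bound hg1 hb
  rw [A.dβ] at h6
  unfold Int.ModEq at h6
  obtain rfl | rfl | rfl : b = -3 ∨ b = 0 ∨ b = 3 := by omega
  · nlinarith
  · exact Or.inl (by rw [hb]; simp)
  · exact Or.inr (by rw [hb]; simp)

theorem card_sylow_le {q : ℕ} [Fact q.Prime] (Q : Sylow q G) :
    Nat.card Q ≤ q ^ ∑ i ∈ Finset.range (6 + 1), 6 / ((q - 1) * q ^ i) :=
  β.isCharacter.card_sylow_le_of_int (A.faith (by rw [A.dβ]; norm_num)) Q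
    (fun g _ => A.int A.tri.hb g) A.dβ

theorem card_five [Fact (Nat.Prime 5)] (Q : Sylow 5 G) : Nat.card Q = 5 :=
  le_antisymm ((A.card_sylow_le Q).trans_eq (by decide)) (Nat.le_of_dvd Nat.card_pos
    (Q.dvd_card_of_dvd_card ((show 5 ∣ charDegree α.1 by rw [A.dα]; norm_num).trans
      α.charDegree_dvd_card)))

theorem card_cases : Nat.card G = 2520 ∨ Nat.card G = 20160 ∨ Nat.card G = 161280 := by
  have : Fact (Nat.Prime 5) := ⟨by norm_num⟩
  have h1 := eq_of_primes_le_seven (n := Nat.card G) Nat.card_pos.ne' fun q hq h => by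
    have := Fact.mk hq
    obtain ⟨x, hx⟩ := exists_prime_orderOf_dvd_card' q h
    have h2 := β.isCharacter.le_charDegree_add_one_of_rational hq hx
      (fun h2 => hq.ne_one (by rw [← hx, A.faith (by rw [A.dβ]; norm_num) x h2, orderOf_one]))
      fun k hk => by
        obtain ⟨k', hk', -, h3⟩ := exists_coprime_pow_eq (G := G) hq hk
        obtain ⟨b, hb⟩ := A.int A.tri.hb x
        rw [← h3 x ⟨1, by rw [hx, pow_one]⟩]
        exact β.isCharacter.isGeneralizedCharacter.apply_pow_eq_of_rat ⟨b, by rw [hb]; simp⟩ hk'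
    rw [A.dβ] at h2
    interval_cases q <;> simp_all (config := {decide := true})
  obtain ⟨T⟩ : Nonempty (Sylow 2 G) := inferInstance
  obtain ⟨Q⟩ : Nonempty (Sylow 5 G) := inferInstance
  have h2 := A.card_sylow_le T
  rw [T.card_eq_multiplicity, Nat.pow_le_pow_iff_right (by norm_num),
    show ∑ i ∈ Finset.range (6 + 1), 6 / ((2 - 1) * 2 ^ i) = 10 by decide] at h2
  rw [← Q.card_eq_multiplicity, ← P.card_eq_multiplicity, A.card_five, A.scp.card] at h1
  have h3 : (Nat.card G).factorization 3 ≤ 2 := by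
    by_contra h
    exact A.three ((pow_dvd_pow 3 (show 3 ≤ _ by omega)).trans (Nat.ordProj_dvd _ 3))
  have h4 := A.scp.card_G
  have h5 := index_sylN_mod P
  have h6 := β.charDegree_dvd_card
  rw [A.aut] at h4
  rw [A.dβ] at h6
  generalize (Nat.card G).factorization 2 = a at h1 h2
  generalize (Nat.card G).factorization 3 = b at h1 h3
  rw [h1] at h4 h6 ⊢
  interval_cases a <;> interval_cases b <;> omega

theorem vanish [Fact (Nat.Prime 5)] {χ : IrrCharacter G} (h : 5 ∣ charDegree χ.1) {g : G}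
    (hg : 5 ∣ orderOf g) : χ.1 g = 0 := by
  obtain ⟨Q⟩ : Nonempty (Sylow 5 G) := inferInstance
  exact χ.eq_zero_of_ordProj_dvd (p := 5) (by rwa [← Q.card_eq_multiplicity, A.card_five]) hg

theorem β_five [Fact (Nat.Prime 5)] {g : G} (hg : 5 ∣ orderOf g) : β.1 g = 1 := by
  have h1 := A.reg (g := g) fun h => by
    have := hg.trans (orderOf_dvd_of_pow_eq_one (A.scp.pow_eq_one_of_dvd h))
    norm_num at this
  rw [A.vanish (by rw [A.dψ]; norm_num) hg, A.vanish (by rw [A.dα]; norm_num) hg] at h1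
  linear_combination h1

theorem scp_five [Fact (Nat.Prime 5)] (Q : Sylow 5 G) : SCP 5 Q := by
  have hQ := A.card_five Q
  refine ⟨hQ, (Q.is_maximal' (IsPGroup.of_card (Nat.eq_prime_pow_of_unique_prime_dvd
    Nat.card_pos.ne' fun {r} hr h => ?_)) (le_centralizer_of_card_prime hQ)).le⟩
  by_contra h5
  have := Fact.mk hr
  obtain ⟨⟨c, hc⟩, hc1⟩ := exists_prime_orderOf_dvd_card' r h
  rw [Subgroup.orderOf_mk] at hc1
  obtain ⟨x, hx, hx1⟩ := exists_ne_one_of_card_prime hQ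
  obtain ⟨b, hb⟩ := A.int A.tri.hb c
  have h1 := β.isCharacter.isGeneralizedCharacter.prime_dvd_sub_of_pElement (p := 5) (by norm_num)
    (hc x hx) (k := 1) (by rw [pow_one, ← orderOf_eq_of_card_prime hQ hx hx1, pow_orderOf_eq_one])
    (a := 1 - b) (by
      rw [A.β_five (dvd_orderOf_sec hQ hx hx1 hc fun h => h5
        ((Nat.prime_dvd_prime_iff_eq (by norm_num) hr).1 (hc1 ▸ h)).symm), hb]
      simp)
  have h2 := (β.isCharacter.modEq_charDegree_of_pElement hr (k := 1)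
    (by rw [pow_one, ← hc1, pow_orderOf_eq_one]) hb).dvd
  obtain ⟨h3, h4⟩ := A.β_bound (fun h => hr.ne_one (by rw [← hc1, h, orderOf_one])) hb
  rw [A.dβ] at h2
  obtain rfl | rfl : b = 1 ∨ b = -4 := by omega
  · exact h5 ((Nat.prime_dvd_prime_iff_eq hr (by norm_num)).1 (Int.natCast_dvd_natCast.1 h2))
  · have h6 : r ∣ 2 * 5 := Int.natCast_dvd_natCast.1 h2
    obtain rfl : r = 2 := (Nat.prime_dvd_prime_iff_eq hr Nat.prime_two).1
      (((Nat.Prime.dvd_mul hr).1 h6).resolve_right fun h =>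
        h5 ((Nat.prime_dvd_prime_iff_eq hr (by norm_num)).1 h))
    obtain ⟨m, -, hm⟩ := β.isCharacter.exists_int_of_invol A.perf (y := c)
      (by rw [← sq, ← hc1, pow_orderOf_eq_one])
    rw [hb, A.dβ, Int.cast_inj] at hm
    omega

omit h7 in
theorem β_invol {y : G} (hy : y * y = 1) (hy1 : y ≠ 1) : β.1 y = 2 ∨ β.1 y = -2 := by
  obtain ⟨m, -, hm⟩ := β.isCharacter.exists_int_of_invol A.perf hy
  obtain ⟨h1, h2⟩ := A.β_bound hy1 hm
  rw [A.dβ] at h1 h2 hm
  obtain rfl | rfl : m = 1 ∨ m = 2 := by omega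
  · exact Or.inl (by rw [hm]; norm_num)
  · exact Or.inr (by rw [hm]; norm_num)

theorem card_eq [Fact (Nat.Prime 5)] (Q : Sylow 5 G) :
    Nat.card G = 2520 ∧ autIdx (Q : Subgroup G) = 4 := by
  have H := A.scp_five Q
  obtain ⟨F⟩ := nonempty_autFrame H.card
  have h1 := F.autIdx_eq ▸ F.e_dvd
  have h2 := two_le_autIdx_of_perfect A.perf Q H.card
  have h3 := H.card_G
  have h4 := index_sylN_mod Q
  have h5 := Nat.le_of_dvd (by norm_num) h1
  have h6 := A.card_cases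
  by_contra h
  obtain ⟨h8, h9⟩ : Nat.card G = 20160 ∧ autIdx (Q : Subgroup G) = 2 := by
    interval_cases autIdx (Q : Subgroup G) <;> omega
  obtain ⟨O'⟩ := exists_prinOne Q H.card
  obtain ⟨η, hη⟩ := O'.Y_nonempty
  obtain ⟨x, hx, hx1⟩ := exists_ne_one_of_card_prime H.card
  have h10 := A.β_five (H.dvd_of_mem hx hx1)
  have hβ : β ∈ O'.X := by
    by_contra h11
    by_cases h12 : β ∈ O'.Y
    · have := O'.fixDim_Y H.card h12
      rw [A.dβ, h9] at this
      rcases O'.δ₀_sign with h | h <;> rw [h] at this <;> omega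
    · rw [O'.other H.cen β h11 h12 x (H.dvd_of_mem hx hx1)] at h10
      exact zero_ne_one h10
  have h11 : O'.δ β = 1 := by
    rw [O'.X_sing β hβ x (H.dvd_of_mem hx hx1)] at h10
    exact_mod_cast h10
  have h12 := O'.degree_rel hη
  rw [O'.sum_X_of_two h9 hβ A.tri.b_ne, O'.δ_triv, h11, A.dβ, IrrCharacter.charDegree_triv] at h12
  obtain ⟨h13, h14⟩ : O'.δ₀ = -1 ∧ charDegree η.1 = 7 := by
    rcases O'.δ₀_sign with h | h <;> rw [h] at h12 <;> omega
  obtain ⟨s, hs, hs'⟩ := exists_central_invol (G := G) (by rw [h8]; norm_num)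
  have hs5 : ¬ 5 ∣ orderOf s := by rw [hs]; norm_num
  have h15 := O'.card_frob H hη hs5 hs5 (H.dvd_of_mem hx hx1)
  have h16 := O'.reg η hη s hs5
  rw [O'.sum_X_of_two h9 hβ A.tri.b_ne, O'.δ_triv, h11, h13] at h15 h16
  rw [η.one_eq_charDegree, h14, A.β_one, h8, show η.1 s = 1 + β.1 s by
    simp only [IrrCharacter.triv_apply] at h16; push_cast at h16; linear_combination -h16] at h15
  have h17 := (Subgroup.centralizer ({s} : Set G)).card_mul_index
  obtain ⟨m, hm⟩ : 2 ^ 6 ∣ Nat.card (Subgroup.centralizer ({s} : Set G)) :=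
    (Nat.Coprime.pow_left 6 ((Nat.Prime.coprime_iff_not_dvd Nat.prime_two).2 hs')).dvd_of_dvd_mul_right
      (by rw [h17, h8]; norm_num)
  rw [hm] at h15
  generalize Nat.card {q : G × G // IsConj s q.1 ∧ IsConj s q.2 ∧ q.1 * q.2 = x} = N at h15
  simp only [IrrCharacter.triv_apply] at h15
  rcases A.β_invol (y := s) (by rw [← sq, ← hs, pow_orderOf_eq_one])
    (fun h => by simp [h] at hs) with h | h <;> rw [h] at h15
  · have : 4096 * (N * m * m) = 7680 := Nat.cast_injective (R := ℂ) (by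
      push_cast at h15 ⊢; linear_combination h15)
    omega
  · have : 4096 * (N * m * m) = 30720 := Nat.cast_injective (R := ℂ) (by
      push_cast at h15 ⊢; linear_combination h15)
    omega

end Sev

end Cfsg
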