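import Cfsg.Agent.Lin.FourA

/-! Perfect linear groups of degree four whose order is divisible by seven. -/

set_option autoImplicit false

namespace Cfsg

open scoped ComplexConjugate Pointwise

universe u v w

variable {G : Type u} [Group G]

theorem sev_arith {c₁ c₂ c₃ : ℤ} {c i j k : ℕ} (h1 : c₁ = 14 - 4 * i) (h2 : c₂ = 14 - 4 * j)
    (h3 : c₃ = 21 - 4 * k) (h4 : 3 + c₃ = c₁ + c₂)
    (h5 : (c : ℤ) * c = 840 + 24 * c₃ ^ 2 - 36 * (c₁ ^ 2 + c₂ ^ 2))
    (h6 : 5 + c₁ ^ 2 + c₂ ^ 2 + c₃ ^ 2 ≤ c) : c₁ = 2 ∧ c₂ = 2 := by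
  have s1 := sq_nonneg c₁
  have s2 := sq_nonneg c₂
  have s3 : 0 < c₃ ^ 2 := sq_pos_of_ne_zero (by omega)
  have h7 : c ≤ 41 := by
    by_contra h
    have : (42 : ℤ) * c ≤ c * c := mul_le_mul_of_nonneg_right (by omega) (by omega)
    omega
  have h9 := abs_lt_of_sq_lt_sq' (a := c₁) (b := 6) (by omega) (by norm_num)
  have h10 := abs_lt_of_sq_lt_sq' (a := c₂) (b := 6) (by omega) (by norm_num)
  have h11 : c₁ = 2 ∨ c₁ = -2 := by omega
  have h12 : c₂ = 2 ∨ c₂ = -2 := by omega
  obtain rfl : c₃ = c₁ + c₂ - 3 := by omega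
  clear h1 h2 h3
  rcases h11 with rfl | rfl <;> rcases h12 with rfl | rfl
  · exact ⟨rfl, rfl⟩
  all_goals
    exfalso
    interval_cases c <;> omega

namespace Sev

variable [Fintype G] [h7 : Fact (Nat.Prime 7)] {P : Sylow 7 G} {O : PrinOne 7 (P : Subgroup G)}
  {α β ψ : IrrCharacter G} (A : Sev P O α β ψ) [h5 : Fact (Nat.Prime 5)]
include A

theorem exists_block (Q : Sylow 5 G) : ∃ χ₁ χ₂ χ₃ : IrrCharacter G, charDegree χ₁.1 = 14 ∧
    charDegree χ₂.1 = 14 ∧ charDegree χ₃.1 = 21 ∧ χ₁ ≠ χ₂ ∧ ∀ (F : IrrCharacter G → ℂ) (x : G),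
      5 ∣ orderOf x → ∑ χ : IrrCharacter G, F χ * conj (χ.1 x) =
        F (IrrCharacter.triv G) + F β - F χ₁ - F χ₂ + F χ₃ := by
  classical
  have H := A.scp_five Q
  obtain ⟨hG, he⟩ := A.card_eq Q
  obtain ⟨O'⟩ := exists_prinOne Q H.card
  obtain ⟨B, ε, h1, h2, h3, h4⟩ := O'.exists_full H (by rw [he])
  obtain ⟨x, hx, hx1⟩ := exists_ne_one_of_card_prime H.card
  have hx5 := H.dvd_of_mem hx hx1
  have hmem : ∀ χ : IrrCharacter G, χ.1 x = 1 → χ ∈ B ∧ ε χ = 1 := fun χ h => by
    have h6 : χ ∈ B := by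
      by_contra h6
      exact zero_ne_one ((h4 χ h6 x hx5).symm.trans h)
    exact ⟨h6, by exact_mod_cast (h3 χ h6 x hx5).symm.trans h⟩
  obtain ⟨h6, h6'⟩ := hmem (IrrCharacter.triv G) rfl
  obtain ⟨h8, h8'⟩ := hmem β (A.β_five hx5)
  have h9 : β ∈ B.erase (IrrCharacter.triv G) := Finset.mem_erase.2 ⟨A.tri.b_ne, h8⟩
  have hdeg : ∀ χ ∈ (B.erase (IrrCharacter.triv G)).erase β,
      χ ∈ B ∧ (charDegree χ.1 = 14 ∧ ε χ = -1 ∨ charDegree χ.1 = 21 ∧ ε χ = 1) := fun χ hχ => by
    obtain ⟨e1, e2⟩ := Finset.mem_erase.1 hχ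
    obtain ⟨e2, e3⟩ := Finset.mem_erase.1 e2
    refine ⟨e3, ?_⟩
    have e4 := χ.isCharacter.modEq_charDegree_of_pElement h5.out (k := 1)
      (by rw [pow_one, H.pow_eq_one_of_mem hx]) (h3 χ e3 x hx5)
    have e5 := h2 χ e3
    unfold Int.ModEq at e4
    obtain ⟨k, hk⟩ := O.dvd_of_mem_Z A.scp (χ := χ) (O.mem_Z.2 ⟨fun h => by
      rcases A.tri.cases χ h with h | rfl | h
      · exact e2 h
      · have := A.dα; omega
      · exact e1 h, fun h => by have := O.Y_deg_eq h A.tri.hψ; have := A.dψ; omega⟩)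
    have e6 := χ.charDegree_dvd_card
    have e7 := χ.sq_charDegree_le_index_of_le (Z := ⊥) bot_le
    rw [Subgroup.index_bot, hG, hk] at e7
    rw [hG, hk] at e6
    have e8 : k ≤ 7 := by nlinarith
    interval_cases k <;> omega
  obtain ⟨a, b, c, hab, hac, hbc, h10⟩ := Finset.card_eq_three.1
    (show ((B.erase (IrrCharacter.triv G)).erase β).card = 3 by
      rw [Finset.card_erase_of_mem h9, Finset.card_erase_of_mem h6, h1])
  have key : ∀ (F : IrrCharacter G → ℂ) (x : G), 5 ∣ orderOf x →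
      ∑ χ : IrrCharacter G, F χ * conj (χ.1 x) =
        F (IrrCharacter.triv G) + F β + (ε a * F a + ε b * F b + ε c * F c) := fun F x hx => by
    rw [← Finset.sum_subset (Finset.subset_univ B) fun χ _ h => by rw [h4 χ h x hx]; simp,
      Finset.sum_congr rfl (g := fun χ => ε χ * F χ) fun χ h => by
        rw [h3 χ h x hx, map_intCast, mul_comm],
      ← Finset.add_sum_erase _ _ h6, ← Finset.add_sum_erase _ _ h9, h10,
      Finset.sum_insert (by simp [hab, hac]), Finset.sum_pair hbc, h6', h8']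
    push_cast
    ring
  have h11 := key (fun χ => χ.1 1) x hx5
  rw [sum_irr_mul_conj, if_neg (by simpa using hx1.symm)] at h11
  simp only [IrrCharacter.one_eq_charDegree, IrrCharacter.charDegree_triv, A.dβ] at h11
  have h12 : (0 : ℤ) = 1 + 6 + (ε a * charDegree a.1 + ε b * charDegree b.1 +
    ε c * charDegree c.1) := by exact_mod_cast h11
  rcases (hdeg a (by simp [h10])).2 with ha | ha <;>
    rcases (hdeg b (by simp [h10])).2 with hb | hb <;>
    rcases (hdeg c (by simp [h10])).2 with hc | hc <;>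
    rw [ha.1, ha.2, hb.1, hb.2, hc.1, hc.2] at h12 <;> norm_num at h12
  · exact ⟨a, b, c, ha.1, hb.1, hc.1, hab, fun F x hx => by
      rw [key F x hx, ha.2, hb.2, hc.2]; push_cast; ring⟩
  · exact ⟨a, c, b, ha.1, hc.1, hb.1, hac, fun F x hx => by
      rw [key F x hx, ha.2, hb.2, hc.2]; push_cast; ring⟩
  · exact ⟨b, c, a, hb.1, hc.1, ha.1, hbc, fun F x hx => by
      rw [key F x hx, ha.2, hb.2, hc.2]; push_cast; ring⟩

theorem fixDim_five {x : G} (hx : orderOf x = 5) : fixDim (Subgroup.zpowers x) β.1 = 2 := by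
  have h1 := β.isCharacter.mul_fixDim_zpowers hx
  have h2 : ∀ i, Nat.Coprime 5 i → β.1 (x ^ i) = 1 := fun i hi =>
    A.β_five (by rw [Nat.Coprime.orderOf_pow (hx ▸ hi), hx])
  simp only [Finset.sum_range_succ, Finset.sum_range_zero, pow_zero, A.β_one,
    h2 1 (by norm_num), h2 2 (by norm_num), h2 3 (by norm_num), h2 4 (by norm_num)] at h1
  exact Nat.cast_injective (R := ℂ) (by push_cast at h1 ⊢; linear_combination h1 / 5)

theorem exists_invol (Q : Sylow 5 G) :
    ∃ y ∈ sylN Q, y ∉ (Q : Subgroup G) ∧ y * y = 1 ∧ β.1 y = 2 := by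
  have H := A.scp_five Q
  obtain ⟨F⟩ := nonempty_autFrame H.card
  have he : F.e = 4 := F.autIdx_eq.symm.trans (A.card_eq Q).2
  obtain ⟨h1, h2⟩ := H.frame_pow F (by omega)
  rw [he] at h1 h2
  obtain ⟨x, hx, hx1⟩ := exists_ne_one_of_card_prime H.card
  obtain ⟨ε, h3, h4⟩ := H.exists_eig_fix β.isCharacter F.h_mem (m := 2) (by
    rw [eq_zpowers_of_card_prime H.card hx hx1,
      A.fixDim_five (orderOf_eq_of_card_prime H.card hx hx1)])
  have h6 : ∀ i, ε i ^ 4 = 1 := fun i => by
    obtain ⟨c, hc⟩ := orderOf_dvd_of_pow_eq_one h1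
    rw [hc, pow_mul, h3, one_pow]
  have h8 : ∀ z : ℂ, z ^ 4 = 1 → ∀ k, z ^ k = z ^ (k % 4) := fun z hz k => by
    nth_rewrite 1 [← Nat.div_add_mod k 4]
    rw [pow_add, pow_mul, hz, one_pow, one_mul]
  have h9 := detChar_eq_prod_of_forall_pow β.isCharacter (g := F.h)
    (ε := ![ε 0, ε 1, 1, Complex.I, -1, -Complex.I]) (fun i => by
      have : ∀ i, ε i ≠ 0 := fun i h => by simpa [h] using h6 i
      fin_cases i <;> simp [this]) fun k => by
      rw [← pow_mod_orderOf, ← Nat.mod_mod_of_dvd k (orderOf_dvd_of_pow_eq_one h1), pow_mod_orderOf,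
        Finset.sum_congr rfl fun i _ => h8 _ (by
          fin_cases i <;> simp [h6, neg_pow, show (-1 : ℂ) ^ 4 = 1 by norm_num]) k]
      have h10 := Nat.mod_lt k (show 0 < 4 by norm_num)
      generalize k % 4 = r at h10
      interval_cases r
      · simp [A.β_one]
      · rw [h4 1 (h2 1 (by norm_num))]
        simp [Fin.sum_univ_succ]
      · rw [h4 2 (h2 2 (by norm_num))]
        simp [Fin.sum_univ_succ]
      · rw [h4 3 (h2 3 (by norm_num))]
        simp only [Fin.sum_univ_succ, Fin.sum_univ_zero, Matrix.cons_val_zero,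
          Matrix.cons_val_succ, Fin.succ_zero_eq_one]
        ring
  rw [detChar_eq_one_of_perfect A.perf] at h9
  simp [Fin.prod_univ_succ] at h9
  have h10 : F.h ^ 2 * F.h ^ 2 = 1 := by rw [← pow_add, h1]
  refine ⟨F.h ^ 2, pow_mem F.h_mem 2, h2 2 (by norm_num), h10, (A.β_invol h10 fun h =>
    h2 2 (by norm_num) (h ▸ one_mem _)).resolve_right fun h => ?_⟩
  obtain ⟨t, ht⟩ := A.int A.tri.hb F.h
  have h11 := h4 1 (h2 1 (by norm_num))
  rw [h4 2 (h2 2 (by norm_num))] at h
  rw [pow_one, ht] at h11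
  simp only [Fin.sum_univ_two, pow_one] at h h11
  have h12 : t ^ 2 + 4 = 0 := Int.cast_injective (α := ℂ) (by
    push_cast
    rw [h11]
    linear_combination h + 2 * h9)
  nlinarith [sq_nonneg t]

omit h5 h7 in
theorem fixDim_seven {z : G} (hz : orderOf z = 7) : fixDim (Subgroup.zpowers z) β.1 = 0 := by
  have h1 := β.isCharacter.mul_fixDim_zpowers hz
  have h2 : ∀ i, Nat.Coprime 7 i → β.1 (z ^ i) = -1 := fun i hi => by
    rw [O.X_sing β A.tri.hb _ (by rw [Nat.Coprime.orderOf_pow (hz ▸ hi), hz]), A.δβ]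
    simp
  simp only [Finset.sum_range_succ, Finset.sum_range_zero, pow_zero, A.β_one,
    h2 1 (by norm_num), h2 2 (by norm_num), h2 3 (by norm_num), h2 4 (by norm_num),
    h2 5 (by norm_num), h2 6 (by norm_num)] at h1
  exact Nat.cast_injective (R := ℂ) (by push_cast at h1 ⊢; linear_combination h1 / 7)

omit h5 in
theorem exists_three : ∃ r : G, orderOf r = 3 ∧ β.1 r = 0 := by
  have := Fintype.ofFinite (P : Subgroup G)
  obtain ⟨F⟩ := nonempty_autFrame A.scp.card
  have he : F.e = 3 := F.autIdx_eq.symm.trans A.aut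
  obtain ⟨h1, h2⟩ := A.scp.frame_pow F (by omega)
  rw [he] at h1 h2
  have h3 := pow_one F.h ▸ h2 1 (by norm_num)
  refine ⟨F.h, orderOf_eq_prime h1 fun h => h3 (h ▸ one_mem _), ?_⟩
  obtain ⟨z, hz, hz1⟩ := exists_ne_one_of_card_prime A.scp.card
  have h4 := β.isCharacter.sum_mul_eq_zero_of_fixDim (P := (P : Subgroup G)) (by
    rw [eq_zpowers_of_card_prime A.scp.card hz hz1,
      A.fixDim_seven (orderOf_eq_of_card_prime A.scp.card hz hz1)]) F.h
  rw [Finset.sum_congr rfl fun v _ => β.isClassFunction.mul_comm _ _,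
    A.scp.sum_coset β.isClassFunction F.h_mem h3] at h4
  simpa using h4

theorem two_le_fixDim (R : Sylow 3 G) : 2 ≤ fixDim (R : Subgroup G) β.1 := by
  classical
  have := Fintype.ofFinite (R : Subgroup G)
  obtain ⟨Q⟩ : Nonempty (Sylow 5 G) := inferInstance
  have hR : Nat.card R = 9 := by
    rw [R.card_eq_multiplicity, (A.card_eq Q).1, show 2520 = 3 ^ 2 * 280 by norm_num,
      Nat.factorization_mul (by norm_num) (by norm_num), Nat.prime_three.factorization_pow,
      Finsupp.add_apply, Nat.factorization_eq_zero_of_not_dvd (by norm_num)]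
    simp
  have hord : ∀ g : (R : Subgroup G), ∃ k, orderOf (g : G) = 3 ^ k := fun g => by
    obtain ⟨k, hk⟩ := IsPGroup.iff_orderOf.1 R.isPGroup' g
    exact ⟨k, by rw [Subgroup.orderOf_coe, hk]⟩
  set T := Finset.univ.filter fun g : (R : Subgroup G) => β.1 g = 3 with hT
  have h1 := β.isCharacter.card_mul_fixDim (R : Subgroup G)
  rw [Finset.sum_congr rfl (g := fun g : (R : Subgroup G) =>
    (if g = 1 then 6 else 0) + if β.1 g = 3 then 3 else 0) fun g _ => by
      by_cases h : g = 1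
      · simp [h, A.β_one]
      · rcases A.three_val (hord g) (fun h2 => h (Subtype.ext h2)) with h2 | h2 <;> simp [h, h2],
    Finset.sum_add_distrib, Finset.sum_ite_eq', ← Finset.sum_filter, ← hT, Finset.sum_const, hR,
    if_pos (Finset.mem_univ _), nsmul_eq_mul] at h1
  have h2 : 9 * fixDim (R : Subgroup G) β.1 = 6 + T.card * 3 := by exact_mod_cast h1
  by_contra h
  obtain ⟨g, hg⟩ := Finset.card_eq_one.1 (show T.card = 1 by omega)
  have h3 : β.1 g = 3 := (Finset.mem_filter.1 (hg ▸ Finset.mem_singleton_self g : g ∈ T)).2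
  have h4 : g⁻¹ ∈ T := Finset.mem_filter.2 ⟨Finset.mem_univ _, by
    rw [Subgroup.coe_inv, β.apply_inv, h3]; exact map_ofNat _ 3⟩
  rw [hg, Finset.mem_singleton, inv_eq_iff_mul_eq_one, ← sq] at h4
  obtain ⟨k, hk⟩ := hord g
  have h6 : orderOf (g : G) = 1 := Nat.eq_one_of_dvd_coprimes
    (Nat.Coprime.pow_right k (show Nat.Coprime 2 3 by norm_num))
    (orderOf_dvd_of_pow_eq_one (by rw [← Subgroup.coe_pow, h4, Subgroup.coe_one])) hk.dvd
  rw [orderOf_eq_one_iff.1 h6, A.β_one] at h3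
  norm_num at h3

theorem nonempty_alt : Nonempty (G ≃* alternatingGroup (Fin 7)) := by
  classical
  have := A.simple
  obtain ⟨Q⟩ : Nonempty (Sylow 5 G) := inferInstance
  have H := A.scp_five Q
  obtain ⟨hG, he⟩ := A.card_eq Q
  obtain ⟨χ₁, χ₂, χ₃, d1, d2, d3, h12, hsum⟩ := A.exists_block Q
  obtain ⟨y, hy, hyQ, hy2, hy3⟩ := A.exists_invol Q
  obtain ⟨r, hr, hr0⟩ := A.exists_three
  obtain ⟨x, hx, hx1⟩ := exists_ne_one_of_card_prime H.card
  have hx5 := orderOf_eq_of_card_prime H.card hx hx1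
  have hy1 : orderOf y = 2 := orderOf_eq_prime (by rw [sq, hy2]) fun h => hyQ (h ▸ one_mem _)
  have hrel : ∀ g, orderOf g ≠ 5 → 1 + β.1 g - χ₁.1 g - χ₂.1 g + χ₃.1 g = 0 := fun g hg => by
    have := hsum (fun χ => χ.1 g) x hx5.symm.dvd
    rw [sum_irr_mul_conj, if_neg fun h => hg ((orderOf_eq_of_isConj h).symm.trans hx5)] at this
    exact this.symm
  have hfrob : ∀ a b : G,
      (Nat.card {q : G × G // IsConj a q.1 ∧ IsConj b q.2 ∧ q.1 * q.2 = x} : ℂ) *
      (Nat.card (Subgroup.centralizer ({a} : Set G)) *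
        Nat.card (Subgroup.centralizer ({b} : Set G))) = 2520 * (1 + β.1 a * β.1 b / 6 -
        χ₁.1 a * χ₁.1 b / 14 - χ₂.1 a * χ₂.1 b / 14 + χ₃.1 a * χ₃.1 b / 21) := fun a b => by
    rw [card_frob_eq, Finset.sum_congr rfl fun χ _ => mul_div_right_comm _ _ _,
      hsum (fun χ => χ.1 a * χ.1 b / χ.1 1) x hx5.symm.dvd, hG]
    simp [IrrCharacter.one_eq_charDegree, d1, d2, d3, A.dβ]
  obtain ⟨i, -, e1⟩ := χ₁.isCharacter.exists_int_of_invol A.perf hy2
  obtain ⟨j, -, e2⟩ := χ₂.isCharacter.exists_int_of_invol A.perf hy2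
  obtain ⟨k, -, e3⟩ := χ₃.isCharacter.exists_int_of_invol A.perf hy2
  rw [d1] at e1
  rw [d2] at e2
  rw [d3] at e3
  have e4 := hrel y (by omega)
  obtain ⟨e5, e6⟩ := sev_arith (c := Nat.card (Subgroup.centralizer ({y} : Set G))) (i := i)
    (j := j) (k := k) rfl rfl rfl (Int.cast_injective (α := ℂ) (by
      rw [hy3, e1, e2, e3] at e4
      push_cast at e4 ⊢
      linear_combination e4)) (Int.cast_injective (α := ℂ) (by
      have := hfrob y y
      rw [H.card_pairs (by norm_num) hy hyQ hy2 hx hx1, hy3, e1, e2, e3] at this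
      push_cast at this ⊢
      linear_combination this / 5)) (by
      have := sum_norm_sq_le_card_centralizer {IrrCharacter.triv G, β, χ₁, χ₂, χ₃} y
      have n : ∀ {χ ξ : IrrCharacter G}, charDegree χ.1 ≠ charDegree ξ.1 → χ ≠ ξ :=
        fun h h' => h (by rw [h'])
      have d0 := IrrCharacter.charDegree_triv (G := G)
      have d4 := A.dβ
      rw [Finset.sum_insert (by simp only [Finset.mem_insert, Finset.mem_singleton, not_or]
                                exact ⟨n (by omega), n (by omega), n (by omega), n (by omega)⟩),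
        Finset.sum_insert (by simp only [Finset.mem_insert, Finset.mem_singleton, not_or]
                              exact ⟨n (by omega), n (by omega), n (by omega)⟩),
        Finset.sum_insert (by simp only [Finset.mem_insert, Finset.mem_singleton, not_or]
                              exact ⟨h12, n (by omega)⟩),
        Finset.sum_pair (n (by omega)), hy3, e1, e2, e3, Complex.norm_intCast, Complex.norm_intCast,
        Complex.norm_intCast, sq_abs, sq_abs, sq_abs, IrrCharacter.triv_apply] at this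
      apply (Int.cast_le (R := ℝ)).1
      generalize Nat.card (Subgroup.centralizer ({y} : Set G)) = c at this ⊢
      push_cast at this ⊢
      norm_num at this
      linarith)
  have e7 : χ₁.1 y = 2 := by rw [e1]; exact_mod_cast e5
  have e8 : χ₂.1 y = 2 := by rw [e2]; exact_mod_cast e6
  have e9 : χ₃.1 y = 1 := by linear_combination e4 - hy3 + e7 + e8
  obtain ⟨⟨⟨a, b⟩, ha, hb, hab⟩⟩ := (Nat.card_ne_zero.1 fun h => by
    have h1 := hfrob y r
    have h2 := hrel r (by omega)
    rw [h, hr0, e7, e8, e9] at h1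
    rw [hr0] at h2
    have h3 : χ₃.1 r = 9 := by
      push_cast at h1
      linear_combination h1 / 240 + 3 / 2 * h2
    have h4 := sum_norm_sq_le_card_centralizer {χ₃} r
    rw [Finset.sum_singleton, h3] at h4
    have h6 : 81 ≤ Nat.card (Subgroup.centralizer ({r} : Set G)) := by
      generalize Nat.card (Subgroup.centralizer ({r} : Set G)) = c at h4
      norm_num at h4
      exact_mod_cast h4
    have hr1 : r ≠ 1 := fun h => by simp [h] at hr
    have h8 : Nat.card (Subgroup.centralizer ({r} : Set G)) ∣ 72 * 5 * 7 :=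
      (Subgroup.card_subgroup_dvd_card _).trans hG.dvd
    have h9 := Nat.le_of_dvd (by norm_num) (Nat.Coprime.dvd_of_dvd_mul_right
      ((h5.out.coprime_iff_not_dvd.2 (H.not_dvd_card_centralizer (by omega) hr1)).symm)
      (Nat.Coprime.dvd_of_dvd_mul_right
      ((h7.out.coprime_iff_not_dvd.2 (A.scp.not_dvd_card_centralizer (by omega) hr1)).symm) h8))
    omega).1
  dsimp only at ha hb hab
  have ha2 : orderOf a = 2 := (orderOf_eq_of_isConj ha).trans hy1
  have hb3 : orderOf b = 3 := (orderOf_eq_of_isConj hb).trans hr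
  obtain ⟨R, hR⟩ := (IsPGroup.of_card (p := 3) (G := Subgroup.zpowers b) (n := 1)
    (by rw [Nat.card_zpowers, hb3, pow_one])).exists_le_sylow
  have f1 : fixDim (Subgroup.zpowers a) β.1 = 4 := by
    have := β.isCharacter.mul_fixDim_zpowers ha2
    simp only [Finset.sum_range_succ, Finset.sum_range_zero, pow_zero, pow_one, A.β_one,
      ← β.isClassFunction.eq_of_isConj ha, hy3] at this
    exact Nat.cast_injective (R := ℂ) (by push_cast at this ⊢; linear_combination this / 2)
  have f2 : fixDim (Subgroup.zpowers b) β.1 = 2 := by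
    have := β.isCharacter.mul_fixDim_zpowers hb3
    have h1 : b ^ 2 = b⁻¹ := by 
      rw [eq_inv_iff_mul_eq_one, ← pow_succ]
      exact orderOf_dvd_iff_pow_eq_one.1 hb3.dvd
    simp only [Finset.sum_range_succ, Finset.sum_range_zero, pow_zero, pow_one, A.β_one, h1,
      β.apply_inv, ← β.isClassFunction.eq_of_isConj hb, hr0, map_zero] at this
    exact Nat.cast_injective (R := ℂ) (by push_cast at this ⊢; linear_combination this / 3)
  have h1 := β.isCharacter.fixDim_sup_ne_zero (Subgroup.mem_zpowers a)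
    (hR (Subgroup.mem_zpowers b)) le_rfl (f2.trans_le (A.two_le_fixDim R))
    (by rw [f1, f2, hab, A.fixDim_five hx5, A.dβ]; norm_num)
  set M := Subgroup.zpowers a ⊔ (R : Subgroup G)
  obtain ⟨e', n, h2, h3, h4, h6⟩ := exists_card_eq_of_mul H.card H.card_N (M := M)
    (Subgroup.mem_sup_left (Subgroup.mem_zpowers a))
    (Subgroup.mem_sup_right (hR (Subgroup.mem_zpowers b))) (by omega) (by omega) (hab ▸ hx5)
  have h8 : 3 ^ 2 ∣ Nat.card M := (R.pow_dvd_card_of_pow_dvd_card (by rw [hG]; norm_num)).trans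
    (Subgroup.card_dvd_of_le le_sup_right)
  have h9 : ¬ 7 ∣ Nat.card M := fun h => by
    obtain ⟨⟨z, hz⟩, hz7⟩ := exists_prime_orderOf_dvd_card' 7 h
    rw [Subgroup.orderOf_mk] at hz7
    have := β.isCharacter.fixDim_anti (Subgroup.zpowers_le.2 hz)
    rw [A.fixDim_seven hz7] at this
    omega
  have h10 := M.card_mul_index
  have h11 : Nat.card M ∣ 360 := Nat.Coprime.dvd_of_dvd_mul_right
    (h7.out.coprime_iff_not_dvd.2 h9).symm (Dvd.intro _ (h10.trans hG))
  rw [he] at h3
  have h13 := Nat.le_of_dvd (by norm_num) h3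
  have h14 := Nat.le_of_dvd (by norm_num) h11
  have h15 : Nat.card M = 360 := by
    rw [h6] at h8 h11 h14 ⊢
    have : n ≤ 36 := by nlinarith
    interval_cases e' <;> interval_cases n <;> omega
  exact nonempty_alt_of_index (M := M) (by norm_num) (by rw [h15, hG] at h10; omega)
    (by rw [hG]; rfl)

end Sev

theorem QData.seven [Fintype G] [hp : Fact (Nat.Prime 7)] {P : Sylow 7 G} {F : CenFrame 7 P}
    {ζ : IrrCharacter G} (D : QData F ζ) (he : F.e = 3) :
    Nonempty (G ⧸ Subgroup.center G ≃* Matrix.ProjectiveSpecialLinearGroup (Fin 2) (ZMod 7)) ∨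
      Nonempty (G ⧸ Subgroup.center G ≃* alternatingGroup (Fin 7)) := by
  classical
  have := Fintype.ofFinite (G ⧸ Subgroup.center G)
  have hs := D.isSimple
  have hd : charDegree ζ.1 = 4 := by have := D.deg; omega
  have H := F.scp_sylZ
  have h3 := F.autIdx_sylZ.trans he
  obtain ⟨O⟩ := exists_prinOne _ H.card
  obtain ⟨f, hf, hf0, hf1, hf2, hf3⟩ := D.exists_f
  have hev : 2 ∣ Nat.card (G ⧸ Subgroup.center G) :=
    (show 2 ∣ charDegree ζ.1 by rw [hd]; norm_num).trans ζ.charDegree_dvd_index_center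
  have k1 : ∀ a b ψ, O.Tri a b ψ → O.δ a = 1 → O.δ b = -1 → O.δ₀ = -1 →
      Nonempty (G ⧸ Subgroup.center G ≃* Matrix.ProjectiveSpecialLinearGroup (Fin 2) (ZMod 7)) ∨
      Nonempty (G ⧸ Subgroup.center G ≃* alternatingGroup (Fin 7)) := by
    intro a b ψ T ha hb h0
    have e1 := O.fixDim_X H.card T.ha
    have e2 := O.fixDim_X H.card T.hb
    have e3 := O.fixDim_Y H.card T.hψ
    have e4 := T.degree_rel
    have e5 := D.mult_eq O hf hf1 hf3
    have e6 := O.degree_split hf T.hψ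
    have e7 := (T.square H (by norm_num) h3 hev).2
    have e8 : charDegree a.1 ≠ 1 := fun h => T.a_ne (a.charKer_eq_top_iff.1
      (eq_top_iff.2 (D.perf_quot ▸ a.charDegree_eq_one_iff_commutator_le.1 h)))
    rw [T.sum, O.δ_triv, hf2, he, hd, ha, hb, h0, ← Nat.cast_sum] at e5
    rw [T.sum, hf2, hf1, hd, IrrCharacter.charDegree_triv] at e6
    rw [ha] at e1
    rw [hb] at e2
    rw [h0, h3] at e3
    rw [ha, hb, h0] at e4
    have e9 : cmult f a.1 ≠ 0 := by omega
    have e10 := Nat.mul_le_mul_right (charDegree a.1) (Nat.one_le_iff_ne_zero.2 e9)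
    by_cases h : charDegree ψ.1 = 3
    · left
      obtain ⟨e⟩ := ψ.isCharacter.psl2_of_small (ψ.charKer_eq_bot_iff.1
        (ψ.charKer_eq_bot_of_isSimpleGroup fun h4 => O.notMem ψ T.hψ (h4 ▸ O.triv_mem)))
        (p := 7) (by omega) H.card (F.sylow_map _ (QuotientGroup.ker_mk' _).le).2
      have h4 : Subgroup.center (G ⧸ Subgroup.center G) = ⊥ := by
        rw [eq_bot_iff, ← ψ.charCenter_eq_bot_of_simple (by omega)]
        exact ψ.center_le_charCenter
      exact ⟨(QuotientGroup.quotientBot.symm.trans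
        (QuotientGroup.quotientMulEquivOfEq h4.symm)).trans e⟩
    · have : Fact (Nat.Prime 5) := ⟨by norm_num⟩
      refine Or.inr (Sev.nonempty_alt (P := sylZ P) (O := O) (α := a) (β := b) (ψ := ψ)
        ⟨hs, D.perf_quot, H, h3, T, by omega, by omega, by omega, ha, hb, h0, fun g n hn => ?_,
          fun h4 => ?_⟩)
      · obtain ⟨g, rfl⟩ := QuotientGroup.mk_surjective g
        have h4 := hf.eq_one_add (by omega) T.a_ne e9 (by rw [hf1, hd]; omega) g
        rw [hf0, hn, Complex.mul_conj] at h4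
        have h5 : Complex.normSq (ζ.1 g) = 1 + n := by exact_mod_cast h4
        have h6 := Complex.normSq_nonneg (ζ.1 g)
        have h7 : (0 : ℤ) ≤ 1 + n := by rw [h5] at h6; exact_mod_cast h6
        omega
      · obtain ⟨R⟩ : Nonempty (Sylow 3 G) := inferInstance
        have h5 := ζ.isCharacter.card_sylow_le_of_int D.faith R (fun g hg =>
          D.exists_int Nat.prime_three (by norm_num) (by rw [hd]; norm_num) hg) hd
        rw [show ∑ i ∈ Finset.range (4 + 1), 4 / ((3 - 1) * 3 ^ i) = 2 by decide] at h5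
        have := Nat.le_of_dvd Nat.card_pos (R.pow_dvd_card_of_pow_dvd_card (n := 3)
          (h4.trans (Subgroup.card_quotient_dvd_card _)))
        omega
  obtain ⟨a, b, ψ, T⟩ := O.exists_tri h3
  have e0 := (T.square H (by norm_num) h3 hev).1
  rcases O.δ₀_sign with h0 | h0
  · exfalso
    have ha : O.δ a = -1 := by
      rcases O.δ_sign a T.ha with h | h <;> rcases O.δ_sign b T.hb with h' | h' <;> omega
    have hb : O.δ b = -1 := by omega
    have e1 := O.fixDim_X H.card T.ha
    have e2 := O.fixDim_X H.card T.hb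
    have e4 := T.degree_rel
    have e5 := D.mult_eq O hf hf1 hf3
    have e6 := O.degree_split hf T.hψ
    rw [T.sum, O.δ_triv, hf2, he, hd, ha, hb, h0, ← Nat.cast_sum] at e5
    rw [T.sum, hf2, hf1, hd, IrrCharacter.charDegree_triv] at e6
    rw [ha] at e1
    rw [hb] at e2
    rw [ha, hb, h0] at e4
    have := Nat.mul_le_mul_right (charDegree ψ.1) (show 2 ≤ ∑ ξ ∈ O.Y, cmult f ξ.1 by omega)
    omega
  · rcases O.δ_sign a T.ha with h | h
    · exact k1 a b ψ T h (by omega) h0
    · exact k1 b a ψ T.symm (by omega) h h0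

end Cfsg
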