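import Cfsg.Agent.Lin.Frame
import Cfsg.Agent.Lin.RedTools

/-! Fourier analysis on a subgroup of prime order. -/

set_option autoImplicit false

namespace Cfsg

open scoped ComplexConjugate

universe u v

variable {G : Type u} [Group G]

/-- the multiplicity of `l` in the restriction of `χ` to `P` -/
noncomputable def rmul [Finite G] (P : Subgroup G) (χ : G → ℂ) (l : P →* ℂˣ) : ℕ :=
  @cmult P _ (Fintype.ofFinite P) (fun u => χ u) (IrrCharacter.ofHom l).1

theorem IsCharacter.card_mul_rmul [Finite G] {χ : G → ℂ} (h : IsCharacter G χ) (P : Subgroup G)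
    [Fintype P] (l : P →* ℂˣ) :
    (Nat.card P : ℂ) * rmul P χ l = ∑ v : P, χ v * conj (l v : ℂ) := by
  have : (Nat.card P : ℂ) ≠ 0 := by exact_mod_cast Nat.card_pos.ne'
  rw [rmul, @IsCharacter.cast_cmult P _ (Fintype.ofFinite P) _ _ (h.res P)
    (IrrCharacter.ofHom l).isCharacter, classInner_congr_fintype _ inferInstance, classInner_def,
    ← mul_assoc, mul_inv_cancel₀ this, one_mul]
  rfl

theorem IsCharacter.rmul_one [Finite G] {χ : G → ℂ} (h : IsCharacter G χ) (P : Subgroup G) :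
    rmul P χ 1 = fixDim P χ := by
  have := Fintype.ofFinite P
  have h0 : (Nat.card P : ℂ) ≠ 0 := by exact_mod_cast Nat.card_pos.ne'
  have h1 := h.card_mul_rmul P 1
  simp only [MonoidHom.one_apply, Units.val_one, map_one, mul_one, ← h.card_mul_fixDim] at h1
  exact_mod_cast mul_left_cancel₀ h0 h1

theorem sum_unitsHom_conj_mul [Finite G] [IsMulCommutative G] [Fintype (G →* ℂˣ)] [DecidableEq G]
    (u v : G) : ∑ l : G →* ℂˣ, conj (l v : ℂ) * l u = if v = u then (Nat.card G : ℂ) else 0 := by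
  simp only [conj_unitsHom, ← Units.val_mul, ← map_mul]
  rw [sum_unitsHom_apply]
  simp only [inv_mul_eq_one]

theorem sum_unitsHom_mul_conj [Fintype G] [DecidableEq (G →* ℂˣ)] (l m : G →* ℂˣ) :
    ∑ v : G, (l v : ℂ) * conj (m v : ℂ) = if l = m then (Nat.card G : ℂ) else 0 := by
  classical
  have h0 : (Nat.card G : ℂ) ≠ 0 := by exact_mod_cast Nat.card_pos.ne'
  have h1 := (IrrCharacter.ofHom l).classInner_eq (IrrCharacter.ofHom m)
  rw [classInner_def, inv_mul_eq_iff_eq_mul₀ h0] at h1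
  simp only [IrrCharacter.ofHom_apply, IrrCharacter.ofHom_injective.eq_iff] at h1
  rw [h1]
  split_ifs <;> simp

theorem IsCharacter.eq_sum_rmul [Finite G] {χ : G → ℂ} (h : IsCharacter G χ) (P : Subgroup G)
    [IsMulCommutative P] [Fintype (P →* ℂˣ)] (u : P) :
    χ u = ∑ l : P →* ℂˣ, (rmul P χ l : ℂ) * l u := by
  classical
  have := Fintype.ofFinite P
  have h0 : (Nat.card P : ℂ) ≠ 0 := by exact_mod_cast Nat.card_pos.ne'
  refine mul_left_cancel₀ h0 ?_
  simp only [Finset.mul_sum, ← mul_assoc, h.card_mul_rmul, Finset.sum_mul]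
  rw [Finset.sum_comm]
  simp only [mul_assoc, ← Finset.mul_sum, sum_unitsHom_conj_mul]
  simp [mul_comm]

theorem IsCharacter.sum_rmul [Finite G] {χ : G → ℂ} (h : IsCharacter G χ) (P : Subgroup G)
    [IsMulCommutative P] [Fintype (P →* ℂˣ)] : ∑ l : P →* ℂˣ, rmul P χ l = charDegree χ := by
  have h1 := h.eq_sum_rmul P 1
  simp only [OneMemClass.coe_one, map_one, Units.val_one, mul_one, h.one_eq_charDegree] at h1
  exact_mod_cast h1.symm

theorem IsCharacter.rmul_pow [Finite G] {χ : G → ℂ} (h : IsCharacter G χ) {P : Subgroup G}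
    {x : G} {k : ℕ} (hx : ∀ v ∈ P, x * v * x⁻¹ = v ^ k) (l : P →* ℂˣ) :
    rmul P χ (l ^ k) = rmul P χ l := by
  have := Fintype.ofFinite P
  have h0 : (Nat.card P : ℂ) ≠ 0 := by exact_mod_cast Nat.card_pos.ne'
  have h1 : Function.Bijective fun v : P => v ^ k := by
    rw [← Finite.injective_iff_bijective]
    intro a b hab
    have h2 : (a : G) ^ k = (b : G) ^ k := congrArg Subtype.val hab
    rw [← hx a a.2, ← hx b b.2] at h2
    exact Subtype.ext (by simpa using h2)
  have h2 : (Nat.card P : ℂ) * rmul P χ (l ^ k) = Nat.card P * rmul P χ l := by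
    rw [h.card_mul_rmul, h.card_mul_rmul, ← h1.sum_comp (fun v => χ v * conj (l v : ℂ))]
    refine Finset.sum_congr rfl fun v _ => ?_
    rw [Subgroup.coe_pow, ← hx v v.2, h.isClassFunction, MonoidHom.pow_apply, map_pow l]
  exact_mod_cast mul_left_cancel₀ h0 h2

section proj
variable {ι : Type v} [Fintype ι] [DecidableEq ι] (X : G →* Matrix ι ι ℂ) (P : Subgroup G)
  [Fintype P]

theorem mul_sum_conj_smul (l : P →* ℂˣ) (u : P) :
    X u * ∑ v : P, conj (l v : ℂ) • X v = (l u : ℂ) • ∑ v : P, conj (l v : ℂ) • X v := by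
  rw [Finset.mul_sum, Finset.smul_sum]
  refine Fintype.sum_equiv (Equiv.mulLeft u) _ _ fun v => ?_
  simp only [conj_unitsHom, Equiv.coe_mulLeft, Subgroup.coe_mul, map_mul, smul_smul,
    mul_smul_comm, map_inv, Units.val_inv_eq_inv_val, Units.val_mul]
  congr 1
  field_simp

theorem matrix_eq_zero_of_sq_eq_smul {A : Matrix ι ι ℂ} {c : ℂ} (hc : c ≠ 0) (h : A * A = c • A)
    (h0 : A.trace = 0) : A = 0 := by
  have h1 : IsIdempotentElem (c⁻¹ • A) := by
    rw [IsIdempotentElem, smul_mul_smul_comm, h, smul_smul, mul_assoc, inv_mul_cancel₀ hc, mul_one]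
  have h2 : IsIdempotentElem (Matrix.toLin' (c⁻¹ • A)) := h1.map Matrix.toLinAlgEquiv'
  have h3 := LinearMap.IsIdempotentElem.eq_zero_of_trace_eq_zero h2 (by
    rw [Matrix.trace_toLin'_eq, Matrix.trace_smul, h0, smul_zero])
  have h4 : c⁻¹ • A = 0 := Matrix.toLin'.injective (by rw [h3, map_zero])
  exact (smul_eq_zero.1 h4).resolve_left (inv_ne_zero hc)

theorem exists_trace_eq_of_sq_eq_smul {A : Matrix ι ι ℂ} {c : ℂ} (hc : c ≠ 0)
    (h : A * A = c • A) : ∃ n : ℕ, A.trace = c * n := by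
  have h1 : IsIdempotentElem (c⁻¹ • A) := by
    rw [IsIdempotentElem, smul_mul_smul_comm, h, smul_smul, mul_assoc, inv_mul_cancel₀ hc, mul_one]
  refine ⟨(c⁻¹ • A).rank, ?_⟩
  · rw [matrix_rank_eq_trace h1, Matrix.trace_smul, smul_eq_mul, mul_inv_cancel_left₀ hc]

theorem sum_conj_smul_sq (l : P →* ℂˣ) :
    (∑ v : P, conj (l v : ℂ) • X v) * ∑ v : P, conj (l v : ℂ) • X v =
      (Nat.card P : ℂ) • ∑ v : P, conj (l v : ℂ) • X v := by
  rw [Finset.sum_mul, Finset.sum_congr rfl (g := fun _ => ∑ v : P, conj (l v : ℂ) • X v)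
    fun u _ => ?_, Finset.sum_const, Finset.card_univ, Nat.card_eq_fintype_card,
    Nat.cast_smul_eq_nsmul]
  rw [smul_mul_assoc, mul_sum_conj_smul, smul_smul, conj_unitsHom, ← Units.val_mul, ← map_mul,
    inv_mul_cancel, map_one, Units.val_one, one_smul]

theorem sum_conj_smul_eq_zero [Finite G] {l : P →* ℂˣ}
    (h0 : rmul P (fun g => (X g).trace) l = 0) : ∑ v : P, conj (l v : ℂ) • X v = 0 := by
  refine matrix_eq_zero_of_sq_eq_smul (Nat.cast_ne_zero.2 Nat.card_pos.ne')
    (sum_conj_smul_sq X P l) ?_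
  have h1 := (isCharacter_of_matrix X).card_mul_rmul P l
  rw [h0, Nat.cast_zero, mul_zero] at h1
  rw [Matrix.trace_sum, h1]
  simp [mul_comm]

theorem list_prod_sub_smul_mul {A E : Matrix ι ι ℂ} {a : ℂ} (h : A * E = a • E) (L : List ℂ) :
    (L.map fun c => A - c • (1 : Matrix ι ι ℂ)).prod * E = (L.map fun c => a - c).prod • E := by
  induction L with
  | nil => simp
  | cons c L ih =>
    rw [List.map_cons, List.prod_cons, mul_assoc, ih, mul_smul_comm, sub_mul, h, smul_mul_assoc,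
      one_mul, ← sub_smul, smul_smul, List.map_cons, List.prod_cons, mul_comm]

theorem list_prod_sub_smul_eq_zero [Finite G] [IsMulCommutative P] (u : P) (L : List ℂ)
    (h : ∀ l : P →* ℂˣ, rmul P (fun g => (X g).trace) l ≠ 0 → (l u : ℂ) ∈ L) :
    (L.map fun c => X u - c • (1 : Matrix ι ι ℂ)).prod = 0 := by
  classical
  have : Finite (P →* ℂˣ) := Nat.finite_of_card_ne_zero (by
    rw [card_unitsHom_of_comm]; exact Nat.card_pos.ne')
  have := Fintype.ofFinite (P →* ℂˣ)
  have h0 : (Nat.card P : ℂ) ≠ 0 := by exact_mod_cast Nat.card_pos.ne'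
  have h1 : ∑ l : P →* ℂˣ, ∑ v : P, conj (l v : ℂ) • X v = (Nat.card P : ℂ) • 1 := by
    rw [Finset.sum_comm]
    have := sum_unitsHom_conj_mul (G := P) 1
    simp only [map_one, Units.val_one, mul_one] at this
    simp only [← Finset.sum_smul, this]
    simp
  refine (smul_eq_zero.1 ?_).resolve_left h0
  rw [← mul_one (List.prod _), ← mul_smul_comm, ← h1, Finset.mul_sum]
  refine Finset.sum_eq_zero fun l _ => ?_
  by_cases hl : rmul P (fun g => (X g).trace) l = 0
  · rw [sum_conj_smul_eq_zero X P hl, mul_zero]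
  · rw [list_prod_sub_smul_mul (mul_sum_conj_smul X P l u), List.prod_eq_zero, zero_smul]
    exact List.mem_map.2 ⟨_, h l hl, sub_self _⟩

end proj

theorem IsCharacter.sum_conj_mul_eq_zero [Finite G] {χ : G → ℂ} (h : IsCharacter G χ)
    {P : Subgroup G} [Fintype P] {l : P →* ℂˣ} (h0 : rmul P χ l = 0) (s : G) :
    ∑ v : P, χ (v * s) * conj (l v : ℂ) = 0 := by
  obtain ⟨n, X, hX⟩ := isCharacter_iff_matrix.1 h
  obtain rfl : χ = fun g => (X g).trace := funext hX
  have h1 := congrArg (fun A => (A * X s).trace) (sum_conj_smul_eq_zero X P h0)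
  simp only [Finset.sum_mul, Matrix.trace_sum, smul_mul_assoc, Matrix.trace_smul, zero_mul,
    Matrix.trace_zero, smul_eq_mul, ← map_mul X] at h1
  simpa only [mul_comm] using h1

/-- nilpotency of `u - 1` on a reduction -/
theorem IsPModular.redRep_sub_one_pow [Finite G] {p : ℕ} {M : Ideal AlgInt} (hM : IsPModular p M)
    {ι : Type v} [Fintype ι] [DecidableEq ι] (X : G →* Matrix ι ι (valO M)) {P : Subgroup G}
    [IsMulCommutative P] (u : P) (L : List ℂ) (hL : ∀ c ∈ L, c ^ p = 1)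
    (h : ∀ l : P →* ℂˣ, rmul P (fun g => ((X g).trace : ℂ)) l ≠ 0 → (l u : ℂ) ∈ L) :
    (redRep X u - 1) ^ L.length = 0 := by
  have := Fintype.ofFinite P
  have hO : ∀ c ∈ L, c ∈ valO M := fun c hc =>
    mem_valO_iff.2 (valM_eq_one_of_pow_eq_one hM.prime.ne_zero (hL c hc)).le
  have h1 := list_prod_sub_smul_eq_zero (cplxRep X) P u L (by simpa only [trace_cplxRep] using h)
  let L' : List (valO M) := L.pmap (fun c hc => ⟨c, hc⟩) hO
  have h2 : (L'.map fun c => X u - c • (1 : Matrix ι ι (valO M))).prod = 0 := by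
    apply Matrix.map_injective (valO M).subtype_injective
    change ((valO M).subtype.mapMatrix : Matrix ι ι _ →+* _) _ =
      ((valO M).subtype.mapMatrix : Matrix ι ι _ →+* _) _
    rw [map_zero, map_list_prod, ← h1, List.map_map, List.map_pmap, ← List.pmap_eq_map (H := hO)]
    congr 1
    refine List.pmap_congr_left _ fun c _ _ _ => ?_
    ext i j
    by_cases hij : i = j <;> simp [cplxRep_apply, hij]
  let φ : Matrix ι ι (valO M) →+* Module.End (resK M) (ι → resK M) :=
    (Matrix.toLinAlgEquiv' (R := resK M)).toAlgHom.toRingHom.comp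
      (IsLocalRing.residue (valO M)).mapMatrix
  have hφ : ∀ (c : valO M) A, φ (c • A) = red M c • φ A := fun c A => by
    change Matrix.toLin' _ = _ • Matrix.toLin' _
    rw [← map_smul, red_coe]
    congr 1
  have h3 := congrArg φ h2
  rw [map_zero, map_list_prod, List.map_map, List.prod_eq_pow_card _ (redRep X u - 1)] at h3
  · simpa [L'] using h3
  · intro x hx
    obtain ⟨c, hc, rfl⟩ := List.mem_map.1 hx
    obtain ⟨c', hc', rfl⟩ := List.mem_pmap.1 hc
    simp only [Function.comp_apply, map_sub, hφ, map_one]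
    rw [hM.red_eq_one_of_pow_p_pow (n := 1) (by rw [pow_one]; exact hL c' hc'), one_smul]
    rfl

/-- the multiplicity of an eigenvalue of `h` on the vectors fixed by `P` -/
theorem IsCharacter.exists_nat_sum_fix [Finite G] {χ : G → ℂ} (hχ : IsCharacter G χ)
    {P : Subgroup G} [Fintype P] {h : G} (hh : h ∈ Subgroup.normalizer (P : Set G)) {e : ℕ}
    (he : e ≠ 0) {ε : ℂ} (hε : ε ≠ 0) (hc : ∀ g, χ (h ^ e * g) = ε ^ e * χ g) :
    ∃ n : ℕ, ∑ i ∈ Finset.range e, ε⁻¹ ^ i * ∑ v : P, χ (h ^ i * v) = e * Nat.card P * n := by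
  obtain ⟨n, X, hX⟩ := isCharacter_iff_matrix.1 hχ
  obtain rfl : χ = fun g => (X g).trace := funext hX
  have h0 : (Nat.card P : ℂ) ≠ 0 := by exact_mod_cast Nat.card_pos.ne'
  have he0 : (e : ℂ) ≠ 0 := by exact_mod_cast he
  have h1 : X h ^ e = ε ^ e • 1 := by
    have h2 : h ^ e ∈ charCenter (matRep X).character :=
      ⟨Units.mk0 _ (pow_ne_zero e hε), fun x => by simpa [matRep_character] using hc x⟩
    obtain ⟨c, hc'⟩ := (mem_charCenter_character_iff _).1 h2
    have h3 : X (h ^ e) = c • 1 := by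
      apply Matrix.toLin'.injective
      rw [map_smul, Matrix.toLin'_one]
      exact hc'
    rcases Nat.eq_zero_or_pos n with rfl | hn
    · exact Subsingleton.elim _ _
    have h4 := hc 1
    simp only [mul_one, h3, map_one, Matrix.trace_smul, Matrix.trace_one, Fintype.card_fin,
      smul_eq_mul, mul_eq_mul_right_iff, Nat.cast_eq_zero, hn.ne', or_false] at h4
    rw [← map_pow, h3, h4]
  set A := ∑ v : P, X v with hA
  set B := ∑ i ∈ Finset.range e, (ε⁻¹ • X h) ^ i with hB
  have hAA : A * A = (Nat.card P : ℂ) • A := by simpa using sum_conj_smul_sq X P 1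
  have hhA : Commute (X h) A := by
    rw [Commute, SemiconjBy, hA, Finset.mul_sum, Finset.sum_mul]
    refine Fintype.sum_equiv (P.normalizerMonoidHom ⟨h, hh⟩).toEquiv _ _ fun v => ?_
    change _ = X (h * v * h⁻¹) * _
    rw [← map_mul, ← map_mul, inv_mul_cancel_right]
  have hBA : Commute B A := Commute.sum_left _ _ _ fun i _ => (hhA.smul_left _).pow_left _
  have h2 : (ε⁻¹ • X h) * B = B := by
    have := mul_geom_sum (ε⁻¹ • X h) e
    rwa [smul_pow, h1, smul_smul, ← mul_pow, inv_mul_cancel₀ hε, one_pow, one_smul, sub_self,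
      sub_mul, one_mul, sub_eq_zero] at this
  have h3 : ∀ j, (ε⁻¹ • X h) ^ j * B = B := fun j => by
    induction j with
    | zero => simp
    | succ j ih => rw [pow_succ, mul_assoc, h2, ih]
  have hBB : B * B = (e : ℂ) • B := by
    conv_lhs => rw [hB, Finset.sum_mul, ← hB]
    rw [Finset.sum_congr rfl fun j _ => h3 j, Finset.sum_const, Finset.card_range,
      Nat.cast_smul_eq_nsmul]
  obtain ⟨m, hm⟩ := exists_trace_eq_of_sq_eq_smul (A := B * A) (mul_ne_zero he0 h0) (by
    rw [mul_assoc, ← mul_assoc A, ← hBA.eq, mul_assoc, hAA, ← mul_assoc, hBB, smul_mul_smul_comm])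
  refine ⟨m, hm ▸ ?_⟩
  simp only [hB, hA, Finset.sum_mul, Matrix.trace_sum, smul_pow, smul_mul_assoc, Finset.mul_sum,
    Matrix.trace_smul, smul_eq_mul, map_mul, map_pow]
  exact Finset.sum_comm

end Cfsg
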