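import Cfsg.Agent.Blk.PrinOne

/-! Coordinates for the normalizer of a subgroup of prime order. -/

set_option autoImplicit false

namespace Cfsg

open scoped ComplexConjugate

universe u v

variable {G : Type u} [Group G]

/-- a generator `h` of `N_G(P)/C_G(P)` for a subgroup `P` of order `p` -/
structure AutFrame (p : ℕ) (P : Subgroup G) where
  h : G
  j : ℕ
  e : ℕ
  card : Nat.card P = p
  h_mem : h ∈ Subgroup.normalizer (P : Set G)
  hconj : ∀ v ∈ P, h * v * h⁻¹ = v ^ j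
  prim : IsPrimitiveRoot (j : ZMod p) e
  gen : ∀ n ∈ Subgroup.normalizer (P : Set G), ∃ i < e,
    ∃ c ∈ Subgroup.centralizer (P : Set G), n = h ^ i * c

theorem conj_pow_of_conj {h v : G} {j : ℕ} (hc : h * v * h⁻¹ = v ^ j) (i : ℕ) :
    h ^ i * v * (h ^ i)⁻¹ = v ^ j ^ i := by
  induction i with
  | zero => simp
  | succ i ih =>
    calc h ^ (i + 1) * v * (h ^ (i + 1))⁻¹ = h * (h ^ i * v * (h ^ i)⁻¹) * h⁻¹ := by group
      _ = _ := by rw [ih, ← conj_pow, hc, ← pow_mul, pow_succ']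

theorem pow_eq_self_iff_of_orderOf {p : ℕ} [Fact p.Prime] {u : G} (hu : orderOf u = p) {a : ℕ} :
    u ^ a = u ↔ (a : ZMod p) = 1 := by
  rw [← Nat.cast_one, ZMod.natCast_eq_natCast_iff, ← hu, ← pow_eq_pow_iff_modEq, pow_one]

theorem nonempty_autFrame [Finite G] {p : ℕ} [hp : Fact p.Prime] {P : Subgroup G}
    (hP : Nat.card P = p) : Nonempty (AutFrame p P) := by
  have : IsCyclic P := isCyclic_of_prime_card hP
  have : IsCyclic (MulAut P) := by
    have e := IsCyclic.mulAutMulEquiv P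
    rw [hP] at e
    exact isCyclic_of_injective e.toMonoidHom e.injective
  obtain ⟨⟨_, h, rfl⟩, hg⟩ := IsCyclic.exists_generator (α := P.normalizerMonoidHom.range)
  obtain ⟨u, hu, hu1⟩ := exists_ne_one_of_card_prime hP
  have hz := eq_zpowers_of_card_prime hP hu hu1
  have ho := orderOf_eq_of_card_prime hP hu hu1
  have h1 : (h : G) * u * (h : G)⁻¹ ∈ Subgroup.zpowers u :=
    hz ▸ (Subgroup.mem_normalizer_iff.1 h.2 u).1 hu
  obtain ⟨j, hj⟩ := (mem_powers_iff_mem_zpowers.2 h1)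
  have hconj : ∀ v ∈ P, (h : G) * v * (h : G)⁻¹ = v ^ j := fun v hv => by
    obtain ⟨a, rfl⟩ := mem_powers_iff_mem_zpowers.2 (hz.le hv)
    simp only at hj ⊢
    rw [← conj_pow, ← hj, ← pow_mul, ← pow_mul, mul_comm]
  have hker : ∀ n : Subgroup.normalizer (P : Set G), P.normalizerMonoidHom n = 1 ↔
      (n : G) ∈ Subgroup.centralizer (P : Set G) := fun n => by
    rw [← MonoidHom.mem_ker, Subgroup.normalizerMonoidHom_ker, Subgroup.mem_subgroupOf]
  have hpow : ∀ i, (j : ZMod p) ^ i = 1 ↔ P.normalizerMonoidHom h ^ i = 1 := fun i => by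
    rw [← map_pow, hker, ← Nat.cast_pow, ← pow_eq_self_iff_of_orderOf ho,
      ← conj_pow_of_conj (hconj u hu), ← centralizer_singleton_of_card_prime hP hu hu1,
      Subgroup.mem_centralizer_singleton_iff, mul_inv_eq_iff_eq_mul, Subgroup.coe_pow]
  refine ⟨⟨h, j, orderOf (P.normalizerMonoidHom h), hP, h.2, hconj,
    ⟨(hpow _).2 (pow_orderOf_eq_one _), fun i hi => orderOf_dvd_of_pow_eq_one ((hpow i).1 hi)⟩,
    fun n hn => ?_⟩⟩
  obtain ⟨k, hk⟩ := mem_powers_iff_mem_zpowers.2 (hg ⟨_, ⟨n, hn⟩, rfl⟩)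
  have hk' : P.normalizerMonoidHom h ^ k = P.normalizerMonoidHom ⟨n, hn⟩ := congrArg Subtype.val hk
  rw [← pow_mod_orderOf] at hk'
  refine ⟨_, Nat.mod_lt k (orderOf_pos _), _, (hker ((h ^ (k % orderOf
    (P.normalizerMonoidHom h)))⁻¹ * ⟨n, hn⟩)).1 ?_, by simp⟩
  rw [map_mul, map_inv, map_pow, hk', inv_mul_cancel]

theorem not_dvd_orderOf_of_mem_normalizer [Finite G] {p : ℕ} [hp : Fact p.Prime] (P : Sylow p G)
    (hP : Nat.card P = p) {n : G} (hn : n ∈ Subgroup.normalizer ((P : Subgroup G) : Set G))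
    (hC : n ∉ Subgroup.centralizer ((P : Subgroup G) : Set G)) : ¬ p ∣ orderOf n := by
  intro hd
  have h1 : orderOf (n ^ (orderOf n / p)) = p := orderOf_pow_orderOf_div (orderOf_pos n).ne' hd
  have h2 : IsPGroup p (Subgroup.zpowers (n ^ (orderOf n / p))) :=
    IsPGroup.of_card (n := 1) (by rw [Nat.card_zpowers, h1, pow_one])
  have h3 : n ^ (orderOf n / p) ∈ (P : Subgroup G) :=
    ((h2.inf_normalizer_sylow P).le ⟨Subgroup.mem_zpowers _, pow_mem hn _⟩).2
  refine hC ?_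
  rw [← centralizer_singleton_of_card_prime hP h3 fun h => hp.out.ne_one (by
    rw [← h1, h, orderOf_one]), Subgroup.mem_centralizer_singleton_iff]
  exact (Commute.self_pow _ _)

theorem exists_conj_eq_mul_of_card_prime [Finite G] {p : ℕ} [hp : Fact p.Prime] {P : Subgroup G}
    (hP : Nat.card P = p) {n : G} (hn : n ∈ Subgroup.normalizer (P : Set G))
    (hC : n ∉ Subgroup.centralizer (P : Set G)) {v : G} (hv : v ∈ P) :
    ∃ w ∈ P, w * n * w⁻¹ = n * v := by
  let f : P → P := fun w => ⟨n⁻¹ * w * n⁻¹⁻¹ * (w : G)⁻¹, P.mul_mem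
    ((Subgroup.mem_normalizer_iff.1 (inv_mem hn) _).1 w.2) (inv_mem w.2)⟩
  have hf : Function.Injective f := fun a b hab => by
    by_contra hne
    have h1 : n⁻¹ * a * n⁻¹⁻¹ * (a : G)⁻¹ = n⁻¹ * b * n⁻¹⁻¹ * (b : G)⁻¹ := congrArg Subtype.val hab
    refine hC ?_
    rw [← centralizer_singleton_of_card_prime hP (b⁻¹ * a).2 fun h => hne
      (inv_mul_eq_one.1 (Subtype.ext h)).symm, Subgroup.mem_centralizer_singleton_iff]
    calc n * ((b : G)⁻¹ * a) = (b : G)⁻¹ * n * (n⁻¹ * b * n⁻¹⁻¹ * (b : G)⁻¹) * a := by group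
      _ = _ := by rw [← h1]; simp [mul_assoc]
  obtain ⟨w, hw⟩ := Finite.injective_iff_surjective.1 hf ⟨v, hv⟩
  refine ⟨w, w.2, ?_⟩
  have h1 : n⁻¹ * w * n⁻¹⁻¹ * (w : G)⁻¹ = v := congrArg Subtype.val hw
  rw [← h1]; group

namespace AutFrame

variable [Finite G] {p : ℕ} [hp : Fact p.Prime] {P : Subgroup G} (F : AutFrame p P)

omit [Finite G] hp in
theorem e_pos : 0 < F.e := by
  obtain ⟨i, hi, -⟩ := F.gen 1 (one_mem _)
  omega

omit [Finite G] hp in
theorem conj_pow {v : G} (hv : v ∈ P) (i : ℕ) : F.h ^ i * v * (F.h ^ i)⁻¹ = v ^ F.j ^ i :=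
  conj_pow_of_conj (F.hconj v hv) i

theorem pow_mem_centralizer_iff {i : ℕ} :
    F.h ^ i ∈ Subgroup.centralizer (P : Set G) ↔ F.e ∣ i := by
  obtain ⟨u, hu, hu1⟩ := exists_ne_one_of_card_prime F.card
  rw [← F.prim.pow_eq_one_iff_dvd, ← Nat.cast_pow,
    ← pow_eq_self_iff_of_orderOf (orderOf_eq_of_card_prime F.card hu hu1), ← F.conj_pow hu,
    ← centralizer_singleton_of_card_prime F.card hu hu1,
    Subgroup.mem_centralizer_singleton_iff, mul_inv_eq_iff_eq_mul]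

omit [Finite G] in
theorem not_dvd_j : ¬ p ∣ F.j := fun h => by
  have h1 := F.prim.pow_eq_one
  rw [(ZMod.natCast_eq_zero_iff _ _).2 h, zero_pow F.e_pos.ne'] at h1
  exact zero_ne_one h1

omit [Finite G] in
theorem not_dvd_j_pow (i : ℕ) : ¬ p ∣ F.j ^ i := fun h => F.not_dvd_j (hp.out.dvd_of_dvd_pow h)

omit [Finite G] in
theorem e_dvd : F.e ∣ p - 1 :=
  F.prim.dvd_of_pow_eq_one _ (ZMod.pow_card_sub_one_eq_one fun h =>
    F.not_dvd_j ((ZMod.natCast_eq_zero_iff _ _).1 h))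

omit [Finite G] in
theorem e_lt : F.e < p := by
  have := Nat.le_of_dvd (by have := hp.out.two_le; omega) F.e_dvd
  have := hp.out.two_le
  omega

omit [Finite G] in
theorem not_dvd_e : ¬ p ∣ F.e := fun h => (Nat.le_of_dvd F.e_pos h).not_gt F.e_lt

omit [Finite G] in
theorem primK (k : Type v) [Field k] [CharP k p] : IsPrimitiveRoot (F.j : k) F.e := by
  simpa using F.prim.map_of_injective (f := ZMod.castHom dvd_rfl k) (RingHom.injective _)

omit [Finite G] in
theorem e_ne_zeroK (k : Type v) [Field k] [CharP k p] : (F.e : k) ≠ 0 := by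
  rw [Ne, CharP.cast_eq_zero_iff k p]; exact F.not_dvd_e

theorem bijective_prod : Function.Bijective fun q : Fin F.e × Subgroup.centralizer (P : Set G) =>
    (⟨F.h ^ (q.1 : ℕ) * q.2, mul_mem (pow_mem F.h_mem _)
      (Subgroup.centralizer_le_normalizer _ q.2.2)⟩ : Subgroup.normalizer (P : Set G)) := by
  have key : ∀ (a b : Fin F.e) (c d : Subgroup.centralizer (P : Set G)), a ≤ b →
      F.h ^ (a : ℕ) * c = F.h ^ (b : ℕ) * d → a = b := fun a b c d hab h => by
    have h1 : F.h ^ (b - a : ℕ) = c * (d : G)⁻¹ := by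
      rw [← Nat.add_sub_cancel' (show (a : ℕ) ≤ b from hab), pow_add, mul_assoc,
        mul_right_inj] at h
      rw [h, mul_inv_cancel_right]
    have h2 := F.pow_mem_centralizer_iff.1 (h1 ▸ mul_mem c.2 (inv_mem d.2))
    have h3 := Nat.eq_zero_of_dvd_of_lt h2 (by omega)
    exact Fin.ext (by have : (a : ℕ) ≤ b := hab; omega)
  refine ⟨fun ⟨a, c⟩ ⟨b, d⟩ h => ?_, fun n => ?_⟩
  · have h1 : F.h ^ (a : ℕ) * c = F.h ^ (b : ℕ) * d := congrArg Subtype.val h
    obtain rfl : a = b := (le_total a b).elim (fun h => key _ _ _ _ h h1)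
      fun h => (key _ _ _ _ h h1.symm).symm
    exact Prod.ext rfl (Subtype.ext (mul_left_cancel h1))
  · obtain ⟨i, hi, c, hc, h⟩ := F.gen n n.2
    exact ⟨(⟨i, hi⟩, ⟨c, hc⟩), Subtype.ext h.symm⟩

theorem sum_normalizer {M : Type v} [AddCommMonoid M] [Fintype (Subgroup.normalizer (P : Set G))]
    [Fintype (Subgroup.centralizer (P : Set G))] (f : G → M) :
    ∑ n : Subgroup.normalizer (P : Set G), f n =
      ∑ i ∈ Finset.range F.e, ∑ c : Subgroup.centralizer (P : Set G), f (F.h ^ i * c) := by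
  rw [← F.bijective_prod.sum_comp (fun n => f n), Fintype.sum_prod_type, Finset.sum_range]

theorem card_normalizer : Nat.card (Subgroup.normalizer (P : Set G)) =
    F.e * Nat.card (Subgroup.centralizer (P : Set G)) := by
  rw [← Nat.card_eq_of_bijective _ F.bijective_prod, Nat.card_prod, Nat.card_fin]

theorem autIdx_eq : autIdx P = F.e := by
  have h1 := card_mul_relIndex (Subgroup.centralizer_le_normalizer (P : Set G))
  rw [F.card_normalizer, mul_comm] at h1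
  exact Nat.eq_of_mul_eq_mul_right Nat.card_pos h1

theorem exists_of_isConj {u v : G} (hu : u ∈ P) (hu1 : u ≠ 1) (hv : v ∈ P) (h : IsConj u v) :
    ∃ i < F.e, v = u ^ F.j ^ i := by
  obtain ⟨x, rfl⟩ := isConj_iff.1 h
  have h1 := mem_normalizer_of_conj_mem_of_card_prime F.card (x := x⁻¹) hu hu1 (by simpa using hv)
  obtain ⟨i, hi, c, hc, h2⟩ := F.gen x (by simpa using inv_mem h1)
  refine ⟨i, hi, ?_⟩
  rw [← F.conj_pow hu, h2]
  have := hc u hu
  calc F.h ^ i * c * u * (F.h ^ i * c)⁻¹ = F.h ^ i * (c * u) * c⁻¹ * (F.h ^ i)⁻¹ := by group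
    _ = _ := by rw [← this]; group

theorem modEq_of_isConj {u : G} (hu : u ∈ P) (hu1 : u ≠ 1) {k : ℕ} (h : IsConj u (u ^ k)) :
    k ^ F.e ≡ 1 [MOD p] := by
  obtain ⟨i, -, hi⟩ := F.exists_of_isConj hu hu1 (pow_mem hu k) h
  rw [pow_eq_pow_iff_modEq, orderOf_eq_of_card_prime F.card hu hu1] at hi
  refine (hi.pow _).trans ?_
  rw [← ZMod.natCast_eq_natCast_iff, Nat.cast_pow, Nat.cast_pow, ← pow_mul, mul_comm, pow_mul,
    F.prim.pow_eq_one, one_pow, Nat.cast_one]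

omit [Finite G] in
theorem pow_inj_of_orderOf {K : Type v} [Group K] {u : K} (hu : orderOf u = p) {a b : ℕ}
    (ha : a < F.e) (hb : b < F.e) (h : u ^ F.j ^ a = u ^ F.j ^ b) : a = b := by
  rw [pow_eq_pow_iff_modEq, hu, ← ZMod.natCast_eq_natCast_iff, Nat.cast_pow, Nat.cast_pow] at h
  exact F.prim.pow_inj ha hb h

omit [Finite G] in
theorem pow_j_pow_mod {K : Type v} [Group K] {u : K} (hu : u ^ p = 1) (a : ℕ) :
    u ^ F.j ^ (a % F.e) = u ^ F.j ^ a := by
  refine pow_eq_pow_iff_modEq.2 (Nat.ModEq.of_dvd (orderOf_dvd_of_pow_eq_one hu) ?_)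
  rw [← ZMod.natCast_eq_natCast_iff, Nat.cast_pow, Nat.cast_pow, F.prim.eq_orderOf,
    pow_mod_orderOf]

end AutFrame

/-- the number of classes of elements of order `p` -/
theorem AutFrame.card_classes_mul [Finite G] {p : ℕ} [hp : Fact p.Prime] {P : Sylow p G}
    (F : AutFrame p (P : Subgroup G)) :
    Nat.card {c : ConjClasses G // ∃ g : G, ConjClasses.mk g = c ∧ orderOf g = p} * F.e = p - 1 := by
  classical
  let f : {y : (P : Subgroup G) // y ≠ 1} →
      {c : ConjClasses G // ∃ g : G, ConjClasses.mk g = c ∧ orderOf g = p} :=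
    fun y => ⟨ConjClasses.mk (y.1 : G), y.1, rfl,
      orderOf_eq_of_card_prime F.card y.1.2 fun e => y.2 (Subtype.ext e)⟩
  have h1 : Nat.card {y : (P : Subgroup G) // y ≠ 1} = p - 1 := by
    have := F.card
    rw [← Nat.card_congr (Equiv.optionSubtypeNe (1 : (P : Subgroup G))), Finite.card_option] at this
    omega
  let _ : Fintype {c : ConjClasses G // ∃ g : G, ConjClasses.mk g = c ∧ orderOf g = p} :=
    Fintype.ofFinite _
  rw [← h1, ← Nat.card_congr (Equiv.sigmaFiberEquiv f), Nat.card_sigma,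
    Finset.sum_congr rfl (g := fun _ => F.e), Finset.sum_const, Finset.card_univ,
    Nat.card_eq_fintype_card, smul_eq_mul]
  rintro ⟨C, g, rfl, hgo⟩ -
  obtain ⟨a, ha⟩ := exists_conj_mem_sylow P (g := g) ⟨1, hgo.trans (pow_one p).symm⟩
  obtain ⟨y, hy⟩ : ∃ y, y = a * g * a⁻¹ := ⟨_, rfl⟩
  rw [← hy] at ha
  have hy1 : y ≠ 1 := fun e => hp.out.ne_one (by
    rw [← hgo, conj_eq_one_iff.1 (hy.symm.trans e), orderOf_one])
  have hC : IsConj g y := isConj_iff.2 ⟨a, hy.symm⟩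
  have hyo := orderOf_eq_of_card_prime F.card ha hy1
  rw [← Nat.card_fin F.e]
  symm
  refine Nat.card_eq_of_bijective (fun i => ⟨⟨⟨y ^ F.j ^ (i : ℕ), pow_mem ha _⟩, fun h => ?_⟩,
    Subtype.ext ?_⟩) ⟨fun a b h => ?_, ?_⟩
  · have h2 : y ^ F.j ^ (i : ℕ) = 1 := congrArg Subtype.val h
    exact F.not_dvd_j_pow i (hyo.symm.dvd.trans (orderOf_dvd_of_pow_eq_one h2))
  · refine ConjClasses.mk_eq_mk_iff_isConj.2 (hC.trans (isConj_iff.2 ⟨_, F.conj_pow ha i⟩)).symm
  · exact Fin.ext (F.pow_inj_of_orderOf hyo a.2 b.2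
      (congrArg (fun z => ((z.1.1 : (P : Subgroup G)) : G)) h))
  · rintro ⟨⟨z, hz⟩, h⟩
    have h2 : IsConj (z : G) g := ConjClasses.mk_eq_mk_iff_isConj.1 (congrArg Subtype.val h)
    obtain ⟨i, hi, h3⟩ := F.exists_of_isConj ha hy1 z.2 (h2.trans hC).symm
    exact ⟨⟨i, hi⟩, Subtype.ext (Subtype.ext (Subtype.ext h3.symm))⟩

end Cfsg
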