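import Cfsg.Agent.Lin.ExcFam
import Cfsg.Agent.CT.Det
import Cfsg.Agent.CT.Galois
import Cfsg.Agent.Grp.Cores

/-! Reduction to perfect groups and counting lemmas. -/

set_option autoImplicit false
set_option linter.unusedSectionVars false

namespace Cfsg

open scoped ComplexConjugate commutatorElement

universe u v

variable {G : Type u} [Group G]

theorem unitsHom_apply_of_perfect (hperf : commutator G = ⊤) {A : Type v} [CommGroup A]
    (f : G →* A) (g : G) : f g = 1 :=
  Abelianization.commutator_subset_ker f (hperf ▸ Subgroup.mem_top g)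

theorem IrrCharacter.center_pow_charDegree [Finite G] (hperf : commutator G = ⊤)
    (ζ : IrrCharacter G) (hf : ∀ g, ζ.1 g = ζ.1 1 → g = 1) {z : G} (hz : z ∈ Subgroup.center G) :
    z ^ charDegree ζ.1 = 1 := by
  obtain ⟨φ, hφ⟩ := ζ.exists_overCen
  have h1 := ζ.isCharacter.detChar_of_mem_charCenter (ζ.center_le_charCenter hz)
  have h2 := hφ ⟨z, hz⟩ 1
  have h3 := hφ (⟨z, hz⟩ ^ charDegree ζ.1) 1
  rw [mul_one] at h2 h3
  rw [← coe_detHom, unitsHom_apply_of_perfect hperf, h2, mul_div_cancel_right₀ _ ζ.one_ne_zero]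
    at h1
  refine hf _ (h3.trans ?_)
  rw [map_pow, Units.val_pow_eq_pow_val, ← h1, Units.val_one, one_mul]

section red
variable (hG : commutator G ⊔ Subgroup.center G = ⊤)
include hG

theorem exists_mul_center_of_sup (g : G) :
    ∃ x ∈ commutator G, ∃ z ∈ Subgroup.center G, x * z = g :=
  Subgroup.mem_sup_of_normal_left.1 (hG ▸ Subgroup.mem_top g)

theorem mem_center_commutator_iff {x : commutator G} :
    x ∈ Subgroup.center (commutator G) ↔ (x : G) ∈ Subgroup.center G := by
  simp only [Subgroup.mem_center_iff]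
  refine ⟨fun h g => ?_, fun h g => Subtype.ext (h g)⟩
  obtain ⟨y, hy, z, hz, rfl⟩ := exists_mul_center_of_sup hG g
  have h1 : y * x = x * y := congrArg Subtype.val (h ⟨y, hy⟩)
  rw [mul_assoc, ← Subgroup.mem_center_iff.1 hz, ← mul_assoc, h1, mul_assoc]

theorem commutator_commutator_eq_top : commutator (commutator G) = ⊤ := by
  have h1 : commutator G ≤ (commutator (commutator G)).map (commutator G).subtype := by
    refine Subgroup.commutator_le.2 fun a _ b _ => ?_
    obtain ⟨x, hx, z, hz, rfl⟩ := exists_mul_center_of_sup hG a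
    obtain ⟨y, hy, w, hw, rfl⟩ := exists_mul_center_of_sup hG b
    refine ⟨⁅(⟨x, hx⟩ : commutator G), (⟨y, hy⟩ : commutator G)⁆,
      Subgroup.commutator_mem_commutator (Subgroup.mem_top _) (Subgroup.mem_top _), ?_⟩
    change x * y * x⁻¹ * y⁻¹ = x * z * (y * w) * (x * z)⁻¹ * (y * w)⁻¹
    have h1 := Subgroup.mem_center_iff.1 hz
    have h2 := Subgroup.mem_center_iff.1 hw
    calc x * y * x⁻¹ * y⁻¹ = x * (y * w * z) * z⁻¹ * (w⁻¹ * x⁻¹) * y⁻¹ := by group
      _ = _ := by rw [h1, ← (Subgroup.mem_center_iff.1 (inv_mem hw) x⁻¹)]; group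
  rw [eq_top_iff]
  intro x _
  obtain ⟨y, hy, h⟩ := h1 x.2
  exact (Subtype.ext h : y = x) ▸ hy

theorem IrrCharacter.isIrr_res_commutator [Finite G] (ζ : IrrCharacter G) :
    IsIrrCharacter (commutator G) fun x => ζ.1 x := by
  obtain ⟨n, ρ, hρ, h⟩ := ζ.2
  refine ⟨n, ρ.comp (commutator G).subtype, ?_, by rw [← h]; rfl⟩
  rw [rep_isIrreducible_iff] at hρ ⊢
  refine ⟨hρ.1, fun U hU => hρ.2 U fun g v hv => ?_⟩
  obtain ⟨x, hx, z, hz, rfl⟩ := exists_mul_center_of_sup hG g
  obtain ⟨c, hc⟩ := (mem_charCenter_character_iff ρ).1 (h ▸ ζ.center_le_charCenter hz)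
  rw [map_mul, Module.End.mul_apply, hc]
  exact hU ⟨x, hx⟩ _ (U.smul_mem c hv)

theorem nonempty_quotient_center_equiv : Nonempty (G ⧸ Subgroup.center G ≃*
    commutator G ⧸ Subgroup.center (commutator G)) := by
  let f := (QuotientGroup.mk' (Subgroup.center G)).comp (commutator G).subtype
  have h1 : Function.Surjective f := fun q => by
    obtain ⟨g, rfl⟩ := QuotientGroup.mk_surjective q
    obtain ⟨x, hx, z, hz, rfl⟩ := exists_mul_center_of_sup hG g
    exact ⟨⟨x, hx⟩, QuotientGroup.eq.2 (by simpa using hz)⟩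
  have h2 : Subgroup.center (commutator G) = f.ker := by
    ext x
    rw [mem_center_commutator_iff hG, MonoidHom.mem_ker]
    exact (QuotientGroup.eq_one_iff _).symm
  exact ⟨((QuotientGroup.quotientMulEquivOfEq h2).trans
    (QuotientGroup.quotientKerEquivOfSurjective f h1)).symm⟩

theorem nonempty_equiv_prod_center (h : Subgroup.center (commutator G) = ⊥) :
    Nonempty (G ≃* commutator G × Subgroup.center G) := by
  let f := (commutator G).subtype.noncommCoprod (Subgroup.center G).subtype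
    fun x z => Subgroup.mem_center_iff.1 z.2 x
  refine ⟨(MulEquiv.ofBijective f ⟨(injective_iff_map_eq_one f).2 fun ⟨x, z⟩ h1 => ?_,
    fun g => ?_⟩).symm⟩
  · have h2 : (x : G) * z = 1 := h1
    have h3 : x = 1 := Subgroup.mem_bot.1 (h ▸ (mem_center_commutator_iff hG).2
      (eq_inv_of_mul_eq_one_left h2 ▸ inv_mem z.2))
    rw [h3, OneMemClass.coe_one, one_mul] at h2
    exact Prod.ext h3 (Subtype.ext h2)
  · obtain ⟨x, hx, z, hz, rfl⟩ := exists_mul_center_of_sup hG g
    exact ⟨(⟨x, hx⟩, ⟨z, hz⟩), rfl⟩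

theorem not_normal_subtype_commutator {p : ℕ} {P : Sylow p G}
    (hP : (P : Subgroup G) ≤ commutator G) (hnn : ¬ (P : Subgroup G).Normal) :
    ¬ (P.subtype hP : Subgroup (commutator G)).Normal := fun h => hnn ⟨fun v hv g => by
  obtain ⟨x, hx, z, hz, rfl⟩ := exists_mul_center_of_sup hG g
  have h1 : x * v * x⁻¹ ∈ (P : Subgroup G) := h.conj_mem ⟨v, hP hv⟩ hv ⟨x, hx⟩
  rwa [mul_assoc x, ← Subgroup.mem_center_iff.1 hz v, mul_inv_rev, ← mul_assoc, ← mul_assoc,
    mul_inv_cancel_right]⟩

end red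

theorem exists_coprime_pow_eq_sq [Finite G] : ∃ k : ℕ, k.Coprime (Nat.card G) ∧
    (∀ g : G, ¬ 2 ∣ orderOf g → g ^ k = g ^ 2) ∧ ∀ g : G, (∃ a, orderOf g = 2 ^ a) → g ^ k = g := by
  have h0 : Nat.card G ≠ 0 := Nat.card_pos.ne'
  have h1 := Nat.coprime_ordCompl Nat.prime_two h0
  obtain ⟨k, hk1, hk2⟩ := Nat.chineseRemainder
    (h1.pow_left ((Nat.card G).factorization 2)) 1 2
  refine ⟨k, ?_, fun g hg => ?_, fun g ⟨a, hg⟩ => ?_⟩
  · rw [← Nat.ordProj_mul_ordCompl_eq_self (Nat.card G) 2]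
    refine Nat.Coprime.mul_right ?_ ?_
    · rw [Nat.Coprime, hk1.gcd_eq, Nat.gcd_one_left]
    · rw [Nat.Coprime, hk2.gcd_eq]; exact h1
  · refine pow_eq_pow_iff_modEq.2 (hk2.of_dvd ?_)
    refine Nat.Coprime.dvd_of_dvd_mul_left (m := 2 ^ (Nat.card G).factorization 2)
      ((Nat.prime_two.coprime_iff_not_dvd.2 hg).symm.pow_right _) ?_
    rw [Nat.ordProj_mul_ordCompl_eq_self]
    exact orderOf_dvd_natCard g
  · conv_rhs => rw [← pow_one g]
    refine pow_eq_pow_iff_modEq.2 (hk1.of_dvd ?_)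
    rw [hg]
    exact pow_dvd_pow _ ((Nat.prime_two.pow_dvd_iff_le_factorization h0).1
      (hg ▸ orderOf_dvd_natCard g))

theorem OverCen.powConj [Finite G] {φ : Subgroup.center G →* ℂˣ} {χ : G → ℂ} (h : OverCen φ χ)
    {k : ℕ} (hk : ∀ z ∈ Subgroup.center G, z ^ k = z ^ 2) :
    OverCen (φ * φ) fun g => χ (g ^ k) := fun z g => by
  have h1 := h (z * z) (g ^ k)
  simp only [(Commute.symm (Subgroup.mem_center_iff.1 z.2 g)).mul_pow, hk z z.2, pow_two]
  simpa using h1

namespace CenFrame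

variable [Finite G] {p : ℕ} [hp : Fact p.Prime] {P : Sylow p G} (F : CenFrame p P)

theorem card_eq : Nat.card G =
    Nat.card (Sylow p G) * (F.e * (Nat.card (Subgroup.center G) * p)) := by
  rw [← F.card_centralizer, ← F.card_normalizer, P.card_eq_index_normalizer]
  exact (Subgroup.index_mul_card _).symm

include F in
theorem le_center_of_normal {χ : G → ℂ} (hχ : IsCharacter G χ) (hf : ∀ g, χ g = χ 1 → g = 1)
    (hd : charDegree χ + 2 ≤ p) {K : Subgroup G} [K.Normal] (hK : ¬ p ∣ Nat.card K) :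
    K ≤ Subgroup.center G := fun k hk =>
  F.cen k (hχ.le_centralizer_of_normal P F.card hf hd hK hk) fun h =>
    hK (h.trans (K.orderOf_dvd_natCard hk))

include F in
theorem pPrimeCore_eq {χ : G → ℂ} (hχ : IsCharacter G χ) (hf : ∀ g, χ g = χ 1 → g = 1)
    (hd : charDegree χ + 2 ≤ p) : pPrimeCore p G = Subgroup.center G :=
  le_antisymm (F.le_center_of_normal hχ hf hd (not_dvd_card_pPrimeCore p))
    (le_pPrimeCore_of_not_dvd inferInstance F.not_dvd_card_center)

include F in
/-- `p`-regular elements centralizing a `p`-singular element are central -/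
theorem mem_center_of_commute {g s : G} (hg : p ∣ orderOf g) (hs : ¬ p ∣ orderOf s)
    (h : Commute g s) : s ∈ Subgroup.center G := by
  obtain ⟨x, u, t, hu, hu1, ht, htr, hx⟩ := exists_conj_eq_sec P F.card hg
  have h1 : x * s * x⁻¹ ∈ Subgroup.center G := by
    refine F.cen _ ?_ (by
      rwa [show x * s * x⁻¹ = MulAut.conj x s from rfl, MulEquiv.orderOf_eq])
    rw [← centralizer_singleton_of_card_prime F.card hu hu1, Subgroup.mem_centralizer_singleton_iff]
    have h2 : u * t * (x * s * x⁻¹) = x * s * x⁻¹ * (u * t) := by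
      rw [← hx]
      calc x * g * x⁻¹ * (x * s * x⁻¹) = x * (g * s) * x⁻¹ := by group
        _ = _ := by rw [h.eq]; group
    have h3 := Subgroup.mem_center_iff.1 (F.cen t ht htr)
    rw [mul_assoc u, ← h3, ← mul_assoc, ← mul_assoc _ u, mul_left_inj] at h2
    exact h2.symm
  have h2 := Subgroup.mem_center_iff.1 h1 x
  rw [inv_mul_cancel_right, mul_right_inj] at h2
  exact h2 ▸ h1

end CenFrame

/-- sums over the `p`-singular elements -/
theorem CenFrame.sum_sing [Fintype G] {p : ℕ} [hp : Fact p.Prime] {P : Sylow p G}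
    (F : CenFrame p P) [Fintype (P : Subgroup G)] [DecidableEq (P : Subgroup G)] {f : G → ℂ}
    (hf : IsClassFunction G f) (h1 : OverCen 1 f) :
    ∑ g with p ∣ orderOf g, f g = Nat.card (Sylow p G) * (Nat.card (Subgroup.center G) *
      ∑ v ∈ Finset.univ.erase (1 : (P : Subgroup G)), f v) := by
  classical
  have := Fintype.ofFinite (Subgroup.centralizer ((P : Subgroup G) : Set G))
  let θ : Subgroup.centralizer ((P : Subgroup G) : Set G) → ℂ :=
    fun c => if p ∣ orderOf (c : G) then 1 else 0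
  have hC0 : (Nat.card (Subgroup.centralizer ((P : Subgroup G) : Set G)) : ℂ) ≠ 0 := by
    exact_mod_cast Nat.card_pos.ne'
  have hconj : ∀ x g : G, orderOf (x * g * x⁻¹) = orderOf g := fun x g =>
    MulEquiv.orderOf_eq (MulAut.conj x) g
  have h2 : ∀ g, indFun _ θ g = if p ∣ orderOf g then (F.e : ℂ) else 0 := fun g => by
    split_ifs with hg
    · obtain ⟨x, u, s, hu, hu1, hs, hsr, h⟩ := exists_conj_eq_sec P F.card hg
      rw [← indFun_isClassFunction _ _ g x, indFun_apply', inv_mul_eq_iff_eq_mul₀ hC0,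
        Finset.sum_congr rfl (g := fun y => if y ∈ Subgroup.normalizer ((P : Subgroup G) : Set G)
          then 1 else 0), Finset.sum_boole, mul_comm, ← Nat.cast_mul, ← F.card_normalizer,
        Nat.card_eq_fintype_card, Fintype.card_subtype]
      intro y _
      have h3 := Subgroup.mem_center_iff.1 (F.cen s hs hsr)
      have h4 : y * (x * g * x⁻¹) * y⁻¹ = y * u * y⁻¹ * s := by
        rw [h, mul_assoc y, mul_assoc u, ← h3, mul_assoc, mul_assoc]
      split_ifs with hy
      · rw [extendByZero_of_mem _ _ (h4 ▸ mul_mem (le_centralizer_of_card_prime F.card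
          ((Subgroup.mem_normalizer_iff.1 hy u).1 hu)) hs)]
        simp only [θ, hconj, hg, if_true]
      · refine extendByZero_of_not_mem _ _ fun h5 => hy ?_
        have h6 : y * u * y⁻¹ ∈ Subgroup.centralizer ((P : Subgroup G) : Set G) := by
          simpa [h4] using mul_mem h5 (inv_mem hs)
        have h7 := mem_sylow_of_commute_of_card_prime P F.card hu hu1 (IsPGroup.of_card (n := 1)
          (by rw [Nat.card_zpowers, hconj, orderOf_eq_of_card_prime F.card hu hu1, pow_one]))
          (h6 u hu)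
        simpa using inv_mem (mem_normalizer_of_conj_mem_of_card_prime F.card (x := y⁻¹) hu hu1
          (by simpa using h7))
    · refine indFun_eq_zero_of_forall_isConj _ _ fun c hc => if_neg ?_
      obtain ⟨x, hx⟩ := isConj_iff.1 hc
      rwa [← hx, hconj]
  have h3 := classInner_indFun_right _ θ hf
  rw [classInner_def, classInner_def, F.sum_centralizer (f' := fun v => if v = 1 then 0 else f v)
    fun z v c hc => ?_, F.card_eq, F.card_centralizer] at h3
  · have h4 : ∑ g, f g * conj (indFun _ θ g) = F.e * ∑ g with p ∣ orderOf g, f g := by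
      rw [Finset.sum_filter, Finset.mul_sum]
      exact Finset.sum_congr rfl fun g _ => by rw [h2]; split_ifs <;> simp [mul_comm]
    have h5 : ∑ v : (P : Subgroup G), (if v = 1 then 0 else f v) =
        ∑ v ∈ Finset.univ.erase (1 : (P : Subgroup G)), f v := by
      rw [← Finset.add_sum_erase _ _ (Finset.mem_univ 1), if_pos rfl, zero_add]
      exact Finset.sum_congr rfl fun v hv => if_neg (Finset.ne_of_mem_erase hv)
    rw [h4, h5] at h3
    have h6 : (Nat.card (Sylow p G) : ℂ) ≠ 0 := by exact_mod_cast Nat.card_pos.ne'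
    have h7 : (Nat.card (Subgroup.center G) : ℂ) ≠ 0 := by exact_mod_cast Nat.card_pos.ne'
    have h8 : (F.e : ℂ) ≠ 0 := by exact_mod_cast F.e_pos.ne'
    have h9 : (p : ℂ) ≠ 0 := by exact_mod_cast hp.out.ne_zero
    push_cast at h3
    field_simp at h3
    rw [h3]; ring
  · simp only [θ, hc, h1 z, MonoidHom.one_apply, Units.val_one, one_mul]
    by_cases hv : v = 1
    · rw [if_pos hv, hv, OneMemClass.coe_one, mul_one, if_neg (F.center_reg z.2), map_zero,
        mul_zero]
    · rw [if_neg hv, if_pos, map_one, mul_one]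
      rw [← Subgroup.mem_center_iff.1 z.2]
      exact dvd_orderOf_sec F.card v.2 (fun h => hv (Subtype.ext h))
        (Subgroup.center_le_centralizer _ z.2) (F.center_reg z.2)

theorem CenFrame.le_commutator [Finite G] {p : ℕ} [hp : Fact p.Prime] {P : Sylow p G}
    (F : CenFrame p P) : (P : Subgroup G) ≤ commutator G := by
  obtain ⟨u, hu, hu1⟩ := exists_ne_one_of_card_prime F.card
  have h1 : ⁅F.h, u⁆ ≠ 1 := fun h => F.h_notMem (by
    rw [← centralizer_singleton_of_card_prime F.card hu hu1,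
      Subgroup.mem_centralizer_singleton_iff]
    exact commutatorElement_eq_one_iff_mul_comm.1 h)
  rw [eq_zpowers_of_card_prime F.card (u := ⁅F.h, u⁆)
    (mul_mem ((Subgroup.mem_normalizer_iff.1 F.h_mem u).1 hu) (inv_mem hu)) h1,
    Subgroup.zpowers_le]
  exact Subgroup.commutator_mem_commutator (Subgroup.mem_top _) (Subgroup.mem_top _)

theorem CenFrame.not_le_charKer [Finite G] {p : ℕ} [hp : Fact p.Prime] {P : Sylow p G}
    (F : CenFrame p P) {ζ : IrrCharacter G} (hf : ∀ g, ζ.1 g = ζ.1 1 → g = 1) :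
    ¬ (P : Subgroup G) ≤ charKer ζ.1 := fun h' =>
  F.nn ((le_bot_iff.1 (ζ.charKer_eq_bot_iff.2 hf ▸ h')).symm ▸ inferInstance)

theorem CenFrame.commutator_sup_center [Finite G] {p : ℕ} [hp : Fact p.Prime] {P : Sylow p G}
    (F : CenFrame p P) (he : 2 * F.e < p) {ζ : IrrCharacter G} (hf : ∀ g, ζ.1 g = ζ.1 1 → g = 1)
    (hd : charDegree ζ.1 + F.e = p) : commutator G ⊔ Subgroup.center G = ⊤ := by
  have := Fintype.ofFinite G
  obtain ⟨θ, hθ⟩ := ζ.exists_overCen
  obtain ⟨E, hδ, l, hl, rfl⟩ := F.exists_excFam_pos he ζ hd (F.not_le_charKer hf) hθ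
  exact E.commutator_sup_center he hδ hl hd

/-- passage to the commutator subgroup -/
theorem CenFrame.exists_perfect [Finite G] {p : ℕ} [hp : Fact p.Prime] {P : Sylow p G}
    (F : CenFrame p P) (he : 2 * F.e < p) {ζ : IrrCharacter G} (hf : ∀ g, ζ.1 g = ζ.1 1 → g = 1)
    (hd : charDegree ζ.1 + F.e = p) :
    ∃ (Q : Sylow p (commutator G)) (ξ : IrrCharacter (commutator G)),
      Nat.card Q = p ∧ ¬ (Q : Subgroup (commutator G)).Normal ∧ (∀ g, ξ.1 g = ξ.1 1 → g = 1) ∧
        charDegree ξ.1 = charDegree ζ.1 :=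
  ⟨P.subtype F.le_commutator, ⟨_, ζ.isIrr_res_commutator (F.commutator_sup_center he hf hd)⟩,
    (Nat.card_congr (Subgroup.subgroupOfEquivOfLe F.le_commutator).toEquiv).trans F.card,
    not_normal_subtype_commutator (F.commutator_sup_center he hf hd) _ F.nn,
    fun g hg => Subtype.ext (hf g hg), charDegree_eq_of_one_eq ζ.one_eq_charDegree⟩

end Cfsg
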