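import Cfsg.Agent.Lin.FeitR
import Cfsg.Agent.Blk.PrinRep
import Cfsg.Agent.Blk.SmallSimple
import Cfsg.Agent.CT.ClassSum
import Cfsg.Agent.CT.FeitBound
import Cfsg.Agent.CT.Blichfeldt
import Cfsg.Agent.Grp.SelfCent
import Cfsg.Agent.S4721

/-! Tools for groups with a self-centralizing Sylow subgroup of order `p` and for the central
quotient of a linear group of degree `p - e`. -/

set_option autoImplicit false

namespace Cfsg

open scoped ComplexConjugate Pointwise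

universe u v w

variable {G : Type u} [Group G]

namespace PrinOne

variable [Fintype G] {p : ℕ} [hp : Fact p.Prime] {P : Sylow p G} (O : PrinOne p (P : Subgroup G))

theorem fixDim_char (H : SCP p P) {f : G → ℂ} (hf : IsCharacter G f) :
    (p : ℤ) * fixDim P f = charDegree f + (p - 1) * ∑ χ ∈ O.X, O.δ χ * cmult f χ.1 +
      O.δ₀ * autIdx (P : Subgroup G) * ∑ ψ ∈ O.Y, (cmult f ψ.1 : ℤ) := by
  rw [hf.fixDim_eq_sum, hf.charDegree_eq_sum_cmult]
  push_cast
  rw [O.sum_split, O.sum_split, Finset.mul_sum, Finset.mul_sum, mul_add, mul_add, Finset.mul_sum,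
    Finset.mul_sum, Finset.mul_sum]
  have h1 : ∑ χ ∈ O.X, (p : ℤ) * (cmult f χ.1 * fixDim P χ.1) =
      ∑ χ ∈ O.X, (cmult f χ.1 * charDegree χ.1 : ℤ) +
        ∑ χ ∈ O.X, ((p : ℤ) - 1) * (O.δ χ * cmult f χ.1) := by
    rw [← Finset.sum_add_distrib]
    exact Finset.sum_congr rfl fun χ hχ => by
      linear_combination (cmult f χ.1 : ℤ) * O.fixDim_X H.card hχ
  have h2 : ∑ χ ∈ O.Y, (p : ℤ) * (cmult f χ.1 * fixDim P χ.1) =
      ∑ χ ∈ O.Y, (cmult f χ.1 * charDegree χ.1 : ℤ) +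
        ∑ χ ∈ O.Y, O.δ₀ * autIdx (P : Subgroup G) * (cmult f χ.1 : ℤ) := by
    rw [← Finset.sum_add_distrib]
    exact Finset.sum_congr rfl fun χ hχ => by
      linear_combination (cmult f χ.1 : ℤ) * O.fixDim_Y H.card hχ
  have h3 : ∑ χ ∈ O.Z, (p : ℤ) * (cmult f χ.1 * fixDim P χ.1) =
      ∑ χ ∈ O.Z, (cmult f χ.1 * charDegree χ.1 : ℤ) :=
    Finset.sum_congr rfl fun χ hχ => by
      have := congrArg (Nat.cast : ℕ → ℤ)
        (O.fixDim_other H.card H.cen (O.mem_Z.1 hχ).1 (O.mem_Z.1 hχ).2)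
      push_cast at this
      linear_combination (cmult f χ.1 : ℤ) * this
  rw [h1, h2, h3]
  ring

theorem degree_split {f : G → ℂ} (hf : IsCharacter G f) {ψ : IrrCharacter G} (hψ : ψ ∈ O.Y) :
    charDegree f = ∑ χ ∈ O.X, cmult f χ.1 * charDegree χ.1 +
      (∑ ξ ∈ O.Y, cmult f ξ.1) * charDegree ψ.1 + ∑ χ ∈ O.Z, cmult f χ.1 * charDegree χ.1 := by
  rw [hf.charDegree_eq_sum_cmult, O.sum_split, Finset.sum_mul]
  congr 2
  exact Finset.sum_congr rfl fun ξ hξ => by rw [O.Y_deg_eq hξ hψ]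

theorem dvd_of_mem_Z (H : SCP p P) {χ : IrrCharacter G} (hχ : χ ∈ O.Z) : p ∣ charDegree χ.1 :=
  Dvd.intro _ (O.fixDim_other H.card H.cen (O.mem_Z.1 hχ).1 (O.mem_Z.1 hχ).2)

omit hp in
theorem δ_ne {χ : IrrCharacter G} (hχ : χ ∈ O.X) : (O.δ χ : ℂ) ≠ 0 := by
  rcases O.δ_sign χ hχ with h | h <;> simp [h]

/-- the Frobenius sum for a product of two `p`-regular classes -/
theorem frob_sum (H : SCP p P) {ψ : IrrCharacter G} (hψ : ψ ∈ O.Y) {a b u : G}
    (ha : ¬ p ∣ orderOf a) (hb : ¬ p ∣ orderOf b) (hu : p ∣ orderOf u) :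
    ∑ χ : IrrCharacter G, χ.1 a * χ.1 b * conj (χ.1 u) / χ.1 1 =
      ∑ χ ∈ O.X, O.δ χ * (χ.1 a * χ.1 b / χ.1 1) + O.δ₀ * (ψ.1 a * ψ.1 b / ψ.1 1) := by
  rw [O.sum_irr_eq _ fun χ hX hY => by rw [O.other H.cen χ hX hY u hu]; simp]
  congr 1
  · exact Finset.sum_congr rfl fun χ hχ => by rw [O.X_sing χ hχ u hu, map_intCast]; ring
  · rw [← map_intCast (starRingEnd ℂ), ← O.Y_sing u hu, map_sum, Finset.sum_mul]
    refine Finset.sum_congr rfl fun ξ hξ => ?_
    rw [O.Y_reg_eq hξ hψ ha, O.Y_reg_eq hξ hψ hb, O.Y_reg_eq hξ hψ (g := 1) (by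
      simp [hp.out.ne_one])]
    ring

theorem card_frob (H : SCP p P) {ψ : IrrCharacter G} (hψ : ψ ∈ O.Y) {a b u : G}
    (ha : ¬ p ∣ orderOf a) (hb : ¬ p ∣ orderOf b) (hu : p ∣ orderOf u) :
    (Nat.card {q : G × G // IsConj a q.1 ∧ IsConj b q.2 ∧ q.1 * q.2 = u} : ℂ) *
      (Nat.card (Subgroup.centralizer ({a} : Set G)) *
        Nat.card (Subgroup.centralizer ({b} : Set G))) = Nat.card G *
      (∑ χ ∈ O.X, O.δ χ * (χ.1 a * χ.1 b / χ.1 1) + O.δ₀ * (ψ.1 a * ψ.1 b / ψ.1 1)) := by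
  rw [card_isConj_mul_isConj_eq, O.frob_sum H hψ ha hb hu]
  have h1 := congrArg (Nat.cast : ℕ → ℂ) (Subgroup.centralizer ({a} : Set G)).card_mul_index
  have h2 := congrArg (Nat.cast : ℕ → ℂ) (Subgroup.centralizer ({b} : Set G)).card_mul_index
  have h0 : (Nat.card G : ℂ) ≠ 0 := by exact_mod_cast Nat.card_pos.ne'
  push_cast at h1 h2
  generalize (∑ χ ∈ O.X, O.δ χ * (χ.1 a * χ.1 b / χ.1 1) + O.δ₀ * (ψ.1 a * ψ.1 b / ψ.1 1)) = B
  rw [div_mul_eq_mul_div, div_mul_eq_mul_div, div_eq_iff h0]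
  linear_combination B * (Nat.card (Subgroup.centralizer ({b} : Set G)) *
    (Subgroup.centralizer ({b} : Set G)).index) * h1 + B * Nat.card G * h2

/-- a Galois conjugate stays in the principal block -/
theorem powConj_mem (H : SCP p P) {χ : IrrCharacter G} (hχ : χ ∈ O.X) {k : ℕ}
    (hk : k.Coprime (Nat.card G)) : χ.powConj k hk ∈ O.X ∨ χ.powConj k hk ∈ O.Y := by
  by_contra h
  push Not at h
  obtain ⟨u, hu, hu1⟩ := exists_ne_one_of_card_prime H.card
  have h1 := O.other H.cen _ h.1 h.2 u (H.dvd_of_mem hu hu1)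
  rw [IrrCharacter.powConj_apply, O.X_sing χ hχ _ (by
    rw [(hk.coprime_dvd_right (orderOf_dvd_natCard u)).symm.orderOf_pow]
    exact H.dvd_of_mem hu hu1)] at h1
  exact O.δ_ne hχ h1

theorem X_int (H : SCP p P) {χ : IrrCharacter G} (hχ : χ ∈ O.X)
    (hd : ∀ ξ, ξ ∈ O.X ∨ ξ ∈ O.Y → charDegree ξ.1 = charDegree χ.1 → ξ = χ) (g : G) :
    ∃ a : ℤ, χ.1 g = a := by
  obtain ⟨q, hq⟩ := χ.isCharacter.isGeneralizedCharacter.exists_rat_of_forall_pow (g := g)
    fun k hk => by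
      rw [← χ.powConj_apply k hk, hd _ (O.powConj_mem H hχ hk) (χ.charDegree_powConj k hk)]
  obtain ⟨n, hn⟩ := exists_int_of_isIntegral_rat (hq ▸ χ.isIntegral g)
  exact ⟨n, by rw [hq, ← hn, Rat.cast_intCast]⟩

omit hp in
theorem exists_two (h : autIdx (P : Subgroup G) = 2) :
    ∃ χ ∈ O.X, χ ≠ IrrCharacter.triv G := by
  classical
  obtain ⟨χ, hχ⟩ := Finset.card_pos.1 (show 0 < (O.X.erase (IrrCharacter.triv G)).card by
    rw [Finset.card_erase_of_mem O.triv_mem, O.card_X, h]; norm_num)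
  exact ⟨χ, (Finset.mem_erase.1 hχ).2, (Finset.mem_erase.1 hχ).1⟩

/-- the principal block when the automizer has order three -/
structure Tri (a b ψ : IrrCharacter G) : Prop where
  ha : a ∈ O.X
  hb : b ∈ O.X
  hψ : ψ ∈ O.Y
  a_ne : a ≠ IrrCharacter.triv G
  b_ne : b ≠ IrrCharacter.triv G
  ne : a ≠ b
  cases : ∀ χ ∈ O.X, χ = IrrCharacter.triv G ∨ χ = a ∨ χ = b

theorem exists_tri (h : autIdx (P : Subgroup G) = 3) : ∃ a b ψ, O.Tri a b ψ := by
  classical
  obtain ⟨ψ, hψ⟩ := O.Y_nonempty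
  obtain ⟨a, b, hab, h1⟩ := Finset.card_eq_two.1 (show (O.X.erase (IrrCharacter.triv G)).card = 2 by
    rw [Finset.card_erase_of_mem O.triv_mem, O.card_X, h])
  have ha : a ∈ O.X.erase (IrrCharacter.triv G) := by rw [h1]; simp
  have hb : b ∈ O.X.erase (IrrCharacter.triv G) := by rw [h1]; simp
  refine ⟨a, b, ψ, (Finset.mem_erase.1 ha).2, (Finset.mem_erase.1 hb).2, hψ,
    (Finset.mem_erase.1 ha).1, (Finset.mem_erase.1 hb).1, hab, fun χ hχ => ?_⟩
  by_cases h2 : χ = IrrCharacter.triv G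
  · exact Or.inl h2
  · have := Finset.mem_erase.2 ⟨h2, hχ⟩
    rw [h1] at this
    simpa using Or.inr this

namespace Tri

variable {O} {a b ψ : IrrCharacter G} (T : O.Tri a b ψ)
include T

omit hp in
theorem symm : O.Tri b a ψ :=
  ⟨T.hb, T.ha, T.hψ, T.b_ne, T.a_ne, T.ne.symm, fun χ hχ => by
    rcases T.cases χ hχ with h | h | h <;> simp [h]⟩

omit hp in
theorem sum {M : Type v} [AddCommMonoid M] (F : IrrCharacter G → M) :
    ∑ χ ∈ O.X, F χ = F (IrrCharacter.triv G) + F a + F b := by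
  classical
  have : O.X = {IrrCharacter.triv G, a, b} := by
    ext χ
    simp only [Finset.mem_insert, Finset.mem_singleton]
    refine ⟨T.cases χ, ?_⟩
    rintro (rfl | rfl | rfl)
    exacts [O.triv_mem, T.ha, T.hb]
  rw [this, Finset.sum_insert (by simp [T.a_ne.symm, T.b_ne.symm]), Finset.sum_pair T.ne, add_assoc]

theorem degree_rel : 1 + O.δ a * charDegree a.1 + O.δ b * charDegree b.1 +
    O.δ₀ * charDegree ψ.1 = 0 := by
  have := O.degree_rel T.hψ
  rw [T.sum, O.δ_triv, IrrCharacter.charDegree_triv] at this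
  linear_combination this

omit hp in
theorem reg {g : G} (hg : ¬ p ∣ orderOf g) :
    1 + O.δ a * a.1 g + O.δ b * b.1 g + O.δ₀ * ψ.1 g = 0 := by
  have := O.reg ψ T.hψ g hg
  rw [T.sum, O.δ_triv, IrrCharacter.triv_apply] at this
  push_cast at this
  linear_combination this

theorem card_frob (H : SCP p P) {x y u : G} (hx : ¬ p ∣ orderOf x) (hy : ¬ p ∣ orderOf y)
    (hu : p ∣ orderOf u) :
    (Nat.card {q : G × G // IsConj x q.1 ∧ IsConj y q.2 ∧ q.1 * q.2 = u} : ℂ) *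
      (Nat.card (Subgroup.centralizer ({x} : Set G)) *
        Nat.card (Subgroup.centralizer ({y} : Set G))) = Nat.card G *
      (1 + O.δ a * (a.1 x * a.1 y / charDegree a.1) + O.δ b * (b.1 x * b.1 y / charDegree b.1) +
        O.δ₀ * (ψ.1 x * ψ.1 y / charDegree ψ.1)) := by
  rw [O.card_frob H T.hψ hx hy hu, T.sum, O.δ_triv, a.one_eq_charDegree, b.one_eq_charDegree,
    ψ.one_eq_charDegree]
  simp

end Tri

end PrinOne

/-- no element of order `p` is a product of two involutions if the automizer has odd order -/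
theorem SCP.card_invol_eq_zero [Finite G] {p : ℕ} [hp : Fact p.Prime] {P : Sylow p G}
    (H : SCP p P) (h2 : p ≠ 2) (ho : ¬ 2 ∣ autIdx (P : Subgroup G)) {x y u : G} (hx : x * x = 1)
    (hy : y * y = 1) (hu : u ∈ (P : Subgroup G)) (hu1 : u ≠ 1) :
    Nat.card {q : G × G // IsConj x q.1 ∧ IsConj y q.2 ∧ q.1 * q.2 = u} = 0 := by
  rw [Nat.card_eq_zero]
  refine Or.inl ⟨fun ⟨⟨a, b⟩, h1, h3, h4⟩ => ?_⟩
  obtain ⟨c, hc⟩ := isConj_iff.1 h1
  obtain ⟨d, hd⟩ := isConj_iff.1 h3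
  dsimp only at hc hd h4
  have ha : a * a = 1 := by rw [← hc, conj_mul, hx]; simp
  have hb : b * b = 1 := by rw [← hd, conj_mul, hy]; simp
  have h5 : a⁻¹ * u * a = u⁻¹ := by
    rw [← h4, mul_inv_rev, inv_eq_of_mul_eq_one_right ha, inv_eq_of_mul_eq_one_right hb,
      ← mul_assoc, ha, one_mul]
  have h6 : a ∈ sylN P := mem_normalizer_of_conj_mem_of_card_prime H.card hu hu1 (h5 ▸ inv_mem hu)
  have h7 : orderOf a ∣ p * autIdx (P : Subgroup G) :=
    H.card_N ▸ Subgroup.orderOf_dvd_natCard _ h6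
  have h8 : a ≠ 1 := fun h => by
    rw [h] at h5
    have h9 : u * u = 1 := by simpa [eq_inv_iff_mul_eq_one] using h5
    have := (H.dvd_of_mem hu hu1).trans (orderOf_dvd_of_pow_eq_one (n := 2) (by rw [sq, h9]))
    exact h2 ((Nat.prime_dvd_prime_iff_eq hp.out Nat.prime_two).1 this)
  rw [orderOf_eq_prime (p := 2) (by rw [sq, ha]) h8] at h7
  exact ((Nat.Prime.dvd_mul Nat.prime_two).1 h7).elim
    (fun h => h2 ((Nat.prime_dvd_prime_iff_eq Nat.prime_two hp.out).1 h).symm) ho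

/-- the square condition -/
theorem PrinOne.Tri.square [Fintype G] [IsSimpleGroup G] {p : ℕ} [hp : Fact p.Prime]
    {P : Sylow p G} {O : PrinOne p (P : Subgroup G)} {a b ψ : IrrCharacter G} (T : O.Tri a b ψ)
    (H : SCP p P) (h2 : p ≠ 2) (h3 : autIdx (P : Subgroup G) = 3) (he : 2 ∣ Nat.card G) :
    O.δ a + O.δ b + O.δ₀ = -1 ∧ IsSquare (charDegree a.1 * charDegree b.1 * charDegree ψ.1) := by
  obtain ⟨y, hy⟩ := exists_prime_orderOf_dvd_card' 2 he
  have hy2 : y * y = 1 := by rw [← sq, ← hy, pow_orderOf_eq_one]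
  have hy1 : y ≠ 1 := fun h => by simp [h] at hy
  have hr : ¬ p ∣ orderOf y := fun h =>
    h2 ((Nat.prime_dvd_prime_iff_eq hp.out Nat.prime_two).1 (hy ▸ h))
  have key : ∀ χ : IrrCharacter G, χ ≠ IrrCharacter.triv G →
      ∃ x : ℤ, χ.1 y = x ∧ x ≠ charDegree χ.1 := fun χ hχ => by
    obtain ⟨m, -, hm, -⟩ := χ.isCharacter.exists_int_of_sq_eq_one (g := y) (by rw [sq, hy2])
    refine ⟨charDegree χ.1 - 2 * m, by rw [hm]; push_cast; rfl, fun h => hy1 ?_⟩
    refine χ.charKer_eq_bot_iff.1 (χ.charKer_eq_bot_of_isSimpleGroup hχ) y ?_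
    rw [hm, χ.one_eq_charDegree, show m = 0 by omega]
    simp
  obtain ⟨x₁, e1, n1⟩ := key a T.a_ne
  obtain ⟨x₂, e2, n2⟩ := key b T.b_ne
  obtain ⟨x₃, e3, n3⟩ := key ψ fun h => O.notMem ψ T.hψ (h ▸ O.triv_mem)
  obtain ⟨u, hu, hu1⟩ := exists_ne_one_of_card_prime H.card
  have h4 := T.card_frob H hr hr (H.dvd_of_mem hu hu1)
  have h0 : (Nat.card G : ℂ) ≠ 0 := by exact_mod_cast Nat.card_pos.ne'
  rw [H.card_invol_eq_zero h2 (by rw [h3]; norm_num) hy2 hy2 hu hu1, Nat.cast_zero, zero_mul,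
    eq_comm, mul_eq_zero_iff_left h0, e1, e2, e3] at h4
  have h5 := T.reg hr
  rw [e1, e2, e3] at h5
  refine Cfsg.Agent.S4721.arith (O.δ_sign a T.ha) (O.δ_sign b T.hb) O.δ₀_sign a.charDegree_pos
    b.charDegree_pos ψ.charDegree_pos n1 n2 n3 T.degree_rel (by exact_mod_cast h5) ?_
  rw [sq, sq, sq]
  exact_mod_cast h4

/-- a perfect linear group of degree `p - e` -/
structure QData [Fintype G] {p : ℕ} {P : Sylow p G} (F : CenFrame p P) (ζ : IrrCharacter G) :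
    Prop where
  perf : commutator G = ⊤
  faith : ∀ g, ζ.1 g = ζ.1 1 → g = 1
  deg : charDegree ζ.1 + F.e = p
  lt : 2 * F.e < p

/-- the image of a Sylow subgroup in the central quotient -/
noncomputable abbrev sylZ [Finite G] {p : ℕ} [Fact p.Prime] (P : Sylow p G) :
    Sylow p (G ⧸ Subgroup.center G) := P.mapSurjective (QuotientGroup.mk'_surjective _)

theorem CenFrame.scp_sylZ [Finite G] {p : ℕ} [hp : Fact p.Prime] {P : Sylow p G}
    (F : CenFrame p P) : SCP p (sylZ P) := by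
  refine ⟨(F.sylow_map _ (QuotientGroup.ker_mk' _).le).1, fun x hx => ?_⟩
  obtain ⟨x, rfl⟩ := QuotientGroup.mk'_surjective _ x
  have h1 : x ∈ Subgroup.centralizer ((P : Subgroup G) : Set G) := fun u hu => by
    have h2 := hx _ (Subgroup.mem_map_of_mem (QuotientGroup.mk' _) hu)
    have hz : u⁻¹ * (x * u * x⁻¹) ∈ Subgroup.center G := by
      rw [← QuotientGroup.ker_mk' (Subgroup.center G), MonoidHom.mem_ker, map_mul, map_mul, map_mul,
        ← h2]
      simp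
    have h3 : Commute u (u⁻¹ * (x * u * x⁻¹)) := Subgroup.mem_center_iff.1 hz u
    have h4 := h3.mul_pow p
    rw [mul_inv_cancel_left, conj_pow, F.pow_p hu, mul_one, mul_inv_cancel, one_mul] at h4
    have h5 : orderOf (u⁻¹ * (x * u * x⁻¹)) = 1 :=
      ((Nat.dvd_prime hp.out).1 (orderOf_dvd_of_pow_eq_one h4.symm)).resolve_right fun h' =>
        F.center_reg hz h'.symm.dvd
    rw [orderOf_eq_one_iff, inv_mul_eq_one, eq_mul_inv_iff_mul_eq] at h5
    exact h5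
  obtain ⟨z, hz, v, hv, rfl⟩ := F.exists_decomp h1
  rw [map_mul, QuotientGroup.mk'_apply, (QuotientGroup.eq_one_iff z).2 hz, one_mul]
  exact Subgroup.mem_map_of_mem _ hv

theorem CenFrame.autIdx_sylZ [Finite G] {p : ℕ} [hp : Fact p.Prime] {P : Sylow p G}
    (F : CenFrame p P) : autIdx (sylZ P : Subgroup (G ⧸ Subgroup.center G)) = F.e := by
  refine AutFrame.autIdx_eq (p := p) ⟨QuotientGroup.mk' _ F.h, F.j, F.e, F.scp_sylZ.card,
    Subgroup.le_normalizer_map _ (Subgroup.mem_map_of_mem _ F.h_mem), ?_, F.prim, ?_⟩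
  · rintro _ ⟨v, hv, rfl⟩
    rw [← map_inv, ← map_mul, ← map_mul, F.hconj v hv, map_pow]
  · intro n hn
    rw [Sylow.coe_mapSurjective, normalizer_map_mk_sylow] at hn
    obtain ⟨n, hn, rfl⟩ := hn
    obtain ⟨i, hi, c, hc, rfl⟩ := F.gen n hn
    refine ⟨i, hi, QuotientGroup.mk' _ c, ?_, by rw [map_mul, map_pow]⟩
    rintro _ ⟨v, hv, rfl⟩
    rw [← map_mul, ← map_mul, hc v hv]

theorem SCP.isSelfCentPrime [Finite G] {p : ℕ} [hp : Fact p.Prime] {P : Sylow p G} (H : SCP p P)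
    {u : G} (hu : u ∈ (P : Subgroup G)) (hu1 : u ≠ 1) : IsSelfCentPrime p u :=
  ⟨orderOf_eq_of_card_prime H.card hu hu1, by
    rw [centralizer_singleton_of_card_prime H.card hu hu1, H.cen_eq,
      eq_zpowers_of_card_prime H.card hu hu1]⟩

namespace QData

variable [Fintype G] {p : ℕ} [hp : Fact p.Prime] {P : Sylow p G} {F : CenFrame p P}
  {ζ : IrrCharacter G} (D : QData F ζ)
include D

omit hp in
theorem le : charDegree ζ.1 + 2 ≤ p := by
  have := D.deg
  have := F.two_le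
  omega

omit hp in
theorem perf_quot : commutator (G ⧸ Subgroup.center G) = ⊤ := by
  have := map_commutator_eq G (QuotientGroup.mk' (Subgroup.center G))
  rw [D.perf, ← MonoidHom.range_eq_map, QuotientGroup.range_mk'] at this
  exact this.symm

theorem isSimple : IsSimpleGroup (G ⧸ Subgroup.center G) := by
  have H := F.scp_sylZ
  obtain ⟨u, hu, hu1⟩ := exists_ne_one_of_card_prime H.card
  have : Nontrivial (G ⧸ Subgroup.center G) := ⟨u, 1, hu1⟩
  refine ⟨fun K hK => ?_⟩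
  by_cases h : p ∣ Nat.card K
  · exact Or.inr (eq_top_iff.2 (D.perf_quot ▸ (H.isSelfCentPrime hu hu1).commutator_le h))
  · left
    have h1 := F.le_center_of_normal ζ.isCharacter D.faith D.le
      (K := K.comap (QuotientGroup.mk' _)) fun h2 => by
        obtain ⟨x, hx⟩ := exists_prime_orderOf_dvd_card' p h2
        have h3 := Subgroup.orderOf_dvd_natCard K x.2
        have h4 : orderOf (QuotientGroup.mk' (Subgroup.center G) x) ∣ p :=
          (orderOf_map_dvd _ _).trans (by rw [Subgroup.orderOf_coe, hx])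
        rcases (Nat.dvd_prime hp.out).1 h4 with h5 | h5
        · rw [orderOf_eq_one_iff, QuotientGroup.mk'_apply, QuotientGroup.eq_one_iff] at h5
          exact F.center_reg h5 (by rw [Subgroup.orderOf_coe, hx])
        · exact h (h5 ▸ h3)
    rw [eq_bot_iff]
    intro x hx
    obtain ⟨x, rfl⟩ := QuotientGroup.mk'_surjective _ x
    exact (QuotientGroup.eq_one_iff x).2 (h1 hx)

theorem exists_fam : ∃ (φ : Subgroup.center G →* ℂˣ) (E : ExcFam F φ), E.δ = 1 ∧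
    ∃ l, l ≠ 1 ∧ E.ψ l = ζ := by
  obtain ⟨φ, hφ⟩ := ζ.exists_overCen
  exact ⟨φ, F.exists_excFam_pos D.lt ζ D.deg (F.not_le_charKer D.faith) hφ⟩

/-- the character `ζ ζ̄` of the central quotient -/
theorem exists_f [Fintype (G ⧸ Subgroup.center G)] : ∃ f : G ⧸ Subgroup.center G → ℂ,
    IsCharacter _ f ∧ (∀ g : G, f g = ζ.1 g * conj (ζ.1 g)) ∧
      charDegree f = charDegree ζ.1 ^ 2 ∧ cmult f (IrrCharacter.triv _).1 = 1 ∧
      fixDim (sylZ P : Subgroup (G ⧸ Subgroup.center G)) f = charDegree ζ.1 := by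
  classical
  obtain ⟨φ, E, hδ, l, hl, rfl⟩ := D.exists_fam
  have hc := (E.ψ l).isCharacter.mul (E.ψ l).isCharacter.conj
  obtain ⟨f, hf, h1⟩ := hc.exists_deflate (Subgroup.center G) fun z hz x => by
    have := ((E.cen l hl).mul (E.cen l hl).cconj) ⟨z, hz⟩ x
    rw [MonoidHom.mul_apply, MonoidHom.inv_apply, mul_inv_cancel] at this
    simpa using this
  refine ⟨f, hf, h1, ?_, cmult_eq_of ?_, ?_⟩
  · apply charDegree_eq_of_one_eq
    rw [← QuotientGroup.mk_one, h1]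
    simp [(E.ψ l).one_eq_charDegree, sq]
  · rw [← classInner_comp_surjective (QuotientGroup.mk' _) (QuotientGroup.mk'_surjective _),
      Nat.cast_one, ← (E.ψ l).classInner_self, classInner_def, classInner_def]
    simp [h1]
  · have := Fintype.ofFinite (P : Subgroup G)
    have := Fintype.ofFinite (sylZ P : Subgroup (G ⧸ Subgroup.center G))
    obtain ⟨u, hu, hu1⟩ := exists_ne_one_of_card_prime F.card
    have H := F.scp_sylZ
    have hu2 : (u : G ⧸ Subgroup.center G) ≠ 1 := fun h => F.center_reg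
      ((QuotientGroup.eq_one_iff u).1 h) (orderOf_eq_of_card_prime F.card hu hu1).symm.dvd
    have h2 := hf.card_mul_fixDim (sylZ P : Subgroup (G ⧸ Subgroup.center G))
    have h3 := F.sum_mul_conj_of_val (E.ψ l).isCharacter (E.val l hl)
    have h4 := E.rmul_eq hl l
    rw [if_pos (F.orb_refl l), E.fixDim_eq_one hδ hl D.deg, hδ] at h4
    rw [show rmul P (E.ψ l).1 l = 0 by omega, hδ, (E.ψ l).one_eq_charDegree,
      sum_subgroup_eq_sum_range_of_card_prime F.card hu hu1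
        (fun g => (E.ψ l).1 g * conj ((E.ψ l).1 g))] at h3
    rw [sum_subgroup_eq_sum_range_of_card_prime H.card (Subgroup.mem_map_of_mem _ hu) hu2, H.card,
      Finset.sum_congr rfl fun i _ => (show f (QuotientGroup.mk' _ u ^ i) = _ from h1 (u ^ i))]
      at h2
    have h5 := congrArg (Nat.cast : ℕ → ℂ) D.deg
    have h0 : (p : ℂ) ≠ 0 := by exact_mod_cast hp.out.ne_zero
    refine Nat.cast_injective (R := ℂ) (mul_left_cancel₀ h0 ?_)
    rw [h2]
    refine h3.trans ?_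
    rw [← h5]
    simp
    ring

/-- the basic equation for the multiplicities in `ζ ζ̄` -/
theorem mult_eq [Fintype (G ⧸ Subgroup.center G)]
    (O : PrinOne p (sylZ P : Subgroup (G ⧸ Subgroup.center G))) {f : G ⧸ Subgroup.center G → ℂ}
    (hf : IsCharacter _ f) (h1 : charDegree f = charDegree ζ.1 ^ 2)
    (h2 : fixDim (sylZ P : Subgroup (G ⧸ Subgroup.center G)) f = charDegree ζ.1) :
    (F.e * charDegree ζ.1 : ℤ) = (p - 1) * ∑ χ ∈ O.X, O.δ χ * cmult f χ.1 +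
      O.δ₀ * F.e * ∑ ψ ∈ O.Y, (cmult f ψ.1 : ℤ) := by
  have h3 := O.fixDim_char F.scp_sylZ hf
  have h4 := congrArg (Nat.cast : ℕ → ℤ) D.deg
  rw [h1, h2, F.autIdx_sylZ] at h3
  push_cast at h3 h4
  linear_combination h3 + (charDegree ζ.1 : ℤ) * h4

omit hp in
theorem not_dvd_center {q : ℕ} (h : ¬ q ∣ charDegree ζ.1) {z : G}
    (hz : z ∈ Subgroup.center G) : ¬ q ∣ orderOf z := fun h1 =>
  h (h1.trans (orderOf_dvd_of_pow_eq_one (ζ.center_pow_charDegree D.perf D.faith hz)))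

/-- `ζ` is `q`-rational -/
theorem apply_pow {q : ℕ} (hq : q.Prime) (hqp : q ≠ p) (h : ¬ q ∣ charDegree ζ.1) {k : ℕ}
    (hk : ¬ q ∣ k) {g : G} (hg : ∃ j, orderOf g = q ^ j) : ζ.1 (g ^ k) = ζ.1 g := by
  classical
  obtain ⟨k', hk', h1, h2⟩ := exists_coprime_pow_eq (G := G) hq hk
  obtain ⟨φ, E, hδ, l, hl, rfl⟩ := D.exists_fam
  obtain ⟨m, hm, hlm⟩ := F.exists_not_orb D.lt hl
  set ξ := (E.ψ l).powConj k' hk' with hξ
  have h3 : ∀ m, rmul P ξ.1 m = rmul P (E.ψ l).1 m := fun m => by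
    unfold rmul
    congr 1
    funext v
    rw [hξ, IrrCharacter.powConj_apply, h1 _ fun h4 => hqp ((Nat.prime_dvd_prime_iff_eq hq hp.out).1
      (h4.trans (orderOf_dvd_of_pow_eq_one (F.pow_p v.2))))]
  have h4 := E.inner ξ.1 ξ.isCharacter (fun z x => by
    rw [hξ, IrrCharacter.powConj_apply, IrrCharacter.powConj_apply,
      Commute.mul_pow (Subgroup.mem_center_iff.1 z.2 x).symm,
      h1 _ (D.not_dvd_center h z.2), E.cen l hl]) l m hl hm
  rw [h3, h3, E.rmul_eq hl, E.rmul_eq hl, if_pos (F.orb_refl l), if_neg hlm, hδ] at h4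
  have h5 : ξ = E.ψ l := IrrCharacter.eq_of_classInner_ne_zero
    ((ξ.isCharacter.cmult_ne_zero_iff (E.ψ l).isCharacter).1 (by omega))
  rw [← h2 g hg, ← (E.ψ l).powConj_apply k' hk', ← hξ, h5]

theorem exists_int {q : ℕ} (hq : q.Prime) (hqp : q ≠ p) (h : ¬ q ∣ charDegree ζ.1) {g : G}
    (hg : ∃ j, orderOf g = q ^ j) : ∃ a : ℤ, ζ.1 g = a := by
  by_cases h1 : g = 1
  · exact ⟨charDegree ζ.1, by rw [h1, ζ.one_eq_charDegree]; simp⟩
  obtain ⟨r, hr⟩ := ζ.isCharacter.isGeneralizedCharacter.exists_rat_of_forall_pow (g := g)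
    fun k hk => D.apply_pow hq hqp h (fun h2 => by
      obtain ⟨j, hj⟩ := hg
      have h3 : q ∣ orderOf g := hj ▸ dvd_pow_self q fun h0 => h1 (by
        rwa [h0, pow_zero, orderOf_eq_one_iff] at hj)
      exact hq.one_lt.ne' (Nat.eq_one_of_dvd_coprimes hk h2 (h3.trans (orderOf_dvd_natCard g)))) hg
  obtain ⟨n, hn⟩ := exists_int_of_isIntegral_rat (hr ▸ ζ.isIntegral g)
  exact ⟨n, by rw [hr, ← hn, Rat.cast_intCast]⟩

end QData

/-- Minkowski's bound -/
theorem IsCharacter.card_sylow_le_of_int [Finite G] {χ : G → ℂ} (hχ : IsCharacter G χ)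
    (hf : ∀ g, χ g = χ 1 → g = 1) {q : ℕ} [hq : Fact q.Prime] (Q : Sylow q G)
    (h : ∀ g : G, (∃ j, orderOf g = q ^ j) → ∃ a : ℤ, χ g = a) {n : ℕ} (hn : charDegree χ = n) :
    Nat.card Q ≤ q ^ ∑ i ∈ Finset.range (n + 1), n / ((q - 1) * q ^ i) := by
  have h1 := index_charKer_le_of_rational Q.isPGroup' n n le_rfl _ (hχ.res Q) (fun σ g => by
    obtain ⟨a, ha⟩ := h g (by
      obtain ⟨j, hj⟩ := IsPGroup.iff_orderOf.1 Q.isPGroup' g
      exact ⟨j, by rw [Subgroup.orderOf_coe, hj]⟩)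
    rw [ha, map_intCast]) hn
  rwa [hχ.charKer_res, hχ.charKer_eq_bot_iff.2 hf, Subgroup.bot_subgroupOf, Subgroup.index_bot]
    at h1

end Cfsg
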