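import Cfsg.Agent.Lin.QuotS

/-! There is no perfect linear group of degree `16` with `19 ∣ |G : Z|` and automizer of
order `3`. -/

set_option autoImplicit false

namespace Cfsg

open scoped ComplexConjugate Pointwise

universe u v w

variable {G : Type u} [Group G]

theorem detChar_eq_one_of_perfect (hperf : commutator G = ⊤) (χ : G → ℂ) (g : G) :
    detChar χ g = 1 := by
  rw [← coe_detHom, unitsHom_apply_of_perfect hperf, Units.val_one]

theorem IrrCharacter.charCenter_eq_bot_of_simple [Finite G] [IsSimpleGroup G] (χ : IrrCharacter G)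
    (h : charDegree χ.1 ≠ 1) : charCenter χ.1 = ⊥ :=
  (IsSimpleGroup.eq_bot_or_eq_top_of_normal _ inferInstance).resolve_right fun h1 =>
    h (χ.charCenter_eq_top_iff.1 h1)

theorem IrrCharacter.eq_one_of_norm_eq [Finite G] (χ : IrrCharacter G) (hZ : charCenter χ.1 = ⊥)
    {g : G} (h : ‖χ.1 g‖ = charDegree χ.1) : g = 1 :=
  Subgroup.mem_bot.1 (hZ ▸ χ.mem_charCenter.2 h)

/-- second orthogonality over a character of the centre -/
theorem sum_norm_sq_overCen_le [Finite G] {φ : Subgroup.center G →* ℂˣ} (T : Finset (IrrCharacter G))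
    (hT : ∀ χ ∈ T, OverCen φ χ.1) {x : G} (hx : ∀ z ∈ Subgroup.center G, IsConj (z * x) x → z = 1) :
    (Nat.card (Subgroup.center G) : ℝ) * ∑ χ ∈ T, ‖χ.1 x‖ ^ 2 ≤
      Nat.card (Subgroup.centralizer ({x} : Set G)) := by
  classical
  have := Fintype.ofFinite (Subgroup.center G)
  choose μ hμ using fun χ : IrrCharacter G => χ.exists_overCen
  have h1 : ∑ χ : IrrCharacter G, ∑ z : Subgroup.center G,
      χ.1 (z * x) * conj (χ.1 x) * conj (φ z : ℂ) =
      Nat.card (Subgroup.centralizer ({x} : Set G)) := by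
    rw [Finset.sum_comm, Finset.sum_eq_single 1]
    · rw [← Finset.sum_mul, sum_irr_mul_conj, Subgroup.coe_one, one_mul, if_pos (IsConj.refl x)]
      simp
    · intro z _ hz
      rw [← Finset.sum_mul, sum_irr_mul_conj, if_neg fun h => hz (Subtype.ext (hx z z.2 h)), zero_mul]
    · simp
  have h2 : ∀ χ : IrrCharacter G, ∑ z : Subgroup.center G,
      χ.1 (z * x) * conj (χ.1 x) * conj (φ z : ℂ) = ((if μ χ = φ then
        (Nat.card (Subgroup.center G) : ℝ) * ‖χ.1 x‖ ^ 2 else 0 : ℝ) : ℂ) := fun χ => by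
    rw [Finset.sum_congr rfl (g := fun z => (μ χ z : ℂ) * conj (φ z : ℂ) * (χ.1 x * conj (χ.1 x)))
      fun z _ => by rw [hμ χ]; ring, ← Finset.sum_mul, sum_unitsHom_mul_conj, Complex.mul_conj,
      Complex.normSq_eq_norm_sq]
    split_ifs <;> simp
  rw [Finset.sum_congr rfl fun χ _ => h2 χ, ← Complex.ofReal_sum, ← Complex.ofReal_natCast,
    Complex.ofReal_inj] at h1
  rw [← h1, Finset.mul_sum]
  refine le_trans (Finset.sum_le_sum fun χ hχ => ?_) (Finset.sum_le_sum_of_subset_of_nonneg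
    (Finset.subset_univ T) fun χ _ _ => by split_ifs <;> positivity)
  rw [if_pos]
  ext z
  have h3 := (hμ χ z 1).symm.trans (hT χ hχ z 1)
  exact mul_right_cancel₀ χ.one_ne_zero h3

theorem card_centralizer_le_mul [Finite G] (N : Subgroup G) [N.Normal] (x : G) :
    Nat.card (Subgroup.centralizer ({x} : Set G)) ≤
      Nat.card N * Nat.card (Subgroup.centralizer ({(x : G ⧸ N)} : Set (G ⧸ N))) := by
  rw [← SetLike.coe_sort_coe (Subgroup.centralizer ({(x : G ⧸ N)} : Set (G ⧸ N))),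
    ← QuotientGroup.card_preimage_mk]
  refine Nat.card_mono (Set.toFinite _) fun c hc => ?_
  have := Subgroup.mem_centralizer_singleton_iff.1 hc
  refine Subgroup.mem_centralizer_singleton_iff.2 ?_
  rw [← QuotientGroup.mk_mul, ← QuotientGroup.mk_mul, this]

/-- values of a character of defect zero on the centralizer of a Sylow subgroup of order `q` -/
theorem IrrCharacter.exists_eig_of_defect_zero [Finite G] {q : ℕ} [hq : Fact q.Prime]
    (θ : IrrCharacter G) (Q : Sylow q G) (hQ : Nat.card Q = q) {n : ℕ}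
    (hd : charDegree θ.1 = q * n) {c : G} (hc : c ∈ Subgroup.centralizer ((Q : Subgroup G) : Set G))
    (hr : ¬ q ∣ orderOf c) : ∃ ε : Fin n → ℂ, (∀ i, ε i ^ orderOf c = 1) ∧
      (∀ k : ℕ, θ.1 (c ^ k) = q * ∑ i, ε i ^ k) ∧ detChar θ.1 c = (∏ i, ε i) ^ q := by
  have := Fintype.ofFinite (Q : Subgroup G)
  have h0 : (q : ℂ) ≠ 0 := by exact_mod_cast hq.out.ne_zero
  have key : ∀ s ∈ Subgroup.centralizer ((Q : Subgroup G) : Set G), ¬ q ∣ orderOf s →
      (Nat.card Q : ℂ)⁻¹ * ∑ v : (Q : Subgroup G), θ.1 (s * v) = (q : ℂ)⁻¹ * θ.1 s := by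
    intro s hs hsr
    rw [Finset.sum_eq_single 1, hQ]
    · simp
    · intro v _ hv
      refine θ.eq_zero_of_ordProj_dvd (p := q) (by
        rw [← Q.card_eq_multiplicity, hQ, hd]; simp) ?_
      rw [← hs v v.2]
      exact dvd_orderOf_sec hQ v.2 (fun h => hv (Subtype.ext h)) hs hsr
    · simp
  have hα := θ.isCharacter.isCharacter_fix Q
  have h1 := hα.exists_eigenvalues ⟨c, Subgroup.centralizer_le_normalizer _ hc⟩
  rw [charDegree_eq_of_one_eq (n := n) (by
    rw [Subgroup.coe_one, key 1 (one_mem _) (by simp [hq.out.ne_one]), θ.one_eq_charDegree, hd]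
    field_simp
    push_cast
    rfl)] at h1
  obtain ⟨ε, h2, h3, -, -⟩ := h1
  rw [Subgroup.orderOf_mk] at h2
  have h4 : ∀ k : ℕ, θ.1 (c ^ k) = q * ∑ i, ε i ^ k := fun k => by
    rw [← h3 k, Subgroup.coe_pow, key _ (pow_mem hc k) fun h => hr (h.trans (orderOf_pow_dvd k))]
    field_simp
  refine ⟨ε, h2, h4, ?_⟩
  rw [detChar_eq_prod_of_forall_pow θ.isCharacter (ι := Fin q × Fin n) (ε := fun i => ε i.2)
    (fun i h => by
      have := h2 i.2
      rw [h, zero_pow (orderOf_pos c).ne'] at this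
      exact zero_ne_one this) fun k => by rw [h4, Fintype.sum_prod_type]; simp]
  rw [Fintype.prod_prod_type]
  simp

theorem IrrCharacter.card_centralizer_le_of_two_mul [Finite G] {q : ℕ} [hq : Fact q.Prime]
    (hperf : commutator G = ⊤) (θ : IrrCharacter G) (hZ : charCenter θ.1 = ⊥) (Q : Sylow q G)
    (hQ : Nat.card Q = q) (hd : charDegree θ.1 = q * 2)
    (hint : ∀ c ∈ Subgroup.centralizer ((Q : Subgroup G) : Set G), ¬ q ∣ orderOf c →
      ∃ a : ℤ, θ.1 c = a) :
    Nat.card (Subgroup.centralizer ((Q : Subgroup G) : Set G)) ≤ 3 * q := by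
  classical
  set C := Subgroup.centralizer ((Q : Subgroup G) : Set G) with hC
  have h0 : (q : ℂ) ≠ 0 := by exact_mod_cast hq.out.ne_zero
  have h1 : θ.1 1 = q * 2 := by rw [θ.one_eq_charDegree, hd]; push_cast; rfl
  have hneg : ∀ g, θ.1 g ≠ q * (-2) := fun g h => by
    have h2 := θ.eq_one_of_norm_eq hZ (g := g) (by rw [h, hd]; simp)
    rw [h2, h1, mul_right_inj' h0] at h
    norm_num at h
  have key : ∀ c ∈ C, ¬ q ∣ orderOf c → c ≠ 1 → θ.1 c = -q := fun c hc hr hc1 => by
    obtain ⟨ε, h2, h3, h4⟩ := θ.exists_eig_of_defect_zero Q hQ hd hc hr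
    simp only [Fin.sum_univ_two] at h3
    rw [detChar_eq_one_of_perfect hperf, Fin.prod_univ_two] at h4
    have h5 : ε 0 * ε 1 = 1 := by
      have : (ε 0 * ε 1) ^ Nat.gcd q (orderOf c) = 1 :=
        pow_gcd_eq_one.2 ⟨h4.symm, by rw [mul_pow, h2, h2, mul_one]⟩
      rwa [(Nat.Prime.coprime_iff_not_dvd hq.out).2 hr, pow_one] at this
    obtain ⟨b, hb⟩ := hint c hc hr
    have h6 := h3 1
    rw [pow_one, pow_one, pow_one] at h6
    obtain ⟨a, rfl⟩ := int_dvd_of_eq_mul_isIntegral (a := b) (b := q) (z := ε 0 + ε 1)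
      ((isIntegral_of_pow_eq_one (orderOf_pos c).ne' (h2 0)).add
        (isIntegral_of_pow_eq_one (orderOf_pos c).ne' (h2 1))) (by rw [← hb, h6]; simp)
    have h7 : ε 0 + ε 1 = a := mul_left_cancel₀ h0 (by rw [← h6, hb]; simp)
    have h8 := θ.isCharacter.norm_le c
    rw [hb, hd, Complex.norm_intCast] at h8
    have h9 : |a| ≤ 2 := by
      have hq0 : (0 : ℝ) < q := by exact_mod_cast hq.out.pos
      push_cast at h8
      rw [abs_mul, abs_of_pos hq0, mul_le_mul_iff_right₀ hq0] at h8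
      rw [← Int.cast_abs] at h8
      exact Int.cast_le.1 (h8.trans_eq (by norm_num))
    rw [abs_le] at h9
    obtain ⟨h9, h10⟩ := h9
    interval_cases a
    · exact absurd (by rw [h6, h7]; simp) (hneg c)
    · rw [h6, h7]; simp
    · refine absurd ?_ (hneg (c ^ 2))
      rw [h3]
      push_cast at h7
      linear_combination (q * (ε 0 + ε 1)) * h7 - 2 * q * h5
    · refine absurd ?_ (hneg (c ^ 3))
      rw [h3]
      push_cast at h7
      linear_combination (q * ((ε 0 + ε 1) ^ 2 + (ε 0 + ε 1) - 2)) * h7 -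
        3 * q * (ε 0 + ε 1) * h5
    · exact absurd (θ.eq_one_of_norm_eq hZ (by rw [h6, h7, hd]; simp)) hc1
  have := Fintype.ofFinite C
  set L := Finset.univ.filter fun c : C => ¬ q ∣ orderOf (c : G) with hL
  have h1L : (1 : C) ∈ L := by simp [hL, hq.out.ne_one]
  have h2 := θ.isCharacter.card_mul_fixDim C
  rw [← Finset.sum_filter_add_sum_filter_not Finset.univ fun c : C => q ∣ orderOf (c : G),
    Finset.sum_eq_zero fun c hc => θ.eq_zero_of_ordProj_dvd (p := q) (by
      rw [← Q.card_eq_multiplicity, hQ, hd]; simp) (Finset.mem_filter.1 hc).2, zero_add, ← hL,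
    ← Finset.add_sum_erase _ _ h1L, Subgroup.coe_one, h1,
    Finset.sum_congr rfl fun (c : C) hc => key c c.2 (Finset.mem_filter.1 (Finset.mem_erase.1 hc).2).2
      fun h => (Finset.mem_erase.1 hc).1 (Subtype.ext h), Finset.sum_const,
    Finset.card_erase_of_mem h1L] at h2
  have h3 : L.card ≤ 3 := by
    obtain ⟨m, hm⟩ : ∃ m, L.card = m + 1 := ⟨L.card - 1, by
      have := Finset.card_pos.2 ⟨_, h1L⟩; omega⟩
    rw [hm, Nat.add_sub_cancel, nsmul_eq_mul] at h2
    have h4 : Nat.card C * fixDim C θ.1 + m * q = q * 2 := by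
      apply Nat.cast_injective (R := ℂ)
      push_cast
      linear_combination h2
    have h5 : m * q ≤ 2 * q := by omega
    have := Nat.le_of_mul_le_mul_right h5 hq.out.pos
    omega
  obtain ⟨u, hu, hu1⟩ := exists_ne_one_of_card_prime hQ
  have h4 : ∀ c : C, pPart q (c : G) ∈ (Q : Subgroup G) := fun c =>
    mem_sylow_of_commute_of_card_prime Q hQ hu hu1 (by
      obtain ⟨k, hk⟩ := exists_orderOf_pPart (p := q) (c : G)
      exact IsPGroup.of_card (by rw [Nat.card_zpowers, hk])) (pPart_mem q c.2 u hu)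
  have h5 := Nat.card_le_card_of_injective (fun c : C => ((⟨⟨pRegPart q c, pRegPart_mem q c.2⟩,
    Finset.mem_filter.2 ⟨Finset.mem_univ _, not_dvd_orderOf_pRegPart (p := q) (c : G)⟩⟩,
      ⟨_, h4 c⟩) : L × Q))
    fun a b h => by
      simp only [Prod.mk.injEq, Subtype.mk.injEq] at h
      exact Subtype.ext (by rw [← pPart_mul_pRegPart q (a : G), h.1, h.2, pPart_mul_pRegPart])
  rw [Nat.card_prod, hQ, Nat.card_eq_fintype_card (α := L), Fintype.card_coe] at h5
  exact h5.trans (Nat.mul_le_mul_right _ h3)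

theorem nineteen_arith {a b c na nb M fa fb fc : ℕ} (ha : (19 : ℤ) * fa = a + (19 - 1) * 1)
    (hb : (19 : ℤ) * fb = b + (19 - 1) * (-1)) (hc : (19 : ℤ) * fc = c + (-1) * 3)
    (h1 : (1 : ℤ) + 1 * a + (-1) * b + (-1) * c = 0)
    (h2 : (48 : ℤ) = 18 * (1 + na - nb) - 3 * M)
    (h3 : 1 + na * a + nb * b + M * c ≤ 256) (h4 : IsSquare (a * b * c)) :
    a = 77 ∧ b = 56 ∧ c = 22 := by
  have h5 : 2 * a ≤ na * a := Nat.mul_le_mul_right _ (by omega)
  have h6 : 2 * c ≤ M * c := Nat.mul_le_mul_right _ (by omega)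
  obtain ⟨i, rfl⟩ : ∃ i, c = 19 * i + 3 := ⟨c / 19, by omega⟩
  obtain ⟨j, rfl⟩ : ∃ j, b = 19 * j + 18 := ⟨b / 19, by omega⟩
  obtain rfl : a = 19 * (i + j) + 20 := by omega
  have h7 : i ≤ 2 := by omega
  have h8 : j ≤ 5 := by omega
  interval_cases i <;> interval_cases j <;> first
    | omega
    | (exfalso; revert h4; norm_num)

theorem QData.not_nineteen [Fintype G] [hp : Fact (Nat.Prime 19)] {P : Sylow 19 G}
    {F : CenFrame 19 P} {ζ : IrrCharacter G} (D : QData F ζ) (he : F.e = 3) : False := by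
  classical
  have := Fintype.ofFinite (G ⧸ Subgroup.center G)
  have := D.isSimple
  have hd : charDegree ζ.1 = 16 := by have := D.deg; omega
  have H := F.scp_sylZ
  have h3 := F.autIdx_sylZ.trans he
  obtain ⟨O⟩ := exists_prinOne _ H.card
  obtain ⟨f, hf, -, hf1, hf2, hf3⟩ := D.exists_f
  have hev : 2 ∣ Nat.card (G ⧸ Subgroup.center G) :=
    (show 2 ∣ charDegree ζ.1 by rw [hd]; norm_num).trans ζ.charDegree_dvd_index_center
  have key : ∃ a b ψ, O.Tri a b ψ ∧ charDegree a.1 = 77 ∧ charDegree b.1 = 56 ∧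
      charDegree ψ.1 = 22 := by
    have k1 : ∀ a b ψ, O.Tri a b ψ → O.δ a = 1 → O.δ b = -1 → O.δ₀ = -1 →
        charDegree a.1 = 77 ∧ charDegree b.1 = 56 ∧ charDegree ψ.1 = 22 := by
      intro a b ψ T ha hb h0
      have e1 := O.fixDim_X H.card T.ha
      have e2 := O.fixDim_X H.card T.hb
      have e3 := O.fixDim_Y H.card T.hψ
      have e4 := T.degree_rel
      have e5 := D.mult_eq O hf hf1 hf3
      have e6 := O.degree_split hf T.hψ
      rw [T.sum, O.δ_triv, hf2, he, hd, ha, hb, h0, ← Nat.cast_sum] at e5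
      rw [T.sum, hf2, hf1, hd, IrrCharacter.charDegree_triv] at e6
      rw [ha] at e1
      rw [hb] at e2
      rw [h0, h3] at e3
      rw [ha, hb, h0] at e4
      exact nineteen_arith (na := cmult f a.1) (nb := cmult f b.1) (M := ∑ ξ ∈ O.Y, cmult f ξ.1)
        e1 e2 e3 e4 (by push_cast at e5 ⊢; linear_combination e5) (by omega)
        (T.square H (by norm_num) h3 hev).2
    obtain ⟨a, b, ψ, T⟩ := O.exists_tri h3
    have e0 := (T.square H (by norm_num) h3 hev).1
    rcases O.δ₀_sign with h0 | h0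
    · exfalso
      have ha : O.δ a = -1 := by
        rcases O.δ_sign a T.ha with h | h <;> rcases O.δ_sign b T.hb with h' | h' <;> omega
      have hb : O.δ b = -1 := by omega
      have e1 := O.fixDim_X H.card T.ha
      have e3 := O.fixDim_Y H.card T.hψ
      have e4 := T.degree_rel
      have e5 := D.mult_eq O hf hf1 hf3
      have e6 := O.degree_split hf T.hψ
      rw [T.sum, O.δ_triv, hf2, he, hd, ha, hb, h0, ← Nat.cast_sum] at e5
      rw [T.sum, hf2, hf1, hd, IrrCharacter.charDegree_triv] at e6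
      rw [ha] at e1
      rw [h0, h3] at e3
      rw [ha, hb, h0] at e4
      have := Nat.mul_le_mul_right (charDegree ψ.1) (show 10 ≤ ∑ ξ ∈ O.Y, cmult f ξ.1 by omega)
      omega
    · rcases O.δ_sign a T.ha with h | h
      · exact ⟨a, b, ψ, T, k1 a b ψ T h (by omega) h0⟩
      · exact ⟨b, a, ψ, T.symm, k1 b a ψ T.symm (by omega) h h0⟩
  obtain ⟨a, b, ψ, T, ha, hb, hψ⟩ := key
  have : Fact (Nat.Prime 11) := ⟨by norm_num⟩
  have hint := fun g (hg : ∃ j, orderOf g = 11 ^ j) =>
    D.exists_int (q := 11) (by norm_num) (by norm_num) (by rw [hd]; norm_num) hg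
  obtain ⟨Q⟩ : Nonempty (Sylow 11 G) := inferInstance
  have hQ1 : Nat.card Q ≤ 11 := by
    simpa [Finset.sum_range_succ] using ζ.isCharacter.card_sylow_le_of_int D.faith Q hint hd
  have h11 : 11 ∣ Nat.card (G ⧸ Subgroup.center G) :=
    (show 11 ∣ charDegree ψ.1 by rw [hψ]; norm_num).trans ψ.charDegree_dvd_card
  have hQ2 : Nat.card (sylZ Q) = 11 := le_antisymm
    ((Nat.le_of_dvd Nat.card_pos (Subgroup.card_map_dvd _ _)).trans hQ1)
    (Nat.le_of_dvd Nat.card_pos ((sylZ Q).dvd_card_of_dvd_card h11))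
  obtain ⟨_, ⟨x, hx, rfl⟩, hx1⟩ := exists_ne_one_of_card_prime hQ2
  have hx2 : x ≠ 1 := fun h => hx1 (by rw [h, map_one])
  obtain ⟨k, hk⟩ := IsPGroup.iff_orderOf.1 Q.isPGroup' ⟨x, hx⟩
  rw [Subgroup.orderOf_mk] at hk
  have hX : ∀ χ ∈ O.X, ∀ g, ∃ n : ℤ, χ.1 g = n := fun χ hχ => O.X_int H hχ fun ξ hξ h => by
    rcases hξ with hξ | hξ
    · rcases T.cases χ hχ with rfl | rfl | rfl <;> rcases T.cases ξ hξ with rfl | rfl | rfl <;>
        simp_all
    · rw [O.Y_deg_eq hξ T.hψ] at h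
      rcases T.cases χ hχ with rfl | rfl | rfl <;> simp_all
  have h33 := ψ.card_centralizer_le_of_two_mul D.perf_quot
    (ψ.charCenter_eq_bot_of_simple (by omega)) (sylZ Q) hQ2 hψ fun c hc _ => by
      have h1 : ¬ 19 ∣ orderOf c := fun h => by
        have h2 := H.pow_eq_one_of_commute h (hc _ (Subgroup.mem_map_of_mem _ hx)).symm
        have h4 := orderOf_dvd_of_pow_eq_one h2
        rw [orderOf_eq_of_card_prime hQ2 (Subgroup.mem_map_of_mem _ hx) hx1] at h4
        norm_num at h4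
      have h2 := T.reg h1
      obtain ⟨m, hm⟩ := hX a T.ha c
      obtain ⟨n, hn⟩ := hX b T.hb c
      refine ⟨-O.δ₀ * (1 + O.δ a * m + O.δ b * n), ?_⟩
      have h4 := congrArg (Int.cast : ℤ → ℂ) O.δ₀_sq
      push_cast at h4 ⊢
      rw [hm, hn] at h2
      linear_combination O.δ₀ * h2 - ψ.1 c * h4
  rw [← centralizer_singleton_of_card_prime hQ2 (Subgroup.mem_map_of_mem _ hx) hx1] at h33
  have h4 := (card_centralizer_le_mul (Subgroup.center G) x).trans (Nat.mul_le_mul_left _ h33)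
  obtain ⟨φ, E, -, l, hl, rfl⟩ := D.exists_fam
  have := Fintype.ofFinite ((P : Subgroup G) →* ℂˣ)
  have h5 := sum_norm_sq_overCen_le (φ := φ) ((Finset.univ.erase 1).image E.ψ) (fun χ hχ => by
    obtain ⟨m, hm, rfl⟩ := Finset.mem_image.1 hχ
    exact E.cen m (Finset.mem_erase.1 hm).1) (x := x) fun z hz h => by
      have h6 : (z * x) ^ 11 ^ k = 1 := by
        rw [← hk, orderOf_eq_of_isConj h, pow_orderOf_eq_one]
      rw [Commute.mul_pow (Subgroup.mem_center_iff.1 hz x).symm, ← hk, pow_orderOf_eq_one, mul_one,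
        hk] at h6
      refine orderOf_eq_one_iff.1 (Nat.eq_one_of_dvd_coprimes (Nat.Coprime.pow_left k
        ((Nat.Prime.coprime_iff_not_dvd (p := 11) (by norm_num)).2
          (D.not_dvd_center (by rw [hd]; norm_num) hz))) (orderOf_dvd_of_pow_eq_one h6) dvd_rfl)
  obtain ⟨n, hn⟩ := hint x ⟨k, hk⟩
  have h6 := (E.ψ l).isCharacter.modEq_charDegree_of_pElement (p := 11) (by norm_num)
    (k := k) (by rw [← hk, pow_orderOf_eq_one]) hn
  have h7 := (E.ψ l).isCharacter.norm_le x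
  have h8 : n ≠ 16 := fun h => hx2 (D.faith x (by rw [hn, h, (E.ψ l).one_eq_charDegree, hd]; simp))
  rw [hd] at h6 h7
  rw [hn, Complex.norm_intCast, ← Int.cast_abs] at h7
  have h9 : |n| ≤ 16 := Int.cast_le.1 (h7.trans_eq (by norm_num))
  have h10 : (25 : ℝ) ≤ ‖(E.ψ l).1 x‖ ^ 2 := by
    rw [hn, Complex.norm_intCast, sq_abs]
    have : 25 ≤ n ^ 2 := by
      rw [abs_le] at h9
      unfold Int.ModEq at h6
      obtain rfl | rfl : n = 5 ∨ n = -6 := by omega
      all_goals norm_num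
    exact_mod_cast this
  have hr : ¬ 19 ∣ orderOf x := fun h => by
    have := (Nat.Prime.dvd_of_dvd_pow hp.out (hk ▸ h))
    norm_num at this
  have h12 := E.sum_comp fun η => ‖η.1 x‖ ^ 2
  have : IsMulCommutative (P : Subgroup G) := ⟨⟨fun a b =>
    Subtype.ext (le_centralizer_of_card_prime F.card b.2 a a.2)⟩⟩
  rw [Finset.sum_congr rfl fun m hm => by rw [E.reg m l (Finset.mem_erase.1 hm).1 hl x hr],
    Finset.sum_const, Finset.card_erase_of_mem (Finset.mem_univ _), Finset.card_univ,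
    ← Nat.card_eq_fintype_card, card_unitsHom_of_comm, F.card, he] at h12
  have h13 : (Nat.card (Subgroup.centralizer ({x} : Set G)) : ℝ) ≤
      Nat.card (Subgroup.center G) * 33 := by exact_mod_cast h4
  have h14 : (0 : ℝ) < Nat.card (Subgroup.center G) := by exact_mod_cast Nat.card_pos
  have h15 := le_of_mul_le_mul_left (h5.trans h13) h14
  simp only [nsmul_eq_mul] at h12
  norm_num at h12
  linarith

end Cfsg
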