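import Cfsg.Agent.Lin.Fourier

/-! Characters of degree at most `p - 2` of groups with a Sylow subgroup of order `p`. -/

set_option autoImplicit false
set_option linter.unusedSectionVars false

namespace Cfsg

open scoped ComplexConjugate

universe u v

variable {G : Type u} [Group G]

theorem unitsHom_pow_pow (l : G →* ℂˣ) (a b : ℕ) : (l ^ a) ^ b = l ^ (a * b) :=
  (pow_mul l a b).symm

namespace AutFrame

variable {p : ℕ} {P : Subgroup G} (F : AutFrame p P)

/-- the sum of the conjugates of a linear character -/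
noncomputable def osum (l : P →* ℂˣ) (v : P) : ℂ := ∑ i ∈ Finset.range F.e, (l v : ℂ) ^ F.j ^ i

/-- conjugate linear characters -/
def Orb (l m : P →* ℂˣ) : Prop := ∃ i < F.e, m = l ^ F.j ^ i

theorem osum_one (l : P →* ℂˣ) : F.osum l 1 = F.e := by simp [osum]

theorem osum_eq (l : P →* ℂˣ) (v : P) :
    F.osum l v = ∑ i ∈ Finset.range F.e, ((l ^ F.j ^ i) v : ℂ) := by simp [osum]

theorem orb_refl (l : P →* ℂˣ) : F.Orb l l := ⟨0, F.e_pos, by rw [pow_zero]; exact (pow_one l).symm⟩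

variable [Finite G] [hp : Fact p.Prime]

omit [Finite G] hp in
include F in
theorem hom_pow_card (l : P →* ℂˣ) : l ^ p = 1 := by
  ext v
  rw [MonoidHom.pow_apply, ← map_pow, ← F.card, pow_card_eq_one', map_one, MonoidHom.one_apply]

omit [Finite G] in
include F in
theorem orderOf_hom {l : P →* ℂˣ} (hl : l ≠ 1) : orderOf l = p :=
  orderOf_eq_prime (F.hom_pow_card l) hl

omit [Finite G] in
theorem orb_pow (l : P →* ℂˣ) (i : ℕ) : F.Orb l (l ^ F.j ^ i) :=
  ⟨_, Nat.mod_lt i F.e_pos, (F.pow_j_pow_mod (u := l) (F.hom_pow_card l) i).symm⟩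

variable {F} in
theorem Orb.trans {l m n : P →* ℂˣ} (h : F.Orb l m) (h' : F.Orb m n) : F.Orb l n := by
  obtain ⟨i, -, rfl⟩ := h
  obtain ⟨k, -, rfl⟩ := h'
  rw [unitsHom_pow_pow, ← pow_add]
  exact F.orb_pow _ _

variable {F} in
theorem Orb.symm {l m : P →* ℂˣ} (h : F.Orb l m) : F.Orb m l := by
  obtain ⟨i, hi, rfl⟩ := h
  have := F.orb_pow (l ^ F.j ^ i) (F.e - i)
  have h1 : l ^ F.j ^ F.e = l := by
    have := F.pow_j_pow_mod (u := l) (F.hom_pow_card l) F.e
    rw [Nat.mod_self, pow_zero, pow_one] at this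
    exact this.symm
  rwa [unitsHom_pow_pow, ← pow_add, Nat.add_sub_cancel' hi.le, h1] at this

variable {F} in
theorem Orb.ne_one {l m : P →* ℂˣ} (h : F.Orb l m) (hl : l ≠ 1) : m ≠ 1 := by
  rintro rfl
  obtain ⟨i, -, hi⟩ := h.symm
  exact hl (hi.trans (one_pow (M := P →* ℂˣ) _))

omit [Finite G] hp in
variable {F} in
theorem Orb.pow {l m : P →* ℂˣ} (h : F.Orb l m) (k : ℕ) : F.Orb (l ^ k) (m ^ k) := by
  obtain ⟨i, hi, rfl⟩ := h
  exact ⟨i, hi, by rw [unitsHom_pow_pow, unitsHom_pow_pow, mul_comm]⟩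

omit [Finite G] hp in
variable {F} in
theorem Orb.inv {l m : P →* ℂˣ} (h : F.Orb l m) : F.Orb l⁻¹ m⁻¹ := by
  obtain ⟨i, hi, rfl⟩ := h
  exact ⟨i, hi, (inv_pow l _).symm⟩

theorem card_orb [Fintype (P →* ℂˣ)] {l : P →* ℂˣ} (hl : l ≠ 1) [DecidablePred (F.Orb l)] :
    (Finset.univ.filter (F.Orb l)).card = F.e := by
  classical
  rw [← Finset.card_range F.e]
  symm
  refine Finset.card_bij (fun i _ => l ^ F.j ^ i) (fun i _ => by simpa using F.orb_pow l i)
    (fun a ha b hb h => F.pow_inj_of_orderOf (F.orderOf_hom hl) (by simpa using ha)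
      (by simpa using hb) h) fun m hm => ?_
  obtain ⟨i, hi, rfl⟩ := (Finset.mem_filter.1 hm).2
  exact ⟨i, by simpa using hi, rfl⟩

theorem sum_osum_mul_conj [Fintype P] {l : P →* ℂˣ} (hl : l ≠ 1) (m : P →* ℂˣ)
    [Decidable (F.Orb l m)] :
    ∑ v : P, F.osum l v * conj (m v : ℂ) = if F.Orb l m then (p : ℂ) else 0 := by
  classical
  simp only [osum_eq, Finset.sum_mul]
  rw [Finset.sum_comm]
  simp only [sum_unitsHom_mul_conj, F.card]
  split_ifs with h
  · obtain ⟨i, hi, rfl⟩ := h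
    rw [Finset.sum_eq_single i, if_pos rfl]
    · intro k hk hki
      exact if_neg fun h => hki (F.pow_inj_of_orderOf (F.orderOf_hom hl) (by simpa using hk) hi h)
    · intro h; exact absurd (Finset.mem_range.2 hi) h
  · exact Finset.sum_eq_zero fun i _ => if_neg fun h' : _ = m => h (h' ▸ F.orb_pow l i)

omit [Finite G] hp in
theorem isCharacter_osum (l : P →* ℂˣ) : IsCharacter P (F.osum l) := by
  have := IsCharacter.sum (Finset.range F.e) (χ := fun i (v : P) => ((l ^ F.j ^ i) v : ℂ))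
    fun i _ => isCharacter_unitsHom _
  convert this using 1
  ext v
  rw [osum_eq, Finset.sum_apply]

theorem osum_ne_zero (l : P →* ℂˣ) (v : P) : F.osum l v ≠ 0 := fun h => by
  have h1 := (F.isCharacter_osum l).dvd_charDegree_of_eq_zero hp.out (k := 1) (x := v)
    (by rw [pow_one, ← F.card, pow_card_eq_one']) h
  rw [charDegree_eq_of_one_eq (F.osum_one l)] at h1
  exact F.not_dvd_e h1

omit hp in
theorem conj_osum (l : P →* ℂˣ) (v : P) : conj (F.osum l v) = F.osum l⁻¹ v := by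
  simp only [osum, map_sum, map_pow, conj_unitsHom, map_inv, MonoidHom.inv_apply]

omit [Finite G] hp in
theorem osum_pow (l : P →* ℂˣ) (v : P) (k : ℕ) : F.osum l (v ^ k) = F.osum (l ^ k) v := by
  simp only [osum, map_pow, MonoidHom.pow_apply]

omit hp in
variable {F} in
theorem Orb.rmul_eq {l m : P →* ℂˣ} (h : F.Orb l m) {χ : G → ℂ} (hχ : IsCharacter G χ) :
    rmul P χ m = rmul P χ l := by
  obtain ⟨i, -, rfl⟩ := h
  exact hχ.rmul_pow (fun v hv => F.conj_pow hv i) l

omit hp in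
theorem sum_mul_conj_of_val [Fintype P] {χ ξ : G → ℂ} (hχ : IsCharacter G χ) {c : ℤ}
    {l : P →* ℂˣ} (h : ∀ v : P, v ≠ 1 → ξ v = c * F.osum l v) :
    ∑ v : P, χ v * conj (ξ v) = χ 1 * (conj (ξ 1) - c * F.e) + c * F.e * (p * rmul P χ l) := by
  classical
  have h1 : ∑ v : P, χ v * conj (c * F.osum l v) = c * F.e * (p * rmul P χ l) := by
    simp only [osum_eq, map_mul, map_intCast, map_sum, Finset.mul_sum]
    rw [Finset.sum_comm, Finset.sum_congr rfl (g := fun _ => (c : ℂ) * (p * rmul P χ l))]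
    · simp [mul_assoc, mul_left_comm]
    · intro i _
      have := hχ.card_mul_rmul P (l ^ F.j ^ i)
      rw [F.card, hχ.rmul_pow (fun v hv => F.conj_pow hv i) l] at this
      rw [this, Finset.mul_sum]
      exact Finset.sum_congr rfl fun v _ => by ring
  rw [← h1, ← Finset.add_sum_erase _ _ (Finset.mem_univ (1 : P)),
    ← Finset.add_sum_erase _ _ (Finset.mem_univ (1 : P)),
    Finset.sum_congr rfl fun v hv => by rw [h v (Finset.ne_of_mem_erase hv)]]
  simp only [OneMemClass.coe_one, osum_one, map_mul, map_intCast, map_natCast]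
  ring

theorem card_mul_rmul_of_val {χ : G → ℂ} (hχ : IsCharacter G χ) {c : ℤ} {l : P →* ℂˣ}
    (hl : l ≠ 1) (h : ∀ v : P, v ≠ 1 → χ v = c * F.osum l v) (m : P →* ℂˣ)
    [Decidable (F.Orb l m)] : (p : ℤ) * rmul P χ m =
      charDegree χ - c * F.e + if F.Orb l m then c * p else 0 := by
  classical
  have := Fintype.ofFinite P
  have h1 := hχ.card_mul_rmul P m
  have h2 := congrArg (fun x => (c : ℂ) * x) (F.sum_osum_mul_conj hl m)
  simp only [Finset.mul_sum] at h2
  rw [← Finset.add_sum_erase _ _ (Finset.mem_univ (1 : P))] at h1 h2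
  rw [Finset.sum_congr rfl fun v hv => by rw [h v (Finset.ne_of_mem_erase hv), mul_assoc],
    F.card] at h1
  simp only [OneMemClass.coe_one, osum_one, map_one, Units.val_one, mul_one,
    hχ.one_eq_charDegree] at h1 h2
  have h3 : (p : ℂ) * rmul P χ m =
      charDegree χ - c * F.e + if F.Orb l m then (c : ℂ) * p else 0 := by
    rw [h1, ← mul_zero (c : ℂ), ← mul_ite, ← h2]; ring
  exact_mod_cast h3

end AutFrame

theorem IsCharacter.le_charKer_of_fixDim [Finite G] {χ : G → ℂ} (hχ : IsCharacter G χ)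
    {P : Subgroup G} (h : fixDim P χ = charDegree χ) : P ≤ charKer χ := by
  have := Fintype.ofFinite P
  rw [hχ.le_charKer_iff_classInner, ← hχ.cast_fixDim, h, hχ.one_eq_charDegree]

theorem IsCharacter.le_charKer_of_const [Finite G] {χ : G → ℂ} (hχ : IsCharacter G χ) {p : ℕ}
    [hp : Fact p.Prime] {P : Subgroup G} (hP : Nat.card P = p) (hd : charDegree χ + 2 ≤ p) {c : ℂ}
    (h : ∀ v ∈ P, v ≠ 1 → χ v = c) : P ≤ charKer χ := by
  classical
  have := Fintype.ofFinite P
  obtain ⟨l, hl⟩ := exists_unitsHom_ne_one_of_card_prime hP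
  have h1 := hχ.card_mul_rmul P l
  have h2 := sum_unitsHom_mul_conj 1 l
  have h3 := hχ.card_mul_fixDim P
  rw [sum_subgroup_of_const h, hP, hχ.one_eq_charDegree] at h3
  rw [if_neg hl.symm] at h2
  rw [← Finset.add_sum_erase _ _ (Finset.mem_univ (1 : P))] at h1 h2
  rw [Finset.sum_congr rfl fun v hv => by
    rw [h v v.2 fun h => Finset.ne_of_mem_erase hv (Subtype.ext h)], ← Finset.mul_sum, hP] at h1
  simp only [OneMemClass.coe_one, map_one, Units.val_one, mul_one, MonoidHom.one_apply, one_mul,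
    hχ.one_eq_charDegree] at h1 h2
  have hp0 : (p : ℂ) ≠ 0 := by exact_mod_cast hp.out.ne_zero
  have h4 : (fixDim P χ + p * rmul P χ l : ℂ) = charDegree χ + rmul P χ l :=
    mul_left_cancel₀ hp0 (by linear_combination h3 + (p - 1) * h1 + (p - 1) * c * h2)
  have h5 : fixDim P χ + p * rmul P χ l = charDegree χ + rmul P χ l := by exact_mod_cast h4
  refine hχ.le_charKer_of_fixDim ?_
  rcases Nat.eq_zero_or_pos (rmul P χ l) with h0 | h0
  · simpa [h0] using h5
  · nlinarith

theorem DefOne.indFun_frame [Fintype G] {p : ℕ} [hp : Fact p.Prime] {B : Set (IrrCharacter G)}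
    {D C T : Subgroup G} {b : Set (IrrCharacter C)} (O : DefOne p B D C T b) (F : AutFrame p D)
    (hC : C = Subgroup.centralizer (D : Set G)) (l : D →* ℂˣ) {u : D} {s : G} (hu1 : u ≠ 1)
    (hs : s ∈ C) (hsr : ¬ p ∣ orderOf s) :
    indFun C (O.θ l).1 (u * s) = ∑ i ∈ Finset.range F.e,
      (l u : ℂ) ^ F.j ^ i * extendByZero C (O.θ 1).1 (F.h ^ i * s * (F.h ^ i)⁻¹) := by
  subst hC
  have := Fintype.ofFinite (Subgroup.normalizer (D : Set G))
  have := Fintype.ofFinite (Subgroup.centralizer (D : Set G))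
  have hC0 : (Nat.card (Subgroup.centralizer (D : Set G)) : ℂ) ≠ 0 := by
    exact_mod_cast Nat.card_pos.ne'
  have hN := fun i => normalizer_le_normalizer_centralizer D (pow_mem F.h_mem i)
  rw [O.indFun_sec F.card rfl l u.2 (fun h => hu1 (Subtype.ext h)) hs hsr,
    ← Equiv.sum_comp (Equiv.inv _), inv_mul_eq_iff_eq_mul₀ hC0]
  simp only [Equiv.inv_apply, InvMemClass.coe_inv, inv_inv]
  rw [F.sum_normalizer fun x => extendByZero _ (O.θ l).1 (x * (u * s) * x⁻¹), Finset.mul_sum]
  refine Finset.sum_congr rfl fun i _ => ?_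
  rw [Nat.card_eq_fintype_card, ← nsmul_eq_mul, ← Finset.card_univ, ← Finset.sum_const]
  refine Finset.sum_congr rfl fun c _ => ?_
  have h1 := (Subgroup.mem_normalizer_iff.1 (hN i) _).1 hs
  have h2 : F.h ^ i * (u * s) * (F.h ^ i)⁻¹ = u ^ F.j ^ i * (F.h ^ i * s * (F.h ^ i)⁻¹) := by
    rw [← F.conj_pow u.2]; group
  have h3 : F.h ^ i * (u * s) * (F.h ^ i)⁻¹ ∈ Subgroup.centralizer (D : Set G) :=
    h2 ▸ mul_mem (le_centralizer_of_card_prime F.card (pow_mem u.2 _)) h1
  rw [show F.h ^ i * c * (u * s) * (F.h ^ i * c)⁻¹ = F.h ^ i * c * (F.h ^ i)⁻¹ *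
      (F.h ^ i * (u * s) * (F.h ^ i)⁻¹) * (F.h ^ i * c * (F.h ^ i)⁻¹)⁻¹ by group,
    (O.θ l).isClassFunction.extendByZero_conj ((Subgroup.mem_normalizer_iff.1 (hN i) _).1 c.2),
    extendByZero_of_mem _ _ h3, extendByZero_of_mem _ _ h1,
    O.θ_mul l (u ^ F.j ^ i) ⟨_, h1⟩ ⟨_, h3⟩ ?_ h2, map_pow, Units.val_pow_eq_pow_val]
  rw [← Subgroup.orderOf_coe]
  change ¬ p ∣ orderOf (MulAut.conj (F.h ^ i) s)
  rwa [MulEquiv.orderOf_eq]

theorem IrrCharacter.exists_defOne [Fintype G] {p : ℕ} [hp : Fact p.Prime] (P : Sylow p G)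
    (hP : Nat.card P = p) (χ : IrrCharacter G) (hd : ¬ p ∣ charDegree χ.1) :
    ∃ (B : Set (IrrCharacter G)) (T : Subgroup G)
      (b : Set (IrrCharacter (Subgroup.centralizer ((P : Subgroup G) : Set G)))),
      χ ∈ B ∧ Nonempty (DefOne p B P _ T b) := by
  obtain ⟨M, hM⟩ := exists_isPModular hp.out
  have hB := isPBlock_blockOf (M := M) χ
  obtain ⟨b, -, hO⟩ := ((hB.isDefectGroup_iff_of_full hM (blockDefect_eq_of_not_dvd
    (hM.mem_blockOf_self χ) hd) P).2 ⟨P, rfl⟩).exists_defOne hM hB hP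
  exact ⟨_, _, b, hM.mem_blockOf_self χ, hO⟩

/-- characters of small degree are exceptional -/
theorem IrrCharacter.small_cases [Finite G] {p : ℕ} [hp : Fact p.Prime] {P : Sylow p G}
    (F : AutFrame p (P : Subgroup G)) (η : IrrCharacter G) (hd : charDegree η.1 + 2 ≤ p)
    (hk : ¬ (P : Subgroup G) ≤ charKer η.1) :
    2 * F.e < p ∧ ∃ l, l ≠ 1 ∧
      ((∃ m : ℕ, charDegree η.1 = m * F.e ∧ ∀ m, rmul P η.1 m ≠ 0 → F.Orb l m) ∨
      (charDegree η.1 + F.e = p ∧ (∀ v : (P : Subgroup G), v ≠ 1 → η.1 v = -F.osum l v) ∧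
        ∀ s ∈ Subgroup.centralizer ((P : Subgroup G) : Set G), ¬ p ∣ orderOf s →
          s ∈ charCenter η.1)) := by
  classical
  have := Fintype.ofFinite G
  have hd0 := η.charDegree_pos
  obtain ⟨B, T, b, hη, ⟨O⟩⟩ := η.exists_defOne P F.card fun h => by
    have := Nat.le_of_dvd hd0 h; omega
  rcases (O.mem_iff η).1 hη with hX | ⟨l, hl, rfl⟩
  · exact absurd (η.isCharacter.le_charKer_of_const F.card hd fun v hv hv1 =>
      O.X_apply_mem F.card rfl hX hv hv1) hk
  set θ := charDegree (O.θ 1).1 with hθ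
  have hθ0 : 0 < θ := (O.θ 1).charDegree_pos
  have hsec : ∀ (u : (P : Subgroup G)), u ≠ 1 → ∀ s ∈ Subgroup.centralizer ((P : Subgroup G) : Set G),
      ¬ p ∣ orderOf s → (O.ψ l).1 (u * s) = -O.δ₀ * ∑ i ∈ Finset.range F.e,
        (l u : ℂ) ^ F.j ^ i * extendByZero _ (O.θ 1).1 (F.h ^ i * s * (F.h ^ i)⁻¹) :=
    fun u hu s hs hsr => by
      rw [O.ψ_sing l hl _ (dvd_orderOf_sec F.card u.2 (fun h => hu (Subtype.ext h)) hs hsr),
        O.indFun_frame F rfl l hu hs hsr]
  have hval : ∀ u : (P : Subgroup G), u ≠ 1 →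
      (O.ψ l).1 u = ((-O.δ₀ * θ : ℤ) : ℂ) * F.osum l u := fun u hu => by
    have h1 := hsec u hu 1 (one_mem _) (by rw [orderOf_one]; exact hp.out.not_dvd_one)
    simp only [mul_one, mul_inv_cancel, extendByZero_of_mem _ _ (one_mem _)] at h1
    rw [h1, ← Finset.sum_mul, show (⟨1, one_mem _⟩ : Subgroup.centralizer ((P : Subgroup G) : Set G)) = 1 from rfl,
      (O.θ 1).one_eq_charDegree, AutFrame.osum]
    push_cast
    ring
  have hr := fun m => F.card_mul_rmul_of_val (O.ψ l).isCharacter hl hval m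
  have h1 := hr 1
  have h2 := hr l
  rw [if_neg fun h => h.ne_one hl rfl, (O.ψ l).isCharacter.rmul_one] at h1
  rw [if_pos (F.orb_refl l)] at h2
  have he := F.e_pos
  have he2 : F.e + 1 = p ∨ 2 * F.e < p := by
    obtain ⟨t, ht⟩ := F.e_dvd
    have := hp.out.two_le
    match t with
    | 0 => omega
    | 1 => omega
    | t + 2 => right; rw [mul_add] at ht; omega
  set d := charDegree (O.ψ l).1 with hdd
  set a := fixDim P (O.ψ l).1 with ha
  rcases O.δ₀_sign with h0 | h0
  · rw [h0] at h1 h2 hval hsec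
    have h3 : p * a = d + θ * F.e := by
      have : (p : ℤ) * a = d + θ * F.e := by linarith
      exact_mod_cast this
    have h4 : p * rmul P (O.ψ l).1 l + θ * p = d + θ * F.e := by
      have : (p : ℤ) * rmul P (O.ψ l).1 l + θ * p = d + θ * F.e := by linarith
      exact_mod_cast this
    have h5 : rmul P (O.ψ l).1 l = 0 := by
      by_contra h
      have := Nat.mul_le_mul_left p (Nat.pos_of_ne_zero h)
      have := Nat.mul_le_mul_left θ F.e_lt.le
      omega
    rw [h5] at h4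
    have h6 : a = θ := Nat.eq_of_mul_eq_mul_left hp.out.pos (by rw [h3, mul_comm p, ← h4]; simp)
    have h7 : 2 * F.e < p := he2.resolve_left fun h => hk
      ((O.ψ l).isCharacter.le_charKer_of_fixDim (by
        have : θ * p = θ * F.e + θ := by rw [← mul_add_one, h]
        omega))
    have h8 : θ = 1 := by
      by_contra h
      have h9 : 2 ≤ θ := by omega
      obtain ⟨k, hk⟩ := Nat.exists_eq_add_of_le F.e_lt.le
      have : θ * p = θ * F.e + θ * k := by rw [← mul_add, ← hk]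
      have := Nat.mul_le_mul_right k h9
      omega
    refine ⟨h7, l, hl, Or.inr ⟨by rw [h8] at h4; omega, fun v hv => by
      rw [hval v hv, h8]; simp, fun s hs hsr => ?_⟩⟩
    set c := fun i => extendByZero _ (O.θ 1).1 (F.h ^ i * s * (F.h ^ i)⁻¹) with hc
    have h9 : ∀ i < F.e, p * c i = (O.ψ l).1 s + ∑ k ∈ Finset.range F.e, c k := fun i hi => by
      have h10 := (O.ψ l).isCharacter.sum_conj_mul_eq_zero
        (((F.orb_pow l i).rmul_eq (O.ψ l).isCharacter).trans h5) s
      have h11 : ∑ v : (P : Subgroup G), (∑ k ∈ Finset.range F.e, (l v : ℂ) ^ F.j ^ k * c k) *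
          conj ((l ^ F.j ^ i) v : ℂ) = p * c i := by
        simp only [Finset.sum_mul]
        rw [Finset.sum_comm, Finset.sum_eq_single i]
        · have := sum_unitsHom_mul_conj (l ^ F.j ^ i) (l ^ F.j ^ i)
          rw [if_pos rfl, F.card] at this
          rw [← this, Finset.sum_mul]
          exact Finset.sum_congr rfl fun v _ => by simp; ring
        · intro k hk hki
          have := sum_unitsHom_mul_conj (l ^ F.j ^ k) (l ^ F.j ^ i)
          rw [if_neg fun h => hki (F.pow_inj_of_orderOf (F.orderOf_hom hl)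
            (by simpa using hk) hi h)] at this
          rw [← zero_mul (c k), ← this, Finset.sum_mul]
          exact Finset.sum_congr rfl fun v _ => by simp; ring
        · intro h; exact absurd (Finset.mem_range.2 hi) h
      rw [← Finset.add_sum_erase _ _ (Finset.mem_univ (1 : (P : Subgroup G)))] at h10 h11
      rw [Finset.sum_congr rfl fun v hv => by
        rw [hsec v (Finset.ne_of_mem_erase hv) s hs hsr]] at h10
      simp only [OneMemClass.coe_one, map_one, Units.val_one, mul_one, one_mul, one_pow,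
        Int.cast_one, neg_mul, Finset.sum_neg_distrib] at h10 h11
      linear_combination -h10 - h11
    have hp0 : (p : ℂ) ≠ 0 := by exact_mod_cast hp.out.ne_zero
    have h10 := h9 0 he
    rw [Finset.sum_congr rfl (g := fun _ => c 0) fun i hi => mul_left_cancel₀ hp0 (by
      rw [h9 i (Finset.mem_range.1 hi), h9 0 he]), Finset.sum_const, Finset.card_range,
      nsmul_eq_mul] at h10
    refine (O.ψ l).isCharacter.mem_charCenter_of_eq_mul (c := c 0) ?_ ?_
    · obtain ⟨f, hf⟩ := (O.θ 1).isCharacter.exists_hom_of_charDegree_eq_one h8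
      simp only [hc, pow_zero, one_mul, inv_one, mul_one, extendByZero_of_mem _ _ hs, hf]
      exact norm_unitsHom _ _
    · have h11 : (d + F.e : ℂ) = p := by
        rw [h8] at h4
        exact_mod_cast (by omega : d + F.e = p)
      rw [(O.ψ l).one_eq_charDegree, ← hdd]
      linear_combination -h10 - c 0 * h11
  · rw [h0] at h1
    have h3 : p * a + θ * F.e = d := by
      have : (p : ℤ) * a + θ * F.e = d := by linarith
      exact_mod_cast this
    have h4 : a = 0 := by
      by_contra h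
      have := Nat.mul_le_mul_left p (Nat.pos_of_ne_zero h)
      omega
    have h5 := Nat.mul_le_mul_right F.e hθ0
    refine ⟨by omega, l, hl, Or.inl ⟨θ, by rw [h4] at h3; omega, fun m hm => ?_⟩⟩
    by_contra h
    have h6 := hr m
    rw [if_neg h, h0, ← h1, h4] at h6
    have hp0 : (p : ℤ) ≠ 0 := by exact_mod_cast hp.out.ne_zero
    exact hm (by exact_mod_cast mul_left_cancel₀ hp0 h6)

theorem IsPModular.injective_redRep [Finite G] {p : ℕ} [hp : Fact p.Prime] {M : Ideal AlgInt}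
    (hM : IsPModular p M) (P : Sylow p G) (hP : Nat.card P = p)
    (hnn : ¬ (P : Subgroup G).Normal) {χ : G → ℂ} (hχ : IsCharacter G χ)
    (hf : ∀ g, χ g = χ 1 → g = 1) (hd : charDegree χ < p)
    (X : G →* Matrix (Fin (charDegree χ)) (Fin (charDegree χ)) (valO M))
    (hX : ∀ g, ((X g).trace : ℂ) = χ g) : Function.Injective (redRep X) := by
  have h1 := hχ.isPGroup_ker_reduction hM hf hd (ρ := redRep X) fun g => by
    rw [trace_redRep, hX]
  have h2 := h1.le_sylow_of_normal P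
  rw [← MonoidHom.ker_eq_bot_iff]
  by_contra h
  obtain ⟨⟨u, hu⟩, hu1⟩ := Subgroup.ne_bot_iff_exists_ne_one.1 h
  have h3 : (redRep X).ker = P := le_antisymm h2 ((eq_zpowers_of_card_prime hP (h2 hu)
    fun h => hu1 (Subtype.ext h)).le.trans (Subgroup.zpowers_le.2 hu))
  exact hnn (h3 ▸ inferInstance)

theorem AutFrame.eq_of_orb [Finite G] {p : ℕ} [hp : Fact p.Prime] {P : Sylow p G}
    (F : AutFrame p (P : Subgroup G)) (hnn : ¬ (P : Subgroup G).Normal) {χ : G → ℂ}
    (hχ : IsCharacter G χ) (hf : ∀ g, χ g = χ 1 → g = 1) (hd : charDegree χ < p)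
    (he : 2 * F.e < p) {l : (P : Subgroup G) →* ℂˣ} (h : ∀ m, rmul P χ m ≠ 0 → F.Orb l m) :
    2 * F.e + 1 = p := by
  by_contra hne
  obtain ⟨M, hM⟩ := exists_isPModular hp.out
  have := hM.charP
  obtain ⟨X, hX⟩ := hχ.exists_matrix_valO M
  obtain ⟨u, hu, hu1⟩ := exists_ne_one_of_card_prime F.card
  have : IsCyclic (P : Subgroup G) := isCyclic_of_prime_card F.card
  have h1 := hM.redRep_sub_one_pow X (⟨u, hu⟩ : (P : Subgroup G))
    ((List.range F.e).map fun i => ((l ^ F.j ^ i) ⟨u, hu⟩ : ℂ)) (fun c hc => by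
      obtain ⟨i, -, rfl⟩ := List.mem_map.1 hc
      rw [← Units.val_pow_eq_pow_val, ← MonoidHom.pow_apply, F.hom_pow_card]; rfl) fun m hm => by
      obtain ⟨i, hi, rfl⟩ := h m (by simpa only [hX] using hm)
      exact List.mem_map.2 ⟨i, List.mem_range.2 hi, rfl⟩
  rw [List.length_map, List.length_range] at h1
  exact hnn (sylow_normal_of_small_module (redRep X) (hM.injective_redRep P F.card hnn hχ hf hd X hX)
    P F.card hu hu1 h1 he F.e_pos (by omega) fun j hj => F.modEq_of_isConj hu hu1 hj)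

theorem AutFrame.le_center_of_e_eq_one [Finite G] {p : ℕ} [hp : Fact p.Prime] {P : Sylow p G}
    (F : AutFrame p (P : Subgroup G)) (he : F.e = 1) {χ : G → ℂ} (hχ : IsCharacter G χ)
    (hf : ∀ g, χ g = χ 1 → g = 1) (hd : charDegree χ + 2 ≤ p) :
    (P : Subgroup G) ≤ Subgroup.center G := by
  classical
  have := Fintype.ofFinite G
  have : IsCyclic (P : Subgroup G) := isCyclic_of_prime_card F.card
  have : Finite ((P : Subgroup G) →* ℂˣ) := Nat.finite_of_card_ne_zero (by
    rw [card_unitsHom_of_comm]; exact Nat.card_pos.ne')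
  have := Fintype.ofFinite ((P : Subgroup G) →* ℂˣ)
  intro v hv
  rw [Subgroup.mem_center_iff]
  intro g
  refine (commutatorElement_eq_one_iff_mul_comm.1 (hf _ (hχ.mem_charKer.1
    (hχ.mem_charKer_iff_constituents.2 fun η hη => η.isCharacter.commutator_mem_charKer ?_ g)))).symm
  by_cases hk : (P : Subgroup G) ≤ charKer η.1
  · exact charKer_le_charCenter _ (hk hv)
  have hd' := hχ.charDegree_le_of_constituent η hη
  obtain ⟨-, l, -, ⟨m, -, hm⟩ | ⟨h, -⟩⟩ := η.small_cases F (by omega) hk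
  · have h1 : ∀ u : (P : Subgroup G), η.1 u = rmul P η.1 l * l u := fun u => by
      rw [η.isCharacter.eq_sum_rmul P u, Finset.sum_eq_single l _ (by simp)]
      intro m _ hml
      by_contra h
      obtain ⟨i, hi, rfl⟩ := hm m fun h0 => h (by simp [h0])
      obtain rfl : i = 0 := by omega
      exact hml (pow_one l)
    refine η.isCharacter.mem_charCenter_of_eq_mul (norm_unitsHom l ⟨v, hv⟩) ?_
    simpa [h1 ⟨v, hv⟩] using (h1 1).symm
  · omega

/-- normal `p'`-subgroups centralize the Sylow subgroup -/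
theorem IsCharacter.le_centralizer_of_normal [Finite G] {p : ℕ} [hp : Fact p.Prime]
    (P : Sylow p G) (hP : Nat.card P = p) {χ : G → ℂ} (hχ : IsCharacter G χ)
    (hf : ∀ g, χ g = χ 1 → g = 1) (hd : charDegree χ + 2 ≤ p) {K : Subgroup G} [hK : K.Normal]
    (hp' : ¬ p ∣ Nat.card K) : K ≤ Subgroup.centralizer ((P : Subgroup G) : Set G) := by
  let Q := P.subtype (le_sup_right : (P : Subgroup G) ≤ K ⊔ P)
  have hQ : Nat.card Q = p := (Nat.card_congr (Subgroup.subgroupOfEquivOfLe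
    (le_sup_right : (P : Subgroup G) ≤ K ⊔ P)).toEquiv).trans hP
  obtain ⟨F⟩ := nonempty_autFrame (P := (Q : Subgroup ↥(K ⊔ P))) hQ
  have h1 : F.e ∣ 1 := by
    rw [← F.pow_mem_centralizer_iff, pow_one]
    intro v hv
    obtain ⟨k, hk, w, hw, h⟩ := Subgroup.mem_sup_of_normal_left.1 F.h.2
    have h2 : (F.h : G) * v * (F.h : G)⁻¹ ∈ (P : Subgroup G) :=
      (Subgroup.mem_normalizer_iff.1 F.h_mem v).1 hv
    have h3 : w * v * w⁻¹ = v := by
      rw [← le_centralizer_of_card_prime hP hw v hv, mul_inv_cancel_right]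
    have h4 : (F.h : G) * v * (F.h : G)⁻¹ * (v : G)⁻¹ = k * (v * k⁻¹ * (v : G)⁻¹) := by
      rw [← h]
      calc k * w * v * (k * w)⁻¹ * (v : G)⁻¹ = k * (w * v * w⁻¹) * k⁻¹ * (v : G)⁻¹ := by group
        _ = _ := by rw [h3]; group
    have h5 : (F.h : G) * v * (F.h : G)⁻¹ * (v : G)⁻¹ = 1 := by
      by_contra h0
      refine hp' ?_
      rw [← orderOf_eq_of_card_prime hP (mul_mem h2 (inv_mem hv)) h0]
      exact K.orderOf_dvd_natCard (h4 ▸ mul_mem hk (hK.conj_mem _ (inv_mem hk) _))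
    refine Subtype.ext ?_
    rw [mul_inv_eq_one, mul_inv_eq_iff_eq_mul] at h5
    exact h5.symm
  have h2 := F.le_center_of_e_eq_one (Nat.dvd_one.1 h1) (hχ.res (K ⊔ P))
    (fun g hg => Subtype.ext (hf g hg)) (by rwa [charDegree_res])
  intro k hk v hv
  exact congrArg Subtype.val (Subgroup.mem_center_iff.1
    (h2 (show (⟨v, Subgroup.mem_sup_right hv⟩ : ↥(K ⊔ P)) ∈ (Q : Subgroup _) from hv))
    ⟨k, Subgroup.mem_sup_left hk⟩).symm

end Cfsg
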