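import Cfsg.Agent.Lin.Fourier
import Cfsg.Agent.CT.Feit

/-! A version of Feit's lemma for representations with tame matrix coefficients. -/

set_option autoImplicit false

namespace Cfsg

open scoped ComplexConjugate Pointwise Matrix

universe u v w

section val
variable {R : ValuationSubring ℂ}

theorem valuation_le_one_of_pow_eq_one {z : ℂ} {n : ℕ} (hn : n ≠ 0) (hz : z ^ n = 1) :
    R.valuation z = 1 := by
  have h := congrArg R.valuation hz
  rw [map_pow, map_one] at h
  exact (pow_eq_one_iff_of_nonneg zero_le hn).1 h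

theorem valuation_one_sub_pow_le {z : ℂ} (hz : R.valuation z ≤ 1) (k : ℕ) :
    R.valuation (1 - z ^ k) ≤ R.valuation (1 - z) := by
  rw [← mul_neg_geom_sum, map_mul]
  refine mul_le_of_le_one_right' (R.valuation.map_sum_le fun i _ => ?_)
  rw [map_pow]
  exact pow_le_one' hz i

theorem valuation_sub_eq_of_pow_prime {p : ℕ} (hp : p.Prime) {ζ a b : ℂ}
    (hζ : IsPrimitiveRoot ζ p) (ha : a ^ p = 1) (hb : b ^ p = 1) (hab : a ≠ b) :
    R.valuation (1 - ζ) ≤ R.valuation (a - b) := by
  have ha0 : a ≠ 0 := fun h => by rw [h, zero_pow hp.ne_zero] at ha; exact zero_ne_one ha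
  have h1 : (b / a) ^ p = 1 := by rw [div_pow, ha, hb, div_one]
  have h2 : IsPrimitiveRoot (b / a) p := by
    have := Fact.mk hp
    have h3 := orderOf_eq_prime h1 fun h => hab ((div_eq_one_iff_eq ha0).1 h).symm
    exact h3 ▸ IsPrimitiveRoot.orderOf _
  have := NeZero.mk hp.ne_zero
  obtain ⟨k, -, hk⟩ := h2.eq_pow_of_pow_eq_one hζ.pow_eq_one
  have h3 : a - b = a * (1 - b / a) := by field_simp
  rw [h3, map_mul, valuation_le_one_of_pow_eq_one hp.ne_zero ha, one_mul, ← hk]
  exact valuation_one_sub_pow_le (valuation_le_one_of_pow_eq_one hp.ne_zero h1).le k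

theorem valuation_prime_eq {p : ℕ} (hp : p.Prime) {ζ : ℂ} (hζ : IsPrimitiveRoot ζ p) :
    R.valuation (p : ℂ) = R.valuation (1 - ζ) ^ (p - 1) := by
  obtain ⟨n, rfl⟩ : ∃ n, p = n + 1 := ⟨p - 1, by have := hp.pos; omega⟩
  have h := hζ.prod_one_sub_pow_eq_order
  rw [Nat.cast_add, Nat.cast_one, ← h, map_prod, Nat.add_sub_cancel,
    Finset.prod_congr rfl (g := fun _ => R.valuation (1 - ζ)) fun k hk => ?_, Finset.prod_const,
    Finset.card_range]
  refine le_antisymm (valuation_one_sub_pow_le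
    (valuation_le_one_of_pow_eq_one hp.ne_zero hζ.pow_eq_one).le _)
    (valuation_sub_eq_of_pow_prime hp hζ (one_pow _) ?_ ?_)
  · rw [← pow_mul, mul_comm, pow_mul, hζ.pow_eq_one, one_pow]
  · exact (hζ.pow_ne_one_of_pos_of_lt (by omega) (by have := Finset.mem_range.1 hk; omega)).symm

end val

section span
variable (R : ValuationSubring ℂ) (P : Type u) [Group P]

/-- the combinations of linear characters with integral coefficients -/
noncomputable def charSpan : Submodule R (P → ℂ) :=
  Submodule.span R (Set.range fun l : P →* ℂˣ => fun u => (l u : ℂ))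

variable {R P}

theorem mul_mem_charSpan {f g : P → ℂ} (hf : f ∈ charSpan R P) (hg : g ∈ charSpan R P) :
    f * g ∈ charSpan R P := by
  have h := Submodule.mul_mem_mul hf hg
  rw [charSpan, Submodule.span_mul_span] at h
  refine Submodule.span_mono ?_ h
  rintro _ ⟨_, ⟨l, rfl⟩, _, ⟨m, rfl⟩, rfl⟩
  exact ⟨l * m, by ext u; simp⟩

theorem inv_mem_charSpan {f : P → ℂ} (hf : f ∈ charSpan R P) :
    (fun u => f u⁻¹) ∈ charSpan R P := by
  induction hf using Submodule.span_induction with
  | mem _ h =>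
    obtain ⟨l, rfl⟩ := h
    exact Submodule.subset_span ⟨l⁻¹, by ext u; simp⟩
  | zero => exact zero_mem _
  | add _ _ _ _ h h' => exact add_mem h h'
  | smul c _ _ h => exact Submodule.smul_mem _ c h

theorem avg_mem_of_mem_charSpan [Fintype P] {f : P → ℂ} (hf : f ∈ charSpan R P) :
    (Nat.card P : ℂ)⁻¹ * ∑ u, f u ∈ R := by
  classical
  induction hf using Submodule.span_induction with
  | mem _ h =>
    obtain ⟨l, rfl⟩ := h
    have h1 := sum_unitsHom_mul_conj l 1
    simp only [MonoidHom.one_apply, Units.val_one, map_one, mul_one] at h1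
    rw [h1]
    split_ifs
    · rw [inv_mul_cancel₀ (by exact_mod_cast Nat.card_pos.ne')]; exact one_mem _
    · rw [mul_zero]; exact zero_mem _
  | zero => simp
  | add _ _ _ _ h h' =>
    simp only [Pi.add_apply, Finset.sum_add_distrib, mul_add]
    exact add_mem h h'
  | smul c _ _ h =>
    simp only [Pi.smul_apply, ← Finset.smul_sum, mul_smul_comm]
    exact mul_mem c.2 h

end span

section tame
variable {G : Type u} [Group G] (R : ValuationSubring ℂ) (P : Subgroup G)
variable {ι : Type v} {κ : Type w} [Fintype ι] [DecidableEq ι] [Fintype κ] [DecidableEq κ]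

/-- an integral representation whose matrix coefficients on `P` have bounded denominators -/
structure TameRep (s : ℂ) (X : G →* Matrix ι ι ℂ) : Prop where
  int : ∀ g i j, X g i j ∈ R
  tame : ∀ i j, (fun u : P => s * X u i j) ∈ charSpan R P

variable {R P}

theorem TameRep.dual {s : ℂ} {X : G →* Matrix ι ι ℂ} (h : TameRep R P s X) :
    TameRep R P s (dualRep X) :=
  ⟨fun g i j => h.int g⁻¹ j i, fun i j => inv_mem_charSpan (h.tame j i)⟩

theorem TameRep.kron {s t : ℂ} {X : G →* Matrix ι ι ℂ} {Y : G →* Matrix κ κ ℂ}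
    (h : TameRep R P s X) (h' : TameRep R P t Y) : TameRep R P (s * t) (kronRep X Y) := by
  refine ⟨fun g i j => mul_mem (h.int g i.1 j.1) (h'.int g i.2 j.2), fun i j => ?_⟩
  convert mul_mem_charSpan (h.tame i.1 j.1) (h'.tame i.2 j.2) using 1
  ext u
  change s * t * (X u i.1 j.1 * Y u i.2 j.2) = s * X u i.1 j.1 * (t * Y u i.2 j.2)
  ring

omit [DecidableEq ι] in
theorem valuation_mulVec_le {A : Matrix ι ι ℂ} {a b : R.ValueGroup}
    (hA : ∀ i j, R.valuation (A i j) ≤ a) {v : ι → ℂ} (hv : ∀ j, R.valuation (v j) ≤ b) (i : ι) :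
    R.valuation ((A *ᵥ v) i) ≤ a * b :=
  R.valuation.map_sum_le fun j _ => by rw [map_mul]; exact mul_le_mul' (hA i j) (hv j)

theorem TameRep.eq_zero_of_sum_eq_zero [Finite G] {s : ℂ} {X : G →* Matrix ι ι ℂ}
    (h : TameRep R P s X) {n : ℕ} (hn : R.valuation (n : ℂ) < R.valuation s)
    {Ω : Type w} [Fintype Ω] [MulAction G Ω] [MulAction.IsPretransitive G Ω] (ω₀ : Ω)
    (h0 : ∀ x ∈ P, x • ω₀ = ω₀) (f : Ω → ι → ℂ) (hf : ∀ (x : G) ω, f (x • ω) = X x *ᵥ f ω)
    (hd : ∀ ω, ω ≠ ω₀ → n ∣ Nat.card (MulAction.orbit P ω)) (hsum : ∑ ω, f ω = 0) :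
    f ω₀ = 0 := by
  classical
  have := Fintype.ofFinite P
  by_contra hne
  obtain ⟨i₁, hi₁⟩ := Function.ne_iff.1 hne
  obtain ⟨i₀, -, hmax⟩ := Finset.exists_max_image Finset.univ (fun i => R.valuation (f ω₀ i))
    ⟨i₁, Finset.mem_univ _⟩
  have hb0 : 0 < R.valuation (f ω₀ i₀) :=
    lt_of_lt_of_le ((Valuation.pos_iff _).2 hi₁) (hmax i₁ (Finset.mem_univ _))
  have hF : ∀ ω i, R.valuation (f ω i) ≤ R.valuation (f ω₀ i₀) := fun ω i => by
    obtain ⟨g, rfl⟩ := MulAction.exists_smul_eq G ω₀ ω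
    rw [hf, ← one_mul (R.valuation (f ω₀ i₀))]
    exact valuation_mulVec_le (fun i j => (R.valuation_le_one_iff _).2 (h.int g i j))
      (fun j => hmax j (Finset.mem_univ _)) i
  have hs0 : s ≠ 0 := fun h => by rw [h, map_zero] at hn; exact not_lt_zero hn
  have hvs : 0 < R.valuation s := (Valuation.pos_iff _).2 hs0
  let q : Ω → MulAction.orbitRel.Quotient P Ω := Quotient.mk''
  have hfib : ∀ c, c ≠ q ω₀ → R.valuation (∑ ω ∈ Finset.univ.filter (fun ω => q ω = c), f ω i₀) <
      R.valuation (f ω₀ i₀) := by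
    intro c hc
    obtain ⟨ω, rfl⟩ := Quotient.mk''_surjective c
    obtain ⟨m, hm⟩ := hd ω fun h => hc (by rw [h])
    have hP0 : (Nat.card P : ℂ) ≠ 0 := by exact_mod_cast Nat.card_pos.ne'
    have h1 : ∑ u : P, f (u • ω) = Nat.card (MulAction.stabilizer P ω) •
        ∑ ω' ∈ Finset.univ.filter (fun ω' => q ω' = Quotient.mk'' ω), f ω' := by
      rw [← Finset.sum_fiberwise_of_maps_to (s := Finset.univ)
        (t := Finset.univ.filter (fun ω' => q ω' = Quotient.mk'' ω)) (g := fun u : P => u • ω)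
        (fun u _ => by
          simp only [Finset.mem_filter, Finset.mem_univ, true_and, q]
          rw [Quotient.eq'', MulAction.orbitRel_apply]
          exact MulAction.mem_orbit _ _), Finset.smul_sum]
      refine Finset.sum_congr rfl fun ω' hω' => ?_
      simp only [Finset.mem_filter, Finset.mem_univ, true_and, q] at hω'
      rw [Quotient.eq'', MulAction.orbitRel_apply] at hω'
      obtain ⟨x, rfl⟩ := hω'
      rw [Finset.sum_congr rfl (g := fun _ => f (x • ω)) fun u hu => by
        rw [(Finset.mem_filter.1 hu).2], Finset.sum_const]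
      congr 1
      rw [← Fintype.card_subtype, ← Nat.card_eq_fintype_card]
      refine Nat.card_congr ⟨fun u => ⟨x⁻¹ * u.1, ?_⟩, fun u => ⟨x * u.1, ?_⟩, fun u => by simp,
        fun u => by simp⟩
      · rw [MulAction.mem_stabilizer_iff, mul_smul, u.2, inv_smul_smul]
      · rw [mul_smul, u.2]
    have h2 : (Nat.card (MulAction.orbit P ω) : ℂ) * Nat.card (MulAction.stabilizer P ω) =
        Nat.card P := by
      rw [← Nat.cast_mul, ← Nat.card_prod,
        Nat.card_congr (MulAction.orbitProdStabilizerEquivGroup P ω)]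
    have h3 : ∑ ω' ∈ Finset.univ.filter (fun ω' => q ω' = Quotient.mk'' ω), f ω' i₀ =
        ((Matrix.of fun i j => (n * m / s : ℂ) * ((Nat.card P : ℂ)⁻¹ * ∑ u : P, s * X u i j)) *ᵥ
          f ω) i₀ := by
      have h4 := congrFun h1 i₀
      have h5 : (Nat.card (MulAction.stabilizer P ω) : ℂ) ≠ 0 := by
        exact_mod_cast Nat.card_pos.ne'
      rw [Pi.smul_apply, Finset.sum_apply, Finset.sum_apply, nsmul_eq_mul] at h4
      refine mul_left_cancel₀ h5 ?_
      rw [← h4]
      rw [hm, Nat.cast_mul] at h2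
      simp only [Matrix.mulVec, dotProduct, Matrix.of_apply, Subgroup.smul_def, hf]
      rw [Finset.sum_comm, Finset.mul_sum]
      refine Finset.sum_congr rfl fun j _ => ?_
      rw [← Finset.sum_mul, ← Finset.mul_sum, ← h2]
      have hn0 : (n * m : ℂ) ≠ 0 := left_ne_zero_of_mul (h2 ▸ hP0)
      have := left_ne_zero_of_mul hn0
      have := right_ne_zero_of_mul hn0
      field_simp
    rw [h3]
    refine lt_of_le_of_lt (valuation_mulVec_le (a := R.valuation n / R.valuation s)
      (fun i j => ?_) (hF ω) i₀) ?_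
    · rw [Matrix.of_apply, map_mul, map_div₀, map_mul]
      refine (mul_le_of_le_one_right' ((R.valuation_le_one_iff _).2
        (avg_mem_of_mem_charSpan (h.tame i j)))).trans
        (div_le_div_of_nonneg_right (mul_le_of_le_one_right' ?_) zero_le)
      exact (R.valuation_le_one_iff _).2 (natCast_mem R m)
    · exact mul_lt_of_lt_one_left hb0 ((div_lt_one₀ hvs).2 hn)
  have h2 := congrFun hsum i₀
  rw [Finset.sum_apply, ← Finset.sum_fiberwise Finset.univ q,
    ← Finset.add_sum_erase _ _ (Finset.mem_univ (q ω₀))] at h2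
  have h3 : Finset.univ.filter (fun ω => q ω = q ω₀) = {ω₀} := by
    ext ω
    simp only [Finset.mem_filter, Finset.mem_univ, true_and, q, Finset.mem_singleton]
    rw [Quotient.eq'', MulAction.orbitRel_apply]
    exact ⟨fun ⟨x, hx⟩ => by rw [← hx]; exact h0 x x.2, fun h => h ▸ MulAction.mem_orbit_self _⟩
  rw [h3, Finset.sum_singleton] at h2
  have h4 := R.valuation.map_sum_lt hb0.ne'
    (fun c (hc : c ∈ Finset.univ.erase (q ω₀)) => hfib c (Finset.ne_of_mem_erase hc))
  rw [eq_neg_of_add_eq_zero_right h2, Valuation.map_neg] at h4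
  exact lt_irrefl _ h4

/-- **Feit's lemma**, tame version -/
theorem TameRep.mulVec_eq [Finite G] {s : ℂ} {X : G →* Matrix ι ι ℂ}
    (h : TameRep R P s X) {n : ℕ} (hn : R.valuation (n : ℂ) < R.valuation s) {H : Subgroup G}
    (hPH : P ≤ H) (hd : ∀ g : G, g ∉ H → n ∣ (MulAut.conj g • H).relIndex P) {v : ι → ℂ}
    (hv : ∀ x ∈ H, X x *ᵥ v = v) (x : G) : X x *ᵥ v = v := by
  classical
  have := Fintype.ofFinite (G ⧸ H)
  let f₀ : G ⧸ H → (ι → ℂ) := fun ω => X ω.out *ᵥ v
  have hf₀ : ∀ g : G, f₀ (g : G ⧸ H) = X g *ᵥ v := fun g => by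
    obtain ⟨x, hx⟩ := QuotientGroup.mk_out_eq_mul H g
    simp only [f₀, hx, map_mul, ← Matrix.mulVec_mulVec, hv x x.2]
  have hf₁ : ∀ (x : G) ω, f₀ (x • ω) = X x *ᵥ f₀ ω := fun x ω => by
    obtain ⟨g, rfl⟩ := QuotientGroup.mk_surjective ω
    rw [MulAction.Quotient.smul_mk, hf₀, hf₀, smul_eq_mul, map_mul, Matrix.mulVec_mulVec]
  let u := ∑ ω, f₀ ω
  have hu : ∀ x, X x *ᵥ u = u := fun x => by
    simp only [u, Matrix.mulVec_sum, ← hf₁]
    exact Fintype.sum_equiv (MulAction.toPerm x) _ _ fun ω => rfl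
  have hc : (Fintype.card (G ⧸ H) : ℂ) ≠ 0 := by exact_mod_cast Fintype.card_ne_zero
  have h1 := h.eq_zero_of_sum_eq_zero hn ((1 : G) : G ⧸ H) (fun x hx => by
      rw [MulAction.Quotient.smul_mk, QuotientGroup.eq]; simpa using hPH hx)
    (fun ω => f₀ ω - (Fintype.card (G ⧸ H) : ℂ)⁻¹ • u)
    (fun x ω => by rw [Matrix.mulVec_sub, Matrix.mulVec_smul, hu, hf₁]) (fun ω hω => by
      obtain ⟨g, rfl⟩ := QuotientGroup.mk_surjective ω
      have hg : g ∉ H := fun hg => hω (by rw [QuotientGroup.eq]; simpa using hg)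
      refine (hd g hg).trans (dvd_of_eq ?_)
      rw [Nat.card_coe_set_eq]
      refine Eq.trans ?_ (MulAction.index_stabilizer _ _)
      rw [Subgroup.relIndex]
      congr 1
      ext x
      rw [Subgroup.mem_subgroupOf, mem_conj_smul_iff, MulAction.mem_stabilizer_iff]
      change _ ↔ (x : G) • ((g : G) : G ⧸ H) = _
      rw [MulAction.Quotient.smul_mk, eq_comm, QuotientGroup.eq, smul_eq_mul,
        mul_assoc])
    (by
      rw [Finset.sum_sub_distrib, Finset.sum_const, Finset.card_univ,
        ← Nat.cast_smul_eq_nsmul ℂ, smul_smul, mul_inv_cancel₀ hc, one_smul, sub_self])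
  simp only [hf₀, map_one, Matrix.one_mulVec, sub_eq_zero] at h1
  rw [h1, Matrix.mulVec_smul, hu]

theorem kron_dual_mulVec (X : G →* Matrix ι ι ℂ) (g : G) (B : Matrix ι ι ℂ) :
    kronRep X (dualRep X) g *ᵥ (fun q => B q.1 q.2) = fun q => (X g * B * X g⁻¹) q.1 q.2 := by
  ext q
  change ∑ r : ι × ι, X g q.1 r.1 * X g⁻¹ r.2 q.2 * B r.1 r.2 = _
  simp only [Matrix.mul_apply, Finset.sum_mul, Fintype.sum_prod_type]
  rw [Finset.sum_comm]
  refine Finset.sum_congr rfl fun _ _ => Finset.sum_congr rfl fun _ _ => by ring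

theorem TameRep.commute [Finite G] {s : ℂ} {X : G →* Matrix ι ι ℂ} (h : TameRep R P s X)
    (hf : ∀ g, (X g).trace = (X 1).trace → g = 1) {n : ℕ}
    (hn : R.valuation (n : ℂ) < R.valuation s ^ 4) {A : Subgroup G} (hA : ∀ a ∈ A, ∀ b ∈ A, a * b = b * a)
    (hP : P ≤ Subgroup.normalizer (A : Set G))
    (hd : ∀ g : G, g ∉ Subgroup.normalizer (A : Set G) →
      n ∣ (MulAut.conj g • Subgroup.normalizer (A : Set G)).relIndex P) (g : G) {a b : G}
    (ha : a ∈ A) (hb : b ∈ A) : Commute (g * a * g⁻¹) b := by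
  classical
  have := Fintype.ofFinite A
  set Y := kronRep X (dualRep X) with hY
  have hT : TameRep R P (s * s * (s * s)) (kronRep Y (dualRep Y)) :=
    (h.kron h.dual).kron (h.kron h.dual).dual
  have h1 := hT.mulVec_eq (n := n) (by
    rw [map_mul, map_mul]; convert hn using 1; simp only [pow_succ, pow_zero, one_mul, mul_assoc])
    hP hd (v := fun q => (∑ y : A, Y y) q.1 q.2) (fun x hx => by
      rw [kron_dual_mulVec]
      congr! 2
      simp only [Finset.mul_sum, Finset.sum_mul, ← map_mul]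
      exact Fintype.sum_equiv (A.normalizerMonoidHom ⟨x, hx⟩).toEquiv _ _ fun y => rfl) g
  rw [kron_dual_mulVec] at h1
  have h2 : ∑ y : A, Y (g * y * g⁻¹) = ∑ y : A, Y y := by
    ext i j
    rw [← congrFun h1 (i, j)]
    simp only [Finset.mul_sum, Finset.sum_mul, ← map_mul]
  have h3 := congrArg (· *ᵥ fun q : ι × ι => X b q.1 q.2) h2
  simp only [Matrix.sum_mulVec, hY, kron_dual_mulVec, ← map_mul] at h3
  have h4 : ∑ y : A, X (g * y * g⁻¹ * b * (g * y * g⁻¹)⁻¹) = ∑ y : A, X b := by
    ext i j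
    have h5 := congrFun h3 (i, j)
    simp only [Finset.sum_apply] at h5
    rw [Matrix.sum_apply, Matrix.sum_apply, h5]
    exact Finset.sum_congr rfl fun y _ => by rw [hA y y.2 b hb, mul_inv_cancel_right]
  have h5 := congrArg (fun B => (B * X b⁻¹).trace.re) h4
  simp only [Finset.sum_mul, ← map_mul, Matrix.trace_sum, Complex.re_sum, mul_inv_cancel] at h5
  have hχ := isCharacter_of_matrix X
  have h6 : (X 1).trace.re = charDegree fun g => (X g).trace := by
    rw [hχ.one_eq_charDegree]; simp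
  have h7 := (Finset.sum_eq_sum_iff_of_le fun y _ => (hχ.re_le _).trans h6.ge).1 h5 ⟨a, ha⟩
    (Finset.mem_univ _)
  have h8 := hf _ (hχ.eq_one_of_re_eq (h7.trans h6))
  rwa [← commutatorElement_def, commutatorElement_eq_one_iff_commute] at h8

end tame

/-- covering a set by pairs of points from different classes -/
theorem exists_list_cover {α β γ : Type*} [DecidableEq α] [DecidableEq β] (κ : α → β)
    (ok : γ → Prop) (good : α → γ → Prop) (n : ℕ) : ∀ s : Finset α, s.card ≤ 2 * n →
    (∀ b, (s.filter (κ · = b)).card ≤ n) → (∀ a ∈ s, ∃ c, ok c ∧ good a c) →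
    (∀ a ∈ s, ∀ a' ∈ s, κ a ≠ κ a' → ∃ c, ok c ∧ good a c ∧ good a' c) →
    ∃ L : List γ, L.length ≤ n ∧ (∀ c ∈ L, ok c) ∧ ∀ a ∈ s, ∃ c ∈ L, good a c := by
  induction n with
  | zero =>
    intro s hs _ _ _
    obtain rfl : s = ∅ := Finset.card_eq_zero.1 (by omega)
    exact ⟨[], by simp, by simp, by simp⟩
  | succ n ih =>
    intro s hs hb h1 h2
    rcases s.eq_empty_or_nonempty with rfl | hne
    · exact ⟨[], by simp, by simp, by simp⟩
    have key : ∀ (t : Finset α) (c : γ), t ⊆ s → ok c → (∀ a ∈ s, a ∉ t → good a c) →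
        t.card ≤ 2 * n → (∀ b, (t.filter (κ · = b)).card ≤ n) →
        ∃ L : List γ, L.length ≤ n + 1 ∧ (∀ c ∈ L, ok c) ∧ ∀ a ∈ s, ∃ c ∈ L, good a c := by
      intro t c hts hc hg ht ht'
      obtain ⟨L, hL, hL1, hL2⟩ := ih t ht ht' (fun a ha => h1 a (hts ha))
        fun a ha a' ha' => h2 a (hts ha) a' (hts ha')
      refine ⟨c :: L, by simpa using hL, by simpa using ⟨hc, hL1⟩, fun a ha => ?_⟩
      by_cases hat : a ∈ t
      · obtain ⟨c', hc', h⟩ := hL2 a hat
        exact ⟨c', List.mem_cons_of_mem _ hc', h⟩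
      · exact ⟨c, List.mem_cons_self, hg a ha hat⟩
    obtain ⟨a, ha, hmax⟩ := s.exists_max_image (fun a => (s.filter (κ · = κ a)).card) hne
    rcases (s.filter (κ · ≠ κ a)).eq_empty_or_nonempty with h0 | hne'
    · obtain ⟨c, hc, hg⟩ := h1 a ha
      have h3 : s.card ≤ n + 1 := by
        refine le_trans (le_of_eq ?_) (hb (κ a))
        rw [Finset.filter_true_of_mem fun x hx => by
          simpa using Finset.filter_eq_empty_iff.1 h0 hx]
      have h4 := Finset.card_erase_of_mem ha
      refine key (s.erase a) c (Finset.erase_subset _ _) hc (fun x hx hx' => ?_) (by omega)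
        fun b => (Finset.card_filter_le _ _).trans (by omega)
      obtain rfl : x = a := by simpa [hx] using hx'
      exact hg
    · obtain ⟨a', ha', hmax'⟩ := Finset.exists_max_image _
        (fun a => (s.filter (κ · = κ a)).card) hne'
      obtain ⟨ha', hne⟩ := Finset.mem_filter.1 ha'
      obtain ⟨c, hc, hg, hg'⟩ := h2 a ha a' ha' hne.symm
      have haa : a' ∈ s.erase a := Finset.mem_erase.2 ⟨fun h => hne (h ▸ rfl), ha'⟩
      have h4 := Finset.card_erase_of_mem ha
      have h5 := Finset.card_erase_of_mem haa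
      have hsub : (s.erase a).erase a' ⊆ s :=
        (Finset.erase_subset _ _).trans (Finset.erase_subset _ _)
      refine key ((s.erase a).erase a') c hsub hc (fun x hx hx' => ?_) (by omega) fun b => ?_
      · by_cases h : x = a
        · exact h ▸ hg
        · obtain rfl : x = a' := by simpa [hx, h] using hx'
          exact hg'
      have hlt : ∀ x ∈ s, x ∉ (s.erase a).erase a' → κ x = b →
          (((s.erase a).erase a').filter (κ · = b)).card ≤ n := fun x hx hx' hxb => by
        have := Finset.card_lt_card (Finset.ssubset_iff_of_subset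
          (Finset.filter_subset_filter (κ · = b) hsub) |>.2 ⟨x, Finset.mem_filter.2 ⟨hx, hxb⟩,
            fun h => hx' (Finset.mem_filter.1 h).1⟩)
        have := hb b
        omega
      by_cases hab : κ a = b
      · exact hlt a ha (by simp) hab
      by_cases hab' : κ a' = b
      · exact hlt a' ha' (by simp) hab'
      by_contra hcon
      have h6 := Finset.card_le_card (Finset.filter_subset_filter (κ · = b) hsub)
      obtain ⟨x, hx⟩ := Finset.card_pos.1 (by omega : 0 < (s.filter (κ · = b)).card)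
      obtain ⟨hxs, rfl⟩ := Finset.mem_filter.1 hx
      have h7 := hmax' x (Finset.mem_filter.2 ⟨hxs, fun h => hab h.symm⟩)
      have h8 := hmax a' ha'
      have h9 : (s.filter (κ · = κ a)).card + (s.filter (κ · = κ a')).card +
          (s.filter (κ · = κ x)).card ≤ s.card := by
        rw [← Finset.card_union_of_disjoint, ← Finset.card_union_of_disjoint]
        · exact Finset.card_le_card (by simp [Finset.union_subset_iff])
        · simp only [Finset.disjoint_union_left, Finset.disjoint_filter]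
          exact ⟨fun y _ h h' => hab (h.symm.trans h'), fun y _ h h' => hab' (h.symm.trans h')⟩
        · simp only [Finset.disjoint_filter]
          exact fun y _ h h' => hne (h'.symm.trans h)
      omega

/-- tameness from a cover of the weights by hyperplanes -/
theorem tameRep_of_cover {G : Type u} [Group G] [Finite G] {R : ValuationSubring ℂ}
    {P : Subgroup G} [IsMulCommutative P] {ι : Type v} [Fintype ι] [DecidableEq ι]
    {X : G →* Matrix ι ι ℂ} (hX : ∀ g i j, X g i j ∈ R) {s : ℂ} (hs : s ∈ R) {n : ℕ}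
    (h : ∀ l : P →* ℂˣ, rmul P (fun g => (X g).trace) l ≠ 0 → ∃ L : List (P × ℂ),
      L.length ≤ n ∧ (∀ c ∈ L, c.2 ∈ R ∧ R.valuation s ≤ R.valuation (l c.1 - c.2)) ∧
      ∀ m : P →* ℂˣ, m ≠ l → rmul P (fun g => (X g).trace) m ≠ 0 → ∃ c ∈ L, m c.1 = c.2) :
    TameRep R P (s ^ n) X := by
  classical
  have := Fintype.ofFinite P
  have := Fintype.ofFinite (P →* ℂˣ)
  have h0 : (Nat.card P : ℂ) ≠ 0 := by exact_mod_cast Nat.card_pos.ne'
  let E : (P →* ℂˣ) → Matrix ι ι ℂ := fun l => (Nat.card P : ℂ)⁻¹ • ∑ v : P, conj (l v : ℂ) • X v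
  have hE : ∀ l (u : P), X u * E l = (l u : ℂ) • E l := fun l u => by
    simp only [E, mul_smul_comm, mul_sum_conj_smul, smul_comm (l u : ℂ)]
  have hE1 : ∑ l, E l = 1 := by
    simp only [E, ← Finset.smul_sum]
    rw [Finset.sum_comm]
    have h1 := fun v : P => sum_unitsHom_conj_mul 1 v
    simp only [map_one, Units.val_one, mul_one] at h1
    simp only [← Finset.sum_smul, h1]
    simp [smul_smul, -Nat.card_eq_fintype_card, h0]
  have hE2 : ∀ l i j, s ^ n * E l i j ∈ R := fun l i j => by
    by_cases hl : rmul P (fun g => (X g).trace) l = 0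
    · simp [E, sum_conj_smul_eq_zero X P hl]
    obtain ⟨L, hL, hL1, hL2⟩ := h l hl
    have h1 : ∀ m (L : List (P × ℂ)), (L.map fun c => X c.1 - c.2 • (1 : Matrix ι ι ℂ)).prod * E m =
        (L.map fun c => (m c.1 : ℂ) - c.2).prod • E m := fun m L => by
      induction L with
      | nil => simp
      | cons c L ih =>
        simp only [List.map_cons, List.prod_cons, mul_assoc, ih, mul_smul_comm, sub_mul, hE,
          smul_mul_assoc, one_mul, ← sub_smul, smul_smul, mul_comm]
    have h2 : (L.map fun c => X c.1 - c.2 • (1 : Matrix ι ι ℂ)).prod =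
        (L.map fun c => (l c.1 : ℂ) - c.2).prod • E l := by
      refine (mul_one _).symm.trans ((congrArg _ hE1.symm).trans ?_)
      rw [Finset.mul_sum, Finset.sum_eq_single l _ (by simp), h1]
      intro m _ hm
      by_cases hm' : rmul P (fun g => (X g).trace) m = 0
      · simp [E, sum_conj_smul_eq_zero X P hm']
      obtain ⟨c, hc, hc'⟩ := hL2 m hm hm'
      rw [h1, List.prod_eq_zero (List.mem_map.2 ⟨c, hc, sub_eq_zero.2 hc'⟩), zero_smul]
    have h3 : ∀ L : List (P × ℂ), (∀ c ∈ L, c.2 ∈ R) → ∀ i j,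
        (L.map fun c => X c.1 - c.2 • (1 : Matrix ι ι ℂ)).prod i j ∈ R := fun L hL => by
      have hone : ∀ i j, (1 : Matrix ι ι ℂ) i j ∈ R := fun i j => by
        rw [Matrix.one_apply]; split_ifs; exacts [one_mem _, zero_mem _]
      induction L with
      | nil => exact hone
      | cons c L ih =>
        intro i j
        rw [List.map_cons, List.prod_cons, Matrix.mul_apply]
        exact sum_mem fun k _ => mul_mem (sub_mem (hX _ _ _)
          (mul_mem (hL c List.mem_cons_self) (hone _ _)))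
          (ih (fun c hc => hL c (List.mem_cons_of_mem _ hc)) _ _)
    have h4 : ∀ L : List (P × ℂ), (∀ c ∈ L, R.valuation s ≤ R.valuation (l c.1 - c.2)) →
        R.valuation s ^ L.length ≤ R.valuation (L.map fun c => (l c.1 : ℂ) - c.2).prod :=
      fun L hL => by
        induction L with
        | nil => simp
        | cons c L ih =>
          rw [List.map_cons, List.prod_cons, map_mul, List.length_cons, pow_succ']
          exact mul_le_mul' (hL c List.mem_cons_self)
            (ih fun c hc => hL c (List.mem_cons_of_mem _ hc))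
    have h5 := h3 L (fun c hc => (hL1 c hc).1) i j
    rw [h2, Matrix.smul_apply, smul_eq_mul, ← R.valuation_le_one_iff, map_mul] at h5
    rw [← R.valuation_le_one_iff, map_mul, map_pow]
    exact (mul_le_mul_left ((pow_le_pow_right_of_le_one' ((R.valuation_le_one_iff _).2 hs) hL).trans
      (h4 L fun c hc => (hL1 c hc).2)) _).trans h5
  refine ⟨hX, fun i j => ?_⟩
  have h1 : (fun u : P => s ^ n * X u i j) =
      ∑ l, (⟨_, hE2 l i j⟩ : R) • fun u : P => (l u : ℂ) := by
    ext u
    rw [← mul_one (X u), ← hE1, Finset.mul_sum, Matrix.sum_apply, Finset.sum_apply, Finset.mul_sum]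
    refine Finset.sum_congr rfl fun l _ => ?_
    rw [hE]
    change s ^ n * (l u * E l i j) = s ^ n * E l i j * l u
    ring
  rw [h1]
  exact sum_mem fun l _ => Submodule.smul_mem _ _ (Submodule.subset_span ⟨l, rfl⟩)

end Cfsg
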