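import Cfsg.Agent.Lin.Scott
import Cfsg.Agent.CT.Indicator

/-! Perfect linear groups of degree three whose order is divisible by five. -/

set_option autoImplicit false

namespace Cfsg

open scoped ComplexConjugate Pointwise commutatorElement

universe u v w

variable {G : Type u} [Group G]

theorem eq_top_of_map_center (hperf : commutator G = ⊤) {M : Subgroup G}
    (h : M.map (QuotientGroup.mk' (Subgroup.center G)) = ⊤) : M = ⊤ := by
  have h1 : ∀ g : G, ∃ m ∈ M, ∃ z ∈ Subgroup.center G, m * z = g := fun g => by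
    obtain ⟨m, hm, h2⟩ := h.ge (Subgroup.mem_top (g : G ⧸ Subgroup.center G))
    exact ⟨m, hm, m⁻¹ * g, QuotientGroup.eq.1 h2, by simp⟩
  rw [eq_top_iff, ← hperf, commutator_def, Subgroup.commutator_le]
  intro a _ b _
  obtain ⟨m, hm, z, hz, rfl⟩ := h1 a
  obtain ⟨n, hn, w, hw, rfl⟩ := h1 b
  have h2 := Subgroup.mem_center_iff.1 hz
  have h3 := Subgroup.mem_center_iff.1 hw
  have : ⁅m * z, n * w⁆ = m * n * m⁻¹ * n⁻¹ := by
    rw [commutatorElement_def, h2 m, h3 n, mul_inv_rev, mul_inv_rev,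
      show z * m * (w * n) * (m⁻¹ * z⁻¹) = z * (m * (w * n) * m⁻¹) * z⁻¹ by group, ← h2,
      mul_inv_cancel_right, ← mul_assoc m w, h3 m]
    calc _ = w * (m * n * m⁻¹ * n⁻¹) * w⁻¹ := by group
      _ = _ := by rw [← h3, mul_inv_cancel_right]
  rw [this]
  exact mul_mem (mul_mem (mul_mem hm hn) (inv_mem hm)) (inv_mem hn)

theorem pPrimeCore_eq_bot_of_simple [Finite G] [IsSimpleGroup G] {p : ℕ} [Fact p.Prime]
    (h : p ∣ Nat.card G) : pPrimeCore p G = ⊥ :=
  (IsSimpleGroup.eq_bot_or_eq_top_of_normal _ inferInstance).resolve_right fun h1 =>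
    not_dvd_card_pPrimeCore (G := G) p (by rwa [h1, Subgroup.card_top])

theorem IsCharacter.cast_fixDim_top [Fintype G] {χ : G → ℂ} (h : IsCharacter G χ) :
    (fixDim ⊤ χ : ℂ) = classInner χ fun _ => 1 := by
  have := Fintype.ofFinite (⊤ : Subgroup G)
  have h8 := h.card_mul_fixDim ⊤
  have hG : (Nat.card G : ℂ) ≠ 0 := by exact_mod_cast Nat.card_pos.ne'
  rw [classInner_def, eq_comm, inv_mul_eq_iff_eq_mul₀ hG, ← Subgroup.card_top, h8]
  simpa using (Subgroup.topEquiv.toEquiv.sum_comp χ).symm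

theorem IsCharacter.eq_one_add [Fintype G] {f : G → ℂ} (hf : IsCharacter G f)
    (h1 : cmult f (IrrCharacter.triv G).1 ≠ 0) {ψ : IrrCharacter G} (hψ : ψ ≠ IrrCharacter.triv G)
    (h2 : cmult f ψ.1 ≠ 0) (hd : charDegree f ≤ 1 + charDegree ψ.1) (g : G) :
    f g = 1 + ψ.1 g := by
  classical
  have := hf.eq_sum_of_charDegree_le {IrrCharacter.triv G, ψ} (fun ξ hξ => by
    rcases Finset.mem_insert.1 hξ with rfl | hξ
    · exact (hf.cmult_ne_zero_iff (IrrCharacter.isCharacter _)).1 h1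
    · rw [Finset.mem_singleton.1 hξ]
      exact (hf.cmult_ne_zero_iff ψ.isCharacter).1 h2) (by
    rwa [Finset.sum_pair hψ.symm, IrrCharacter.charDegree_triv]) g
  rwa [Finset.sum_pair hψ.symm] at this

namespace QData

variable [Fintype G] {p : ℕ} [hp : Fact p.Prime] {P : Sylow p G} {F : CenFrame p P}
  {ζ : IrrCharacter G} (D : QData F ζ)
include D

omit hp in
theorem exists_lift {q : ℕ} (hq : q.Prime) (h : ¬ q ∣ charDegree ζ.1)
    {s : G ⧸ Subgroup.center G} (hs : orderOf s = q) : ∃ y : G, orderOf y = q ∧ y = s := by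
  have := Fact.mk hq
  obtain ⟨y, ⟨k, hk⟩, rfl⟩ := exists_pElement_lift (p := q) (QuotientGroup.mk' _)
    (QuotientGroup.mk'_surjective _) (y := s) ⟨1, by rw [hs, pow_one]⟩
  refine ⟨y, orderOf_eq_prime ?_ (fun h1 => hq.ne_one (by rw [← hs, h1, map_one, orderOf_one])), rfl⟩
  have h1 : y ^ q ∈ Subgroup.center G := by
    rw [← QuotientGroup.eq_one_iff, QuotientGroup.mk_pow, ← hs]
    exact pow_orderOf_eq_one _
  obtain ⟨j, -, hj⟩ := (Nat.dvd_prime_pow hq).1 (hk ▸ orderOf_pow_dvd (x := y) q)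
  by_contra h2
  refine D.not_dvd_center h h1 (hj ▸ dvd_pow_self q fun h0 => h2 ?_)
  rwa [h0, pow_zero, orderOf_eq_one_iff] at hj

theorem prime_le {q : ℕ} (hq : q.Prime) (hqp : q ≠ p) (h : ¬ q ∣ charDegree ζ.1)
    (h1 : q ∣ Nat.card (G ⧸ Subgroup.center G)) : q ≤ charDegree ζ.1 + 1 := by
  have := Fact.mk hq
  obtain ⟨x, hx⟩ := exists_prime_orderOf_dvd_card' q (h1.trans (Subgroup.card_quotient_dvd_card _))
  exact ζ.isCharacter.le_charDegree_add_one_of_rational hq hx
    (fun h2 => hq.ne_one (by rw [← hx, D.faith x h2, orderOf_one])) fun k hk =>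
      D.apply_pow hq hqp h hk ⟨1, by rw [hx, pow_one]⟩

omit D in
theorem _root_.Cfsg.CenFrame.mk_ne_one (F : CenFrame p P) {u : G} (hu : u ∈ (P : Subgroup G)) (hu1 : u ≠ 1) :
    (u : G ⧸ Subgroup.center G) ≠ 1 := fun h => F.center_reg
  ((QuotientGroup.eq_one_iff u).1 h) (orderOf_eq_of_card_prime F.card hu hu1).symm.dvd

theorem fixDim_eq_one : fixDim (P : Subgroup G) ζ.1 = 1 := by
  obtain ⟨φ, E, hδ, l, hl, rfl⟩ := D.exists_fam
  exact E.fixDim_eq_one hδ hl D.deg

theorem fixDim_symSq_ne_zero (h2 : p ≠ 2) :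
    fixDim (P : Subgroup G) (fun g => (ζ.1 g ^ 2 + ζ.1 (g * g)) / 2) ≠ 0 := fun h => by
  have := Fintype.ofFinite (P : Subgroup G)
  have hp0 : (p : ℂ) ≠ 0 := by exact_mod_cast hp.out.ne_zero
  have h3 := ζ.isCharacter.symSq.card_mul_fixDim (P : Subgroup G)
  have h4 := (ζ.isCharacter.mul ζ.isCharacter).card_mul_fixDim (P : Subgroup G)
  have h5 := ζ.isCharacter.card_mul_fixDim (P : Subgroup G)
  rw [← (powCoprime (G := (P : Subgroup G)) (n := 2) (by
    rw [F.card]; exact (Nat.coprime_primes hp.out Nat.prime_two).2 h2)).sum_comp,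
    D.fixDim_eq_one] at h5
  rw [h] at h3
  simp only [powCoprime_apply, pow_two, Subgroup.coe_mul, F.card, Pi.mul_apply, ← Finset.sum_div,
    Finset.sum_add_distrib] at h3 h4 h5
  have h6 : ((fixDim (P : Subgroup G) (ζ.1 * ζ.1) + 1 : ℕ) : ℂ) = 0 :=
    mul_left_cancel₀ hp0 (by push_cast at h3 h5 ⊢; linear_combination h4 + h5 - 2 * h3)
  exact Nat.succ_ne_zero _ (Nat.cast_eq_zero.1 h6)

end QData

theorem QData.alt_six [Fintype G] [hp : Fact (Nat.Prime 5)] {P : Sylow 5 G} {F : CenFrame 5 P}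
    {ζ : IrrCharacter G} (D : QData F ζ) [Fintype (G ⧸ Subgroup.center G)]
    (O : PrinOne 5 (sylZ P : Subgroup (G ⧸ Subgroup.center G)))
    {χ ψ : IrrCharacter (G ⧸ Subgroup.center G)} (hχ : χ ∈ O.X) (hψ : ψ ∈ O.Y)
    (hχd : charDegree χ.1 = 9) (hψd : charDegree ψ.1 = 8) (hδ : O.δ χ = -1) (h0 : O.δ₀ = 1)
    (hf : ∀ g : G, ζ.1 g * conj (ζ.1 g) = 1 + ψ.1 g) :
    Nonempty (G ⧸ Subgroup.center G ≃* alternatingGroup (Fin 6)) := by
  classical
  have := D.isSimple
  have he : F.e = 2 := by have := D.lt; have := F.two_le; omega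
  have hd : charDegree ζ.1 = 3 := by have := D.deg; omega
  have H := F.scp_sylZ
  have h2 := F.autIdx_sylZ.trans he
  have hχ1 : χ ≠ IrrCharacter.triv _ := fun h => by simp [h] at hχd
  have hreg : ∀ s, ¬ 5 ∣ orderOf s → χ.1 s = 1 + ψ.1 s := fun s hs => by
    have := O.reg ψ hψ s hs
    rw [O.sum_X_of_two h2 hχ hχ1, O.δ_triv, hδ, h0, IrrCharacter.triv_apply] at this
    push_cast at this
    linear_combination -this
  obtain ⟨u, hu, hu1⟩ := exists_ne_one_of_card_prime F.card
  have hu' : (u : G ⧸ Subgroup.center G) ∈ (sylZ P : Subgroup (G ⧸ Subgroup.center G)) :=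
    Subgroup.mem_map_of_mem (QuotientGroup.mk' _) hu
  have hu1' := F.mk_ne_one hu hu1
  have hfrob : ∀ a b, ¬ 5 ∣ orderOf a → ¬ 5 ∣ orderOf b →
      (Nat.card {q : _ × _ // IsConj a q.1 ∧ IsConj b q.2 ∧ q.1 * q.2 = (u : G ⧸ _)} : ℂ) *
      (Nat.card (Subgroup.centralizer ({a} : Set _)) *
        Nat.card (Subgroup.centralizer ({b} : Set _))) = Nat.card (G ⧸ Subgroup.center G) *
      (1 - χ.1 a * χ.1 b / 9 + ψ.1 a * ψ.1 b / 8) := fun a b ha hb => by
    rw [O.card_frob H hψ ha hb (H.dvd_of_mem hu' hu1'), O.sum_X_of_two h2 hχ hχ1, O.δ_triv, hδ, h0,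
      χ.one_eq_charDegree, ψ.one_eq_charDegree, hχd, hψd]
    simp [sub_eq_add_neg]
  have hinv : ∀ y : G, orderOf y = 2 → ζ.1 y = -1 := fun y hy => by
    obtain ⟨m, h3, h4, h5⟩ := ζ.isCharacter.exists_int_of_sq_eq_one (g := y)
      (hy ▸ pow_orderOf_eq_one y)
    rw [detChar_eq_one_of_perfect D.perf] at h5
    rw [hd] at h3 h4
    interval_cases m
    · rw [D.faith y (by rw [h4, ζ.one_eq_charDegree, hd]; simp), orderOf_one] at hy
      norm_num at hy
    · norm_num at h5
    · rw [h4]; norm_num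
    · norm_num at h5
  have hinv' : ∀ s : G ⧸ Subgroup.center G, orderOf s = 2 → ψ.1 s = 0 := fun s hs => by
    obtain ⟨y, hy, rfl⟩ := D.exists_lift Nat.prime_two (by rw [hd]; norm_num) hs
    have := hf y
    rw [hinv y hy] at this
    simpa using this
  obtain ⟨s, hs, hs'⟩ := exists_central_invol (G := G ⧸ Subgroup.center G)
    ((show 2 ∣ charDegree ψ.1 by rw [hψd]; norm_num).trans ψ.charDegree_dvd_card)
  have hs5 : ¬ 5 ∣ orderOf s := by rw [hs]; norm_num
  have hcard : Nat.card (G ⧸ Subgroup.center G) = 360 := by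
    have h3 := hfrob s s hs5 hs5
    rw [hreg s hs5, hinv' s hs] at h3
    have h4 := (Subgroup.centralizer ({s} : Set _)).card_mul_index
    have h5 : 45 * Nat.card (Subgroup.centralizer ({s} : Set _)) =
        8 * (Subgroup.centralizer ({s} : Set _)).index := by
      have h6 : (Nat.card (G ⧸ Subgroup.center G) : ℂ) ≠ 0 := by exact_mod_cast Nat.card_pos.ne'
      rcases H.card_pairs_cases (by norm_num) (s := s) (by rw [← sq, ← hs, pow_orderOf_eq_one])
        hu' hu1' with h | h <;> rw [h] at h3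
      · exact absurd (by push_cast at h3; linear_combination -9 / 8 * h3) h6
      · refine Nat.eq_of_mul_eq_mul_left (Nat.card_pos (α := Subgroup.centralizer ({s} : Set _)))
          (Nat.cast_injective (R := ℂ) ?_)
        rw [← h4] at h3
        push_cast at h3 ⊢
        linear_combination 9 * h3
    have h6 := eq_of_primes_le_seven (n := Nat.card (G ⧸ Subgroup.center G)) Nat.card_pos.ne'
      fun q hq h => by
        by_contra h7
        have := D.prime_le hq (by omega) (fun h8 => by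
          rw [hd, Nat.prime_dvd_prime_iff_eq hq Nat.prime_three] at h8; omega) h
        have := hq.two_le
        have : q ≠ 4 := by rintro rfl; norm_num at hq
        omega
    have h7 : ¬ 7 ∣ Nat.card (G ⧸ Subgroup.center G) := fun h => by
      have := D.prime_le (q := 7) (by norm_num) (by norm_num) (by rw [hd]; norm_num) h
      omega
    obtain ⟨R⟩ : Nonempty (Sylow 3 (G ⧸ Subgroup.center G)) := inferInstance
    have h8 := χ.isCharacter.card_sylow_le_of_int (χ.charKer_eq_bot_iff.1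
      (χ.charKer_eq_bot_of_isSimpleGroup hχ1)) R (fun g _ => O.X_int H hχ (fun ξ hξ h => by
        rcases hξ with hξ | hξ
        · rw [O.X_eq_pair h2 hχ hχ1, Finset.mem_insert, Finset.mem_singleton] at hξ
          exact hξ.resolve_left fun h9 => by simp [h9, hχd] at h
        · rw [O.Y_deg_eq hξ hψ] at h
          omega) g) hχd
    rw [R.card_eq_multiplicity, Nat.pow_le_pow_iff_right (by norm_num),
      show ∑ i ∈ Finset.range (9 + 1), 9 / ((3 - 1) * 3 ^ i) = 5 by decide] at h8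
    rw [← (sylZ P).card_eq_multiplicity, H.card, Nat.factorization_eq_zero_of_not_dvd h7] at h6
    have h9 := H.card_G
    have h10 := index_sylN_mod (sylZ P)
    rw [h2] at h9
    generalize (Nat.card (G ⧸ Subgroup.center G)).factorization 2 = a at h6
    generalize (Nat.card (G ⧸ Subgroup.center G)).factorization 3 = b at h6 h8
    generalize Nat.card (Subgroup.centralizer ({s} : Set _)) = c at h4 h5
    generalize (Subgroup.centralizer ({s} : Set _)).index = i at h4 h5 hs'
    obtain ⟨m, rfl⟩ : ∃ m, c = 8 * m := ⟨c / 8, by omega⟩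
    obtain rfl : i = 45 * m := by omega
    have h11 : a ≤ 3 := by
      by_contra h
      obtain ⟨k, rfl⟩ : ∃ k, a = k + 4 := ⟨a - 4, by omega⟩
      have h12 : 2 ∣ m * m := by
        rw [h6, pow_add] at h4
        have : 45 * (m * m) = 2 * (2 ^ k * 3 ^ b * 5) := by linarith
        omega
      have := (Nat.Prime.dvd_mul Nat.prime_two).1 h12
      omega
    have h12 : 8 ∣ Nat.card (G ⧸ Subgroup.center G) := ⟨_, by rw [← h4, mul_assoc]⟩
    rw [h6] at h9 h12 ⊢
    interval_cases a <;> interval_cases b <;> omega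
  obtain ⟨w, hw⟩ := exists_prime_orderOf_dvd_card' (G := G ⧸ Subgroup.center G) 3
    (by rw [hcard]; norm_num)
  have hz : ∀ w : G ⧸ Subgroup.center G, 3 ∣ orderOf w → χ.1 w = 0 := fun w hw =>
    χ.eq_zero_of_ordProj_dvd (p := 3) (by
      rw [hcard, hχd, show 360 = 3 ^ 2 * 40 by norm_num,
        Nat.factorization_mul (by norm_num) (by norm_num), Nat.prime_three.factorization_pow,
        Finsupp.add_apply, Nat.factorization_eq_zero_of_not_dvd (by norm_num)]
      simp) hw
  have h3 := hfrob s w hs5 (by rw [hw]; norm_num)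
  rw [hz w hw.symm.dvd, hinv' s hs, hcard] at h3
  obtain ⟨⟨⟨a, b⟩, ha, hb, hab⟩⟩ := (Nat.card_ne_zero.1 fun h => by
    rw [h] at h3; norm_num at h3).1
  dsimp only at ha hb hab
  have ha2 : orderOf a = 2 := (orderOf_eq_of_isConj ha).trans hs
  have hb3 : orderOf b = 3 := (orderOf_eq_of_isConj hb).trans hw
  obtain ⟨y, hy, rfl⟩ := D.exists_lift Nat.prime_two (by rw [hd]; norm_num) ha2
  obtain ⟨g, rfl⟩ : ∃ g, u = y * g := ⟨y⁻¹ * u, by simp⟩
  obtain rfl : b = g := by rwa [QuotientGroup.mk_mul, mul_right_inj] at hab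
  have hg0 : ∀ x : G, orderOf (x : G ⧸ Subgroup.center G) = 3 → ζ.1 x = 0 := fun x hx => by
    have := hf x
    rw [← hreg _ (by rw [hx]; norm_num), hz _ hx.symm.dvd, Complex.mul_conj] at this
    simpa using this
  have hg1 := hg0 g hb3
  have hg2 : ζ.1 (g ^ 2) = 0 := hg0 _ (by
    rw [QuotientGroup.mk_pow, Nat.Coprime.orderOf_pow (by rw [hb3]; norm_num), hb3])
  have hg3 : g ^ 3 = 1 := by
    have h4 := ζ.isCharacter.exists_eigenvalues g
    rw [hd, detChar_eq_one_of_perfect D.perf] at h4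
    obtain ⟨ε, -, h5, -, h6⟩ := h4
    have h7 := h5 1
    have h8 := h5 2
    refine D.faith _ ?_
    rw [pow_one, hg1] at h7
    rw [hg2] at h8
    rw [h5, ζ.one_eq_charDegree, hd]
    simp only [Fin.sum_univ_three, Fin.prod_univ_three, pow_one] at h6 h7 h8 ⊢
    push_cast
    linear_combination -3 * h6 - 3 / 2 * (ε 0 + ε 1 + ε 2) * h8 +
      1 / 2 * (ε 0 + ε 1 + ε 2) ^ 2 * h7
  have hg : orderOf g = 3 := orderOf_eq_prime hg3 fun h => by simp [h] at hb3
  have hσ := ζ.isCharacter.symSq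
  have hσ1 : charDegree (fun g => (ζ.1 g ^ 2 + ζ.1 (g * g)) / 2) = 6 :=
    charDegree_eq_of_one_eq (by simp only [mul_one, ζ.one_eq_charDegree, hd]; norm_num)
  have h4 := hσ.fixDim_sup_ne_zero (Subgroup.mem_zpowers y) (Subgroup.mem_zpowers g) le_rfl le_rfl
    (by
      have e1 := hσ.mul_fixDim_zpowers hy
      have e2 := hσ.mul_fixDim_zpowers hg
      have e3 := D.fixDim_symSq_ne_zero (by norm_num)
      have e4 : y * y = 1 := by rw [← sq, ← hy, pow_orderOf_eq_one]
      have e5 : g ^ 2 * g ^ 2 = g := by rw [← pow_add, show 2 + 2 = 3 + 1 from rfl, pow_succ, hg3,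
        one_mul]
      simp only [Finset.sum_range_succ, Finset.sum_range_zero, pow_zero, pow_one, mul_one, e4, e5,
        ← sq g, hg1, hg2, hinv y hy, ζ.one_eq_charDegree, hd] at e1 e2
      rw [eq_zpowers_of_card_prime F.card hu hu1] at e3
      have e6 : fixDim (Subgroup.zpowers y) (fun g => (ζ.1 g ^ 2 + ζ.1 (g * g)) / 2) = 4 :=
        Nat.cast_injective (R := ℂ) (by push_cast at e1 ⊢; linear_combination e1 / 2)
      have e7 : fixDim (Subgroup.zpowers g) (fun g => (ζ.1 g ^ 2 + ζ.1 (g * g)) / 2) = 2 :=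
        Nat.cast_injective (R := ℂ) (by push_cast at e2 ⊢; linear_combination e2 / 3)
      omega)
  set M := Subgroup.zpowers y ⊔ Subgroup.zpowers g
  have hyM : (y : G ⧸ Subgroup.center G) ∈ M.map (QuotientGroup.mk' _) :=
    Subgroup.mem_map_of_mem _ (Subgroup.mem_sup_left (Subgroup.mem_zpowers y))
  have hgM : (g : G ⧸ Subgroup.center G) ∈ M.map (QuotientGroup.mk' _) :=
    Subgroup.mem_map_of_mem _ (Subgroup.mem_sup_right (Subgroup.mem_zpowers g))
  obtain ⟨e', n, h5, h6, h7, h8⟩ := exists_card_eq_of_mul H.card H.card_N hyM hgM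
    (by rw [ha2]; norm_num) (by rw [hb3]; norm_num) (orderOf_eq_of_card_prime H.card hu' hu1')
  obtain rfl : e' = 2 := le_antisymm (Nat.le_of_dvd two_pos (h2 ▸ h6)) h5
  have h9 := (M.map (QuotientGroup.mk' (Subgroup.center G))).card_mul_index
  have h10 := hb3 ▸ Subgroup.orderOf_dvd_natCard _ hgM
  rw [h8] at h9 h10
  rw [hcard] at h9
  have h11 : n ∣ 36 := ⟨(M.map (QuotientGroup.mk' (Subgroup.center G))).index, by linarith⟩
  have h12 := Nat.le_of_dvd (by norm_num) h11
  by_cases h13 : n = 6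
  · exact nonempty_alt_of_index (M := M.map (QuotientGroup.mk' _)) (by norm_num)
      (by rw [h13] at h9; omega) (by rw [hcard]; rfl)
  exfalso
  obtain rfl : n = 36 := by interval_cases n <;> omega
  rw [eq_top_of_map_center D.perf (M := M) (Subgroup.index_eq_one.1 (by omega)), ← Nat.cast_ne_zero
    (R := ℂ), hσ.cast_fixDim_top] at h4
  have hα := ζ.isCharacter.altSq
  have hsum : ζ.1 * ζ.1 = (fun g => (ζ.1 g ^ 2 + ζ.1 (g * g)) / 2) +
      fun g => (ζ.1 g ^ 2 - ζ.1 (g * g)) / 2 := funext fun x => by simp; ring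
  have h14 : ζ = ζ.cconj := IrrCharacter.eq_of_classInner_ne_zero (by
    have e1 := classInner_mul_left ζ.1 ζ.1 fun _ => 1
    obtain ⟨k, hk⟩ := hσ.exists_classInner_eq_nat IsCharacter.one
    obtain ⟨l, hl⟩ := hα.exists_classInner_eq_nat IsCharacter.one
    rw [hsum, classInner_add_left, hk, hl] at e1
    rw [show ζ.cconj.1 = (fun _ => 1) * fun g => conj (ζ.1 g) from funext fun x => by simp, ← e1]
    rw [hk] at h4
    norm_cast at h4 ⊢
    omega)
  set η := ψ.inflate (Subgroup.center G)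
  have h15 : classInner (ζ.1 * ζ.1) η.1 = 1 := by
    rw [show ζ.1 * ζ.1 = (IrrCharacter.triv G).1 + η.1 from funext fun x => by
      rw [Pi.mul_apply, Pi.add_apply, IrrCharacter.inflate_apply, IrrCharacter.triv_apply, ← hf,
        ← IrrCharacter.cconj_apply, ← h14], classInner_add_left, η.classInner_self,
      IrrCharacter.classInner_of_ne, zero_add]
    intro h
    have := congrArg (fun ξ => charDegree ξ.1) h
    simp [η, hψd] at this
  have h16 : charDegree (fun g => (ζ.1 g ^ 2 - ζ.1 (g * g)) / 2) = 3 :=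
    charDegree_eq_of_one_eq (by simp only [mul_one, ζ.one_eq_charDegree, hd]; norm_num)
  have h17 : charDegree η.1 = 8 := by simp [η, hψd]
  rw [hsum, classInner_add_left] at h15
  by_cases h18 : classInner (fun g => (ζ.1 g ^ 2 + ζ.1 (g * g)) / 2) η.1 = 0
  · have := hα.charDegree_le_of_constituent η (by
      rw [h18, zero_add] at h15; rw [h15]; exact one_ne_zero)
    omega
  · have := hσ.charDegree_le_of_constituent η h18
    omega

theorem QData.five [Fintype G] [hp : Fact (Nat.Prime 5)] {P : Sylow 5 G} {F : CenFrame 5 P}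
    {ζ : IrrCharacter G} (D : QData F ζ) :
    Nonempty (G ⧸ Subgroup.center G ≃* Matrix.ProjectiveSpecialLinearGroup (Fin 2) (ZMod 5)) ∨
      Nonempty (G ⧸ Subgroup.center G ≃* alternatingGroup (Fin 6)) := by
  classical
  have := Fintype.ofFinite (G ⧸ Subgroup.center G)
  have := D.isSimple
  have he : F.e = 2 := by have := D.lt; have := F.two_le; omega
  have hd : charDegree ζ.1 = 3 := by have := D.deg; omega
  have H := F.scp_sylZ
  have h2 := F.autIdx_sylZ.trans he
  obtain ⟨O⟩ := exists_prinOne _ H.card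
  obtain ⟨f, hf, hf0, hf1, hf2, hf3⟩ := D.exists_f
  obtain ⟨χ, hχ, hχ1⟩ := O.exists_two h2
  obtain ⟨ψ, hψ⟩ := O.Y_nonempty
  have e1 := O.fixDim_X H.card hχ
  have e2 := O.fixDim_Y H.card hψ
  have e3 := O.degree_rel hψ
  have e4 := D.mult_eq O hf hf1 hf3
  have e5 := O.degree_split hf hψ
  have e6 : charDegree χ.1 ≠ 1 := fun h => hχ1 (χ.charKer_eq_top_iff.1
    (eq_top_iff.2 (D.perf_quot ▸ χ.charDegree_eq_one_iff_commutator_le.1 h)))
  rw [O.sum_X_of_two h2 hχ hχ1, O.δ_triv, IrrCharacter.charDegree_triv] at e3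
  rw [O.sum_X_of_two h2 hχ hχ1, O.δ_triv, hf2, he, hd, ← Nat.cast_sum] at e4
  rw [O.sum_X_of_two h2 hχ hχ1, hf2, hf1, hd, IrrCharacter.charDegree_triv] at e5
  rw [h2] at e2
  have hO : pPrimeCore 5 (G ⧸ Subgroup.center G) = ⊥ :=
    pPrimeCore_eq_bot_of_simple (H.card ▸ Subgroup.card_subgroup_dvd_card _)
  rcases O.δ_sign χ hχ with h | h <;> rcases O.δ₀_sign with h0 | h0 <;> rw [h] at e1 e3 e4 <;>
    rw [h0] at e2 e3 e4
  · omega
  · exfalso
    have e7 := Nat.mul_le_mul_right (charDegree χ.1) (show 1 ≤ cmult f χ.1 by omega)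
    have e8 := Nat.mul_le_mul_right (charDegree ψ.1) (show 1 ≤ ∑ ξ ∈ O.Y, cmult f ξ.1 by omega)
    omega
  · have e8 := Nat.mul_le_mul_right (charDegree ψ.1) (show 1 ≤ ∑ ξ ∈ O.Y, cmult f ξ.1 by omega)
    by_cases h3 : charDegree χ.1 = 4
    · have Q : QTwo 5 (sylZ P) O χ := ⟨⟨by norm_num, H.card, H.cen, h2⟩, le_rfl, hO, hχ, by omega⟩
      have h4 := H.card_G
      rw [Q.card_eq, h2] at h4
      exact Or.inl (psl2_of_card_sylow D.perf_quot _ H.card hO (by
        rw [(sylZ P).card_eq_index_normalizer]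
        change (sylN (sylZ P)).index = _
        omega)).2
    · obtain ⟨ψ', hψ', h4⟩ := Finset.exists_ne_zero_of_sum_ne_zero
        (show ∑ ξ ∈ O.Y, cmult f ξ.1 ≠ 0 by omega)
      have h5 := O.Y_deg_eq hψ' hψ
      exact Or.inr (D.alt_six O hχ hψ' (by omega) (by omega) h h0 fun g => by
        rw [← hf0, hf.eq_one_add (ψ := ψ') (by omega)
          (fun h6 => O.notMem _ hψ' (h6 ▸ O.triv_mem)) h4
          (by rw [hf1, hd]; omega)])
  · omega

end Cfsg
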