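import Cfsg.Agent.Lin.BiRed

/-! Multiplicities of exceptional characters in a product of two small characters. -/

set_option autoImplicit false
set_option linter.unusedSectionVars false

namespace Cfsg

open Module
open scoped ComplexConjugate

universe u v w

variable {G : Type u} [Group G] [Fintype G] {p : ℕ} [hp : Fact p.Prime] {P : Sylow p G}
  {F : CenFrame p P} {φ : Subgroup.center G →* ℂˣ}

/-- `e` times the multiplicity of an eigenvalue of `h` on the vectors fixed by `P` -/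
noncomputable def CenFrame.nuC (F : CenFrame p P) (ε : ℂ) (χ : G → ℂ) : ℂ :=
  fixDim P χ - χ 1 + ∑ i ∈ Finset.range F.e, ε⁻¹ ^ i * χ (F.h ^ i)

theorem CenFrame.conj_inv_eq (F : CenFrame p P) {γ : ℂ} (hγ : γ ^ F.e = φ ⟨_, F.h_pow_mem⟩) :
    conj γ⁻¹ = γ := by
  have h1 : ‖γ‖ = 1 := Complex.norm_eq_one_of_pow_eq_one (n := F.e * Nat.card (Subgroup.center G))
    (by rw [pow_mul, hγ, ← Units.val_pow_eq_pow_val, ← map_pow, pow_card_eq_one', map_one,
      Units.val_one]) (mul_ne_zero F.e_pos.ne' Nat.card_pos.ne')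
  rw [Complex.inv_eq_conj h1, Complex.conj_conj]

theorem CenFrame.nuC_of_val (F : CenFrame p P) {χ : G → ℂ} {γ ε : ℂ}
    (hγ : γ ^ F.e = φ ⟨_, F.h_pow_mem⟩) (hε : ε ^ F.e = φ ⟨_, F.h_pow_mem⟩)
    (hv : ∀ i, ¬ F.e ∣ i → χ (F.h ^ i) = γ ^ i) [Decidable (ε = γ)] :
    F.nuC ε χ = fixDim P χ - 1 + if ε = γ then (F.e : ℂ) else 0 := by
  have he := F.e_pos
  have h0 : ε ≠ 0 := fun h => by rw [h, zero_pow he.ne'] at hε; exact Units.ne_zero _ hε.symm
  have h1 : ∑ i ∈ Finset.range F.e, (ε⁻¹ * γ) ^ i = if ε = γ then (F.e : ℂ) else 0 := by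
    split_ifs with h
    · simp [← h, h0]
    · rw [geom_sum_eq (fun h' => h ((inv_mul_eq_one₀ h0).1 h')), mul_pow, inv_pow, hγ, hε,
        inv_mul_cancel₀ (Units.ne_zero _), sub_self, zero_div]
  rw [← h1, CenFrame.nuC, ← Finset.add_sum_erase _ _ (Finset.mem_range.2 he),
    ← Finset.add_sum_erase _ _ (Finset.mem_range.2 he), Finset.sum_congr rfl fun i hi => by
      rw [hv i (Nat.not_dvd_of_pos_of_lt (Nat.pos_of_ne_zero (Finset.ne_of_mem_erase hi))
        (Finset.mem_range.1 (Finset.mem_of_mem_erase hi))), ← mul_pow]]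
  simp only [pow_zero]
  ring

theorem OneStr.congr {M : Ideal AlgInt} {ι : Type v} [Fintype ι] [DecidableEq ι]
    {X : G →* Matrix ι ι (valO M)} {u h : G} {d d' : ℕ} {v : resK M} {y : ι → resK M}
    (S : OneStr p X u h d v y) (hd : d = d') : OneStr p X u h d' v y := hd ▸ S

namespace ExcFam
variable (E : ExcFam F φ)

section
variable [Fintype ((P : Subgroup G) →* ℂˣ)] [DecidableEq ((P : Subgroup G) →* ℂˣ)]

theorem sum_cmult_le {χ : G → ℂ} (hχ : IsCharacter G χ) (hφ : OverCen φ χ) {ε : ℂ}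
    (hε : ε ^ F.e = φ ⟨_, F.h_pow_mem⟩) {l : (P : Subgroup G) →* ℂˣ} (hl : l ≠ 1)
    (h0 : F.nuC ε (E.ψ l).1 ≠ 0) : ∃ n : ℕ, F.nuC ε χ = F.e * n ∧
      ∑ m ∈ Finset.univ.erase 1, cmult χ (E.ψ m).1 ≤ F.e * n := by
  classical
  have h1 : ∀ η : IrrCharacter G, ∃ n : ℕ, OverCen φ η.1 → F.nuC ε η.1 = F.e * n := fun η => by
    by_cases h : OverCen φ η.1
    · exact (F.exists_nat_nu η.isCharacter h hε).imp fun _ h _ => h
    · exact ⟨0, fun h' => absurd h' h⟩
  choose ν hν using h1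
  refine ⟨_, ?_, le_trans (Finset.sum_le_sum fun m hm => Nat.le_mul_of_pos_right _ ?_)
    (E.sum_cmult_mul_le χ ν)⟩
  · have h2 : F.nuC ε χ = ∑ η : IrrCharacter G, cmult χ η.1 * F.nuC ε η.1 := by
      simp only [CenFrame.nuC, hχ.fixDim_eq_sum, mul_add, mul_sub, Finset.sum_add_distrib,
        Finset.sum_sub_distrib, Finset.mul_sum, Nat.cast_sum, Nat.cast_mul]
      rw [Finset.sum_comm, ← hχ.eq_sum_cmult]
      congr 1
      refine Finset.sum_congr rfl fun i _ => ?_
      rw [hχ.eq_sum_cmult, Finset.mul_sum]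
      exact Finset.sum_congr rfl fun η _ => by ring
    rw [h2, Nat.cast_sum, Finset.mul_sum]
    refine Finset.sum_congr rfl fun η _ => ?_
    by_cases h : cmult χ η.1 = 0
    · simp [h]
    · rw [hν η (hφ.of_constituent ((hχ.cmult_ne_zero_iff η.isCharacter).1 h))]
      push_cast
      ring
  · have hm1 := Finset.ne_of_mem_erase hm
    refine Nat.pos_of_ne_zero fun h => h0 ?_
    have h2 := hν _ (E.cen m hm1)
    have h3 : (fixDim P (E.ψ l).1 : ℤ) = fixDim P (E.ψ m).1 :=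
      mul_left_cancel₀ (Nat.cast_ne_zero.2 hp.out.ne_zero) (by
        rw [E.card_mul_fixDim hl, E.card_mul_fixDim hm1, E.deg_eq hl hm1])
    rw [h, Nat.cast_zero, mul_zero] at h2
    rw [← h2, CenFrame.nuC, CenFrame.nuC, Nat.cast_injective h3, E.one_eq hl hm1]
    simp only [E.reg l m hl hm1 _ (F.h_reg _)]

theorem sum_cmult_eq {χ : G → ℂ} (hχ : IsCharacter G χ) (hφ : OverCen φ χ)
    {l : (P : Subgroup G) →* ℂˣ} (hl : l ≠ 1) :
    ((∑ m ∈ Finset.univ.erase 1, cmult χ (E.ψ m).1 : ℕ) : ℤ) +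
      E.δ * (charDegree χ - fixDim P χ) =
        (p - 1) * (cmult χ (E.ψ l).1 + E.δ * rmul P χ l) := by
  have : IsMulCommutative (P : Subgroup G) :=
    ⟨⟨fun a b => Subtype.ext (le_centralizer_of_card_prime F.card b.2 a a.2)⟩⟩
  have h1 := hχ.sum_rmul (P : Subgroup G)
  rw [← Finset.add_sum_erase _ _ (Finset.mem_univ 1), hχ.rmul_one] at h1
  have h2 := Finset.sum_congr (s₁ := Finset.univ.erase 1) rfl fun m hm =>
    E.inner χ hχ hφ m l (Finset.ne_of_mem_erase hm) hl
  rw [Finset.sum_const, Finset.card_erase_of_mem (Finset.mem_univ _), Finset.card_univ,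
    ← Nat.card_eq_fintype_card, card_unitsHom_of_card_prime F.card, Finset.sum_add_distrib,
    ← Finset.mul_sum, nsmul_eq_mul, Nat.cast_pred hp.out.pos] at h2
  rw [← h2, ← h1]
  push_cast
  ring

end

theorem mul_fixDim_normalizer {χ : G → ℂ} (hχ : IsCharacter G χ) (hφ : OverCen φ χ) {γ : ℂ}
    (hγ : γ ^ F.e = φ ⟨_, F.h_pow_mem⟩) (hv : ∀ i, ¬ F.e ∣ i → χ (F.h ^ i) = γ ^ i)
    {l : (P : Subgroup G) →* ℂˣ} (hl : l ≠ 1) {b : ℕ}
    (hb : (F.e : ℂ) * b = ∑ i ∈ Finset.range F.e, γ⁻¹ ^ i * (E.ψ l).1 (F.h ^ i)) :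
    (F.e : ℤ) * fixDim (Subgroup.normalizer ((P : Subgroup G) : Set G))
      (χ * fun g => conj ((E.ψ l).1 g)) = charDegree χ * fixDim P (E.ψ l).1 -
        E.δ * F.e * rmul P χ l + (F.e * b - charDegree (E.ψ l).1) := by
  have := Fintype.ofFinite (P : Subgroup G)
  have he := F.e_pos
  have h1 := F.card_mul_fixDim_normalizer (hχ.mul (E.ψ l).isCharacter.conj)
    (mul_inv_cancel φ ▸ hφ.mul (E.cen l hl).cconj) rfl
  have h2 := F.sum_mul_conj_of_val hχ (E.val l hl)
  have h3 : (p : ℂ) * fixDim P (E.ψ l).1 = charDegree (E.ψ l).1 + E.δ * F.e := by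
    exact_mod_cast E.card_mul_fixDim hl
  have h4 := congrArg conj hb
  simp only [map_mul, map_natCast, map_sum, map_pow, F.conj_inv_eq hγ] at h4
  rw [← Finset.add_sum_erase _ _ (Finset.mem_range.2 he)] at h1 h4
  rw [Finset.sum_congr (s₁ := (Finset.range F.e).erase 0) rfl
    (g := fun i => γ ^ i * conj ((E.ψ l).1 (F.h ^ i))) fun i hi => by
      rw [Pi.mul_apply, hv i (Nat.not_dvd_of_pos_of_lt
        (Nat.pos_of_ne_zero (Finset.ne_of_mem_erase hi))
        (Finset.mem_range.1 (Finset.mem_of_mem_erase hi)))]] at h1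
  simp only [Pi.mul_apply, pow_zero, h2, IrrCharacter.one_eq_charDegree, map_natCast,
    hχ.one_eq_charDegree, one_mul] at h1 h4
  have hp0 : (p : ℂ) ≠ 0 := by exact_mod_cast hp.out.ne_zero
  have h5 : (F.e : ℂ) * fixDim (Subgroup.normalizer ((P : Subgroup G) : Set G))
      (χ * fun g => conj ((E.ψ l).1 g)) = charDegree χ * fixDim P (E.ψ l).1 -
        E.δ * F.e * rmul P χ l + (F.e * b - charDegree (E.ψ l).1) :=
    mul_left_cancel₀ hp0 (by
      push_cast at h1
      linear_combination h1 - charDegree χ * h3 - p * h4)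
  exact_mod_cast h5

theorem toolT (h2 : p ≠ 2) {θ : Subgroup.center G →* ℂˣ} (E : ExcFam F (θ * θ))
    {ζ ζ' : IrrCharacter G} (hθ : OverCen θ ζ.1) (hθ' : OverCen θ ζ'.1)
    (hd : charDegree ζ.1 + F.e = p) (hd' : charDegree ζ'.1 + F.e = p) {β : ℂ}
    (hβ : β ^ F.e = θ ⟨_, F.h_pow_mem⟩) (hv : ∀ i, ¬ F.e ∣ i → ζ.1 (F.h ^ i) = β ^ i)
    (hv' : ∀ i, ¬ F.e ∣ i → ζ'.1 (F.h ^ i) = β ^ i) {l : (P : Subgroup G) →* ℂˣ} (hl : l ≠ 1)
    (h3 : 3 * F.e < p) :
    (E.δ = 1 ∧ ∃ γ : ℂ, γ ^ F.e = (θ * θ) ⟨_, F.h_pow_mem⟩ ∧ F.nuC γ (E.ψ l).1 ≠ 0 ∧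
      (γ = β * β → p ≤ cmult (ζ.1 * ζ'.1) (E.ψ l).1 + rmul P (ζ.1 * ζ'.1) l + F.e) ∧
      2 * p ≤ 2 * (cmult (ζ.1 * ζ'.1) (E.ψ l).1 + rmul P (ζ.1 * ζ'.1) l) + 3 * F.e) ∨
    (E.δ = -1 ∧ rmul P (ζ.1 * ζ'.1) l + 2 * F.e ≤ cmult (ζ.1 * ζ'.1) (E.ψ l).1 + p ∧
      (charDegree (E.ψ l).1 = F.e ∨
        ∃ γ : ℂ, γ ^ F.e = (θ * θ) ⟨_, F.h_pow_mem⟩ ∧ F.nuC γ (E.ψ l).1 ≠ 0)) := by
  classical
  obtain ⟨M, hM⟩ := exists_isPModular hp.out
  have := hM.charP
  have he := F.e_pos
  obtain ⟨u, hu, hu1⟩ := exists_ne_one_of_card_prime F.card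
  obtain ⟨X, hX, y, S⟩ := F.exists_oneStr h2 hM ζ hθ hd hu hu1 hβ hv
  obtain ⟨X', hX', y', S'⟩ := F.exists_oneStr h2 hM ζ' hθ' hd' hu hu1 hβ hv'
  obtain ⟨q, hq⟩ : ∃ q, p = (q + 1) * F.e + 1 := by
    obtain ⟨t, ht⟩ := F.e_dvd
    rcases t with _ | q
    · omega
    · exact ⟨q, by rw [mul_comm, ← ht]; omega⟩
  have hdq : charDegree ζ.1 = q * F.e + 1 := by rw [add_one_mul] at hq; omega
  have hdq' : charDegree ζ'.1 = q * F.e + 1 := by rw [add_one_mul] at hq; omega
  have B := (S.congr hdq).isBiString (S'.congr hdq') (F.pow_p hu) F.not_dvd_j (F.hconj u hu)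
  have hγ : (β * β) ^ F.e = (θ * θ) ⟨_, F.h_pow_mem⟩ := by rw [mul_pow, hβ]; rfl
  have hβv := mem_valO_iff.2 (F.valM_eq_one (M := M) hβ).le
  rw [← red_mul hβv hβv] at B
  obtain ⟨W, hW, f, s, wt, z, T, hs, hsn, hwt, hdeg⟩ :=
    F.exists_strings (M := M) h2 (E.ψ l) (E.cen l hl) hu hu1 hγ
  set χ := ζ.1 * ζ'.1 with hχ
  have hχc : IsCharacter G χ := ζ.isCharacter.mul ζ'.isCharacter
  have hχX : ∀ g, ((kronRep X X' g).trace : ℂ) = χ g := fun g => by
    rw [trace_kronRep, Subring.coe_mul, hX, hX']; rfl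
  set v := red M (β * β) with hvdef
  have hv0 : v ≠ 0 := F.red_ne_zero hγ
  have hwt0 : ∀ i, wt i ≠ 0 := fun i h => pow_ne_zero F.e hv0 (by rw [← hwt i, h, zero_pow he.ne'])
  have hα := F.primK (resK M)
  -- weight multiplicities
  have hb : ∀ a, a ^ F.e = v ^ F.e → finrank (resK M) ((redRep W F.h).eigenspace a) =
      ((Finset.range (s none)).filter fun i => wt none * (F.j : resK M) ^ i = a).card +
        (f * (q + 1) + ∑ i, if wt (some i) = a then 1 else 0) := fun a ha => by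
    rw [T.finrank_eigenspace (F.semi_pseudoLog W hu), Fintype.sum_option, Finset.sum_congr rfl
      fun i _ => by
        rw [(hs i).trans hq, card_filter_mul_pow_succ hα he.ne' (hwt0 _) (ha.trans (hwt _).symm)],
      Finset.sum_add_distrib, Finset.sum_const, Finset.card_fin, smul_eq_mul]
  have hlift : ∀ i, ∃ γ : ℂ, γ ^ F.e = (θ * θ) ⟨_, F.h_pow_mem⟩ ∧ red M γ = wt i := fun i => by
    obtain ⟨c, hc, hc'⟩ := hM.exists_lift_rootOfUnity (x := wt i / v) F.not_dvd_e
      (by rw [div_pow, hwt, div_self (pow_ne_zero _ hv0)])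
    refine ⟨β * β * c, by rw [mul_pow, hγ, hc, mul_one], ?_⟩
    rw [red_mul (mul_mem hβv hβv) (mem_valO_iff.2 (valM_eq_one_of_pow_eq_one he.ne' hc).le), hc',
      mul_div_cancel₀ _ hv0]
  have hnu : ∀ γ : ℂ, γ ^ F.e = (θ * θ) ⟨_, F.h_pow_mem⟩ → F.nuC γ (E.ψ l).1 = 0 →
      fixDim P (E.ψ l).1 + F.e * finrank (resK M) ((redRep W F.h).eigenspace (red M γ)) =
        s none + f * p := fun γ hγ h => by
    rw [CenFrame.nuC, ← F.mul_finrank_eigenspace hW (E.cen l hl) hM hγ,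
      IrrCharacter.one_eq_charDegree] at h
    have : (fixDim P (E.ψ l).1 + F.e * finrank (resK M) ((redRep W F.h).eigenspace (red M γ)) : ℂ) =
        charDegree (E.ψ l).1 := by linear_combination h
    exact hdeg ▸ (by exact_mod_cast this)
  -- the bound
  have := Fintype.ofFinite (Subgroup.normalizer ((P : Subgroup G) : Set G))
  have h4 := hM.fixDim_le_add_finrank (kronRep (kronRep X X') (dualRep W)) P F.card rfl
  have h5 := finrank_range_sum_linHom_le (redRep (kronRep X X')) P F.card hu hu1 (redRep W) h2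
    Subgroup.le_normalizer F.h_mem T
  have h6 : (fun g => ((kronRep (kronRep X X') (dualRep W) g).trace : ℂ)) =
      χ * fun g => conj ((E.ψ l).1 g) := funext fun g => by
    rw [trace_kronRep, Subring.coe_mul, hχX, trace_dualRep, hW, IrrCharacter.apply_inv]; rfl
  have h7 : fixDim ⊤ (χ * fun g => conj ((E.ψ l).1 g)) = cmult χ (E.ψ l).1 := by
    have h8 := (hχc.mul (E.ψ l).isCharacter.conj).card_mul_fixDim ⊤
    have hG : (Nat.card G : ℂ) ≠ 0 := by exact_mod_cast Nat.card_pos.ne'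
    refine (cmult_eq_of ?_).symm
    rw [classInner_def, inv_mul_eq_iff_eq_mul₀ hG, ← Subgroup.card_top, h8]
    exact (Subgroup.topEquiv.toEquiv.sum_comp _).symm
  rw [finrank_range_sum_kron_dual, h6, h7] at h4
  have h8 := E.mul_fixDim_normalizer hχc (hθ.mul hθ') hγ (fun i hi => by
    rw [hχ, Pi.mul_apply, hv i hi, hv' i hi, mul_pow]) hl
    (F.mul_finrank_eigenspace hW (E.cen l hl) hM hγ)
  rw [Fintype.sum_option, Finset.sum_congr rfl (g := fun i => (q * F.e + 2) * q +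
      if wt (some i) = v then 1 else 0) fun i _ => by
    rw [hs, Nat.sub_self, pow_zero, Module.End.one_eq_id, LinearMap.range_id, inf_top_eq,
      B.finrank_eigenspace hα he.ne' hv0 (hwt _)]
    simp only [eq_comm], Finset.sum_add_distrib, Finset.sum_const, Finset.card_fin,
    smul_eq_mul] at h5
  obtain ⟨a, ha, hac, hS⟩ := exists_kron_add_eq X X' h2 (F.pow_p hu)
  rw [← range_pow_eq_of_eq_mul ha hac hS] at h5
  rw [hb v rfl, show charDegree χ = (q * F.e + 1) * (q * F.e + 1) from charDegree_eq_of_one_eq (by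
    rw [hχ, Pi.mul_apply, ζ.one_eq_charDegree, ζ'.one_eq_charDegree, hdq, hdq', Nat.cast_mul]),
    hdeg] at h8
  have h9 := E.card_mul_fixDim hl
  rw [hdeg] at h9
  have h10 := Nat.mul_le_mul_left F.e (h4.trans (Nat.add_le_add_left h5 _))
  have hpZ : (p : ℤ) = (q + 1) * F.e + 1 := by exact_mod_cast hq
  have hp0 : (0 : ℤ) < p := by exact_mod_cast hp.out.pos
  rcases E.sign with hδ | hδ
  · have h11 : s none + F.e = p := by
      refine Nat.eq_of_dvd_of_lt_two_mul (by omega) ?_ (by omega)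
      zify
      exact ⟨fixDim P (E.ψ l).1 - f, by rw [hδ] at h9; push_cast at h9; linear_combination -h9⟩
    have h12 : s none = q * F.e + 1 := by omega
    have h13 : fixDim P (E.ψ l).1 = f + 1 := by
      refine Nat.eq_of_mul_eq_mul_left hp.out.pos ?_
      zify at h11 ⊢
      rw [hδ] at h9; push_cast at h9; linear_combination h9 + h11
    have key : ∀ n, wt none = v * (F.j : resK M) ^ n → (Finset.univ.filter
        fun r : Fin (q * F.e + 1) × Fin (q * F.e + 1) => (r.1 + r.2 : ℕ) = n).card ≤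
          cmult χ (E.ψ l).1 + rmul P χ l := fun n hn => by
      have h14 := B.finrank_inf_range_add_le (F.e_ne_zeroK _) hα hv0 n
      rw [← hn, B.finrank_eigenspace hα he.ne' hv0 (hwt _)] at h14
      rw [show p - s none = F.e by omega] at h10
      rw [h12, card_filter_mul_pow_succ hα he.ne' (hwt0 _) (hwt _).symm, h13, hδ] at h8
      refine Nat.le_of_mul_le_mul_left ?_ he
      have h15 := Nat.mul_le_mul_left F.e h14
      simp only [eq_comm (a := v)] at h15
      zify at h10 h15 ⊢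
      push_cast at h8
      linear_combination h10 + h15 - h8 + f * hpZ
    obtain ⟨γ, hγ1, hγ2⟩ := hlift none
    refine Or.inl ⟨hδ, γ, hγ1, fun h => ?_, fun h => ?_, ?_⟩
    · have h14 := hnu γ hγ1 h
      rw [hγ2, hb _ (hwt _), h12, card_filter_mul_pow_succ hα he.ne' (hwt0 _) rfl, if_pos rfl,
        h13] at h14
      zify at h14
      have : (0 : ℤ) ≤ F.e * ∑ i, if wt (some i) = wt none then 1 else 0 := by positivity
      nlinarith
    · have h14 := (card_filter_fin_add_eq (Nat.lt_succ_self _)).trans (key (q * F.e) (by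
        rw [pow_mul', hα.pow_eq_one, one_pow, mul_one, ← hγ2, h]))
      omega
    · have : NeZero F.e := ⟨he.ne'⟩
      obtain ⟨i, hi, h⟩ := hα.eq_pow_of_pow_eq_one (ξ := wt none / v)
        (by rw [div_pow, hwt, div_self (pow_ne_zero _ hv0)])
      rw [eq_div_iff hv0, mul_comm] at h
      by_cases h14 : 2 * i ≤ F.e
      · have h15 := key (q * F.e + i) (by
          rw [pow_add, pow_mul', hα.pow_eq_one, one_pow, one_mul, h])
        have := card_filter_fin_add_eq' (d := q * F.e + 1) (n := q * F.e + i) (by omega)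
        omega
      · obtain ⟨q, rfl⟩ : ∃ r, q = r + 1 := ⟨q - 1, by
          rcases q with _ | q <;> omega⟩
        have h15 := key (q * F.e + i) (by
          rw [pow_add, pow_mul', hα.pow_eq_one, one_pow, one_mul, h])
        have h16 := add_one_mul q F.e
        have := card_filter_fin_add_eq (d := (q + 1) * F.e + 1) (n := q * F.e + i) (by omega)
        omega
  · have h11 : s none = F.e := by
      have h12 : p ∣ s none + (p - F.e) := by
        zify [show F.e ≤ p by omega]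
        exact ⟨fixDim P (E.ψ l).1 - f + 1, by
          rw [hδ] at h9; push_cast at h9; linear_combination -h9⟩
      have := Nat.eq_of_dvd_of_lt_two_mul (by omega) h12 (by omega)
      omega
    have h13 : fixDim P (E.ψ l).1 = f := by
      refine Nat.eq_of_mul_eq_mul_left hp.out.pos ?_
      zify at h11 ⊢
      rw [hδ] at h9; push_cast at h9; linear_combination h9 + h11
    have hcnt : ∀ a, a ^ F.e = v ^ F.e →
        ((Finset.range (s none)).filter fun i => wt none * (F.j : resK M) ^ i = a).card = 1 :=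
      fun a ha => by
        rw [h11, ← card_filter_mul_pow hα he.ne' (hwt0 none) (ha.trans (hwt _).symm) 1, one_mul]
    refine Or.inr ⟨hδ, ?_, ?_⟩
    · have h14 := B.finrank_inf_range_le (p := p) (F.e_ne_zeroK _) hα hv0 (by omega) (by omega)
        (hwt none)
      rw [show p - s none = q * F.e + 1 by omega] at h10
      rw [hcnt v rfl, h11, h13, hδ] at h8
      refine Nat.le_of_mul_le_mul_left ?_ he
      have h15 := Nat.mul_le_mul_left F.e h14
      zify [show F.e ≤ q * F.e + 1 by omega] at h10 h15 ⊢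
      push_cast at h8
      linear_combination h10 + h15 - h8 + (f - F.e) * hpZ
    · rcases f with _ | f
      · exact Or.inl (by omega)
      obtain ⟨γ, hγ1, hγ2⟩ := hlift (some 0)
      refine Or.inr ⟨γ, hγ1, fun h => ?_⟩
      have h14 := hnu γ hγ1 h
      rw [hγ2, hb _ (hwt _), hcnt _ (hwt _), h11, h13, Fin.sum_univ_succ, if_pos rfl] at h14
      zify at h14
      have : (0 : ℤ) ≤ F.e * ∑ i : Fin f, if wt (some i.succ) = wt (some 0) then 1 else 0 := by
        positivity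
      nlinarith

end ExcFam

end Cfsg
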